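import Cfsg.Agent.H20.J4.I

/-! Generated by tools/h0/tr.py. -/

set_option maxRecDepth 100000
set_option maxHeartbeats 0

namespace H20.J4
open H16 H0.TR

noncomputable def tat_W : List (List ℕ) := [[nat_lit 0, nat_lit 2, nat_lit 6, nat_lit 1, nat_lit 4, nat_lit 7, nat_lit 6, nat_lit 0, nat_lit 2],
  [nat_lit 6, nat_lit 2, nat_lit 7, nat_lit 6],
  [nat_lit 8, nat_lit 5, nat_lit 6, nat_lit 2, nat_lit 7, nat_lit 6, nat_lit 4, nat_lit 8],
  [nat_lit 8, nat_lit 2, nat_lit 4, nat_lit 6, nat_lit 7, nat_lit 6, nat_lit 2, nat_lit 7, nat_lit 8],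
  [nat_lit 11],
  [nat_lit 7, nat_lit 6, nat_lit 2, nat_lit 7, nat_lit 6, nat_lit 2],
  [nat_lit 2, nat_lit 7],
  [nat_lit 2, nat_lit 6, nat_lit 2]]
noncomputable def tat_P : ℕ → ℕ → ℕ := wdsP A0.P tat_W
noncomputable def taPd : List ℕ := [nat_lit 0x1cb546476550fa4ccd824a418820,
  nat_lit 0x2276baab34a698218aa3ca418820,
  nat_lit 0x247555cb7c50c84d2da184321420,
  nat_lit 0x1d06c6547d66c3a12a5986229020,
  nat_lit 0x1c75464b3550984d8da3c6229001,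
  nat_lit 0x2124d17541d8d89a6f728a418820,
  nat_lit 0x26faa1a9a2a2b63a1231ca418820,
  nat_lit 0x2119ae9561d0f9292d718a320820]
noncomputable def taP (k u : ℕ) : ℕ := Nat.land (Nat.shiftRight (nth (nat_lit 0) taPd k) (Nat.mul u (nat_lit 5))) (nat_lit 31)
noncomputable def taEd : ℕ := nat_lit 0x2d49c60f6b16941cc518aaa206e0
noncomputable def taE (u : ℕ) : ℕ := Nat.land (Nat.shiftRight taEd (Nat.mul u (nat_lit 5))) (nat_lit 31)
noncomputable def taId : ℕ := nat_lit 0xd4b498251801ee6918b5250339840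
noncomputable def taI (u : ℕ) : ℕ := Nat.land (Nat.shiftRight taId (Nat.mul u (nat_lit 5))) (nat_lit 31)
noncomputable def taB : List ℕ := [nat_lit 0, nat_lit 2, nat_lit 6, nat_lit 7, nat_lit 8, nat_lit 3]
noncomputable def taC : List (List (List ℕ)) := [[[],
  [],
  [],
  [],
  [],
  [],
  [],
  []], [[],
  [],
  [],
  [],
  [],
  [],
  [],
  [nat_lit 0]], [[],
  [],
  [],
  [],
  [],
  [nat_lit 0],
  [nat_lit 1],
  []], [[],
  [],
  [],
  [],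
  [],
  [nat_lit 1],
  [nat_lit 0, nat_lit 1],
  [nat_lit 2]], [[],
  [],
  [],
  [],
  [],
  [nat_lit 0, nat_lit 1],
  [],
  [nat_lit 0, nat_lit 2]], [[],
  [],
  [],
  [],
  [],
  [],
  [],
  []], [[],
  [],
  [],
  [],
  [],
  [],
  [],
  [nat_lit 5]], [[],
  [],
  [],
  [],
  [],
  [],
  [],
  []]]
noncomputable def tae : List (List ℕ) := [[],
  [],
  [],
  [],
  [nat_lit 7],
  [nat_lit 6],
  [],
  [nat_lit 5],
  [],
  [nat_lit 5, nat_lit 7],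
  [nat_lit 0, nat_lit 6],
  [nat_lit 0, nat_lit 6],
  [nat_lit 6],
  [nat_lit 6, nat_lit 7],
  [nat_lit 6],
  [nat_lit 0, nat_lit 6],
  [nat_lit 0, nat_lit 7],
  [nat_lit 1, nat_lit 7],
  [nat_lit 6],
  [nat_lit 5],
  [nat_lit 3, nat_lit 5],
  [nat_lit 2, nat_lit 3, nat_lit 5],
  [nat_lit 1, nat_lit 6, nat_lit 7],
  [nat_lit 6, nat_lit 7],
  [nat_lit 0, nat_lit 3],
  [nat_lit 6],
  [nat_lit 1, nat_lit 3, nat_lit 6, nat_lit 7],
  [nat_lit 2, nat_lit 6, nat_lit 7],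
  [nat_lit 0, nat_lit 1, nat_lit 5, nat_lit 7],
  [nat_lit 1, nat_lit 7],
  [nat_lit 2, nat_lit 3, nat_lit 4, nat_lit 7]]
noncomputable def tal0Dd : ℕ := nat_lit 0x3c0
noncomputable def tal0D (u : ℕ) : ℕ := Nat.land (Nat.shiftRight tal0Dd (Nat.mul u (nat_lit 5))) (nat_lit 31)
noncomputable def tal0Pd : ℕ := nat_lit 2
noncomputable def tal0P (u : ℕ) : ℕ := Nat.land (Nat.shiftRight tal0Pd (Nat.mul u (nat_lit 1))) (nat_lit 1)
noncomputable def tal0Qd : ℕ := nat_lit 2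
noncomputable def tal0Q (u : ℕ) : ℕ := Nat.land (Nat.shiftRight tal0Qd (Nat.mul u (nat_lit 1))) (nat_lit 1)
noncomputable def tal0 : Lev := ⟨2, 31, tal0D, tal0P, tal0Q⟩
noncomputable def tal1Dd : ℕ := nat_lit 0xf99500
noncomputable def tal1D (u : ℕ) : ℕ := Nat.land (Nat.shiftRight tal1Dd (Nat.mul u (nat_lit 6))) (nat_lit 63)
noncomputable def tal1Pd : ℕ := nat_lit 0xae2
noncomputable def tal1P (u : ℕ) : ℕ := Nat.land (Nat.shiftRight tal1Pd (Nat.mul u (nat_lit 3))) (nat_lit 7)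
noncomputable def tal1Qd : ℕ := nat_lit 0xd80
noncomputable def tal1Q (u : ℕ) : ℕ := Nat.land (Nat.shiftRight tal1Qd (Nat.mul u (nat_lit 2))) (nat_lit 3)
noncomputable def tal1 : Lev := ⟨4, 21, tal1D, tal1P, tal1Q⟩
noncomputable def tal2Dd : ℕ := nat_lit 0xc98e3dfbcd5a234458890141c280
noncomputable def tal2D (u : ℕ) : ℕ := Nat.land (Nat.shiftRight tal2Dd (Nat.mul u (nat_lit 7))) (nat_lit 127)
noncomputable def tal2Pd : ℕ := nat_lit 0x5b63462272ab9e9828e6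
noncomputable def tal2P (u : ℕ) : ℕ := Nat.land (Nat.shiftRight tal2Pd (Nat.mul u (nat_lit 5))) (nat_lit 31)
noncomputable def tal2Qd : ℕ := nat_lit 0x7c98d356ebf24a10000000
noncomputable def tal2Q (u : ℕ) : ℕ := Nat.land (Nat.shiftRight tal2Qd (Nat.mul u (nat_lit 4))) (nat_lit 15)
noncomputable def tal2 : Lev := ⟨16, 18, tal2D, tal2P, tal2Q⟩
noncomputable def tal3Dd : ℕ := nat_lit 0x20
noncomputable def tal3D (u : ℕ) : ℕ := Nat.land (Nat.shiftRight tal3Dd (Nat.mul u (nat_lit 3))) (nat_lit 7)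
noncomputable def tal3Pd : ℕ := nat_lit 0x23
noncomputable def tal3P (u : ℕ) : ℕ := Nat.land (Nat.shiftRight tal3Pd (Nat.mul u (nat_lit 3))) (nat_lit 7)
noncomputable def tal3Qd : ℕ := nat_lit 0x10
noncomputable def tal3Q (u : ℕ) : ℕ := Nat.land (Nat.shiftRight tal3Qd (Nat.mul u (nat_lit 1))) (nat_lit 1)
noncomputable def tal3 : Lev := ⟨2, 5, tal3D, tal3P, tal3Q⟩
noncomputable def cvr_W : List (List ℕ) := [[nat_lit 0],
  [nat_lit 2, nat_lit 7, nat_lit 6, nat_lit 11],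
  [nat_lit 11]]
noncomputable def cvr_P : ℕ → ℕ → ℕ := wdsP A0.P cvr_W
noncomputable def cvT0 : CT := (.split (.more (.split (.more (.split (.more (.split (.more (.split (.more (.split (.more (.split (.more (.split (.more .one (.more (.leaf (nat_lit 0) [nat_lit 0, nat_lit 3, nat_lit 6, nat_lit 2, nat_lit 7, nat_lit 6, nat_lit 0, nat_lit 3]) .one))) (.more (.fuse [nat_lit 7] [] (.leaf (nat_lit 0) [nat_lit 11, nat_lit 6, nat_lit 0, nat_lit 1, nat_lit 2, nat_lit 6, nat_lit 0, nat_lit 7, nat_lit 6, nat_lit 2])) .one))) (.more (.fuse [nat_lit 6] [] (.fuse [nat_lit 5] [] (.leaf (nat_lit 0) [nat_lit 0, nat_lit 1, nat_lit 3, nat_lit 7, nat_lit 6, nat_lit 1, nat_lit 4, nat_lit 8, nat_lit 7, nat_lit 11]))) .one))) (.more (.fuse [nat_lit 7] [] (.fuse [nat_lit 5] [] (.fuse [nat_lit 5, nat_lit 6] [] (.leaf (nat_lit 0) [nat_lit 6, nat_lit 5, nat_lit 7, nat_lit 8, nat_lit 7, nat_lit 6, nat_lit 5]))))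 .one))) (.more (.split (.more (.fuse [nat_lit 7] [nat_lit 0] (.fuse [nat_lit 5] [nat_lit 0] (.split (.more (.leaf (nat_lit 2) []) (.more (.leaf (nat_lit 1) [nat_lit 0, nat_lit 1, nat_lit 3, nat_lit 6, nat_lit 0, nat_lit 3, nat_lit 7]) .one))))) (.more (.split (.more (.fuse [nat_lit 6] [nat_lit 0] (.fuse [nat_lit 5] [] (.leaf (nat_lit 1) [nat_lit 1, nat_lit 6, nat_lit 0, nat_lit 7, nat_lit 6, nat_lit 1, nat_lit 8, nat_lit 7, nat_lit 6, nat_lit 4]))) (.more (.split (.more (.fuse [nat_lit 6] [] (.leaf (nat_lit 2) [nat_lit 0, nat_lit 1, nat_lit 3, nat_lit 6, nat_lit 5])) (.more (.fuse [nat_lit 6] [] (.leaf (nat_lit 1) [nat_lit 0, nat_lit 1, nat_lit 3, nat_lit 5])) .one))) .one))) .one))) .one))) (.more (.split (.more (.split (.more (.split (.more (.fuse [nat_lit 3] [] (.fuse [nat_lit 2] [] (.leaf (nat_lit 0) [nat_lit 0, nat_lit 1, nat_lit 6, nat_lit 3, nat_lit 7, nat_lit 6, nat_lit 0,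 nat_lit 1]))) (.more (.fuse [nat_lit 3] [] (.fuse [nat_lit 2] [] (.prune (nat_lit 0) (nat_lit 1) []))) .one))) (.more (.fuse [nat_lit 7] [] (.fuse [nat_lit 3] [] (.prune (nat_lit 1) (nat_lit 1) []))) .one))) (.more (.split (.more (.fuse [nat_lit 7] [nat_lit 0] (.fuse [nat_lit 3] [] (.prune (nat_lit 1) (nat_lit 1) [nat_lit 0]))) (.more (.split (.more (.fuse [nat_lit 3] [] (.fuse [nat_lit 2] [] (.prune (nat_lit 0) (nat_lit 1) []))) (.more (.fuse [nat_lit 3] [] (.fuse [nat_lit 2] [] (.leaf (nat_lit 2) [nat_lit 2, nat_lit 3, nat_lit 5, nat_lit 6, nat_lit 3]))) .one))) .one))) .one))) .one))) (.more (.fuse [nat_lit 7] [] (.split (.more (.split (.more (.split (.more (.fuse [nat_lit 2] [] (.fuse [nat_lit 2, nat_lit 3] [] (.leaf (nat_lit 0) [nat_lit 0, nat_lit 1, nat_lit 6, nat_lit 0, nat_lit 7, nat_lit 6]))) (.more (.fuse [nat_lit 2] [] (.prune (nat_lit 1) (nat_lit 1) [])) .one))) (.more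 (.split (.more (.fuse [nat_lit 2] [] (.prune (nat_lit 1) (nat_lit 1) [nat_lit 0])) (.more (.fuse [nat_lit 2] [] (.fuse [nat_lit 2, nat_lit 3] [] (.prune (nat_lit 0) (nat_lit 1) []))) .one))) .one))) (.more (.split (.more (.split (.more (.fuse [nat_lit 2] [] (.fuse [nat_lit 2, nat_lit 3] [] (.leaf (nat_lit 2) [nat_lit 0, nat_lit 4, nat_lit 6, nat_lit 4, nat_lit 8, nat_lit 7, nat_lit 6, nat_lit 0, nat_lit 1]))) (.more (.fuse [nat_lit 2] [] (.prune (nat_lit 1) (nat_lit 1) [])) .one))) (.more (.split (.more (.fuse [nat_lit 2] [] (.prune (nat_lit 1) (nat_lit 1) [nat_lit 0])) (.more (.fuse [nat_lit 2] [] (.fuse [nat_lit 2, nat_lit 3] [] (.prune (nat_lit 0) (nat_lit 1) []))) .one))) .one))) .one)))) .one))) (.more (.split (.more (.fuse [nat_lit 6] [] (.split (.more (.split (.more (.fuse [nat_lit 3] [] (.split (.more (.fuse [nat_lit 1] [] (.leaf (nat_lit 0) [nat_lit 0, nat_lit 2, nat_lit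 6])) (.more (.fuse [nat_lit 1] [] (.prune (nat_lit 0) (nat_lit 1) [])) .one)))) (.more (.fuse [nat_lit 3] [] (.prune (nat_lit 2) (nat_lit 1) [])) .one))) (.more (.split (.more (.fuse [nat_lit 3] [] (.prune (nat_lit 2) (nat_lit 1) [nat_lit 0])) (.more (.fuse [nat_lit 3] [] (.split (.more (.fuse [nat_lit 1] [] (.prune (nat_lit 0) (nat_lit 1) [])) (.more (.fuse [nat_lit 1] [] (.leaf (nat_lit 1) [nat_lit 1, nat_lit 6, nat_lit 0, nat_lit 3, nat_lit 7, nat_lit 8, nat_lit 7, nat_lit 6, nat_lit 0])) .one)))) .one))) .one)))) (.more (.fuse [nat_lit 6] [] (.prune (nat_lit 5) (nat_lit 1) [])) .one))) .one)))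
noncomputable def e5cd : List ℕ := [nat_lit 0xffbbcdeb38bdab49ca307b9ac5a928398a418820,
  nat_lit 0xffbbcd6f19ad2f684653635cf4a16a31c8518820,
  nat_lit 0xf7f9dc675bad2f69ca3073d8d4254b290e618820,
  nat_lit 0xf7f9dce37abdab4846536b1ee52d09214c718820,
  nat_lit 0xffb9ddeb199ca11bda9552d2873dac31ca410c20,
  nat_lit 0xffb9dd6f3884672ad2d74256a6b1cf3988510c20,
  nat_lit 0xf7fbcce35b84672bda955a909635ee290c710c20,
  nat_lit 0xf7fbcc677a9ca11ad2d74a14b7b98d214e610c20]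
noncomputable def e5c (k u : ℕ) : ℕ := Nat.land (Nat.shiftRight (nth (nat_lit 0) e5cd k) (Nat.mul u (nat_lit 5))) (nat_lit 31)
noncomputable def sqY : List (List ℕ) := [[nat_lit 7],
  [nat_lit 6],
  [nat_lit 4],
  [nat_lit 3]]
noncomputable def sqC : List (List ℕ × List ℕ) := [([nat_lit 0, nat_lit 1], [nat_lit 0, nat_lit 2]), ([nat_lit 1, nat_lit 3], [nat_lit 0, nat_lit 1, nat_lit 0, nat_lit 3]), ([nat_lit 0, nat_lit 2], [nat_lit 0, nat_lit 3]), ([nat_lit 0, nat_lit 1], [nat_lit 0, nat_lit 1, nat_lit 2]), ([nat_lit 0, nat_lit 1], [nat_lit 0, nat_lit 3]), ([nat_lit 0, nat_lit 2], [nat_lit 1, nat_lit 3]), ([nat_lit 0, nat_lit 3], [nat_lit 0, nat_lit 1, nat_lit 2]), ([nat_lit 0, nat_lit 1], [nat_lit 0, nat_lit 2]), ([nat_lit 0, nat_lit 1], [nat_lit 0, nat_lit 2]), ([nat_lit 0, nat_lit 3], [nat_lit 0, nat_lit 1, nat_lit 3]), ([nat_lit 0, nat_lit 2], [nat_lit 1, nat_lit 3]), ([nat_lit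 0, nat_lit 1], [nat_lit 0, nat_lit 3]), ([nat_lit 0, nat_lit 1], [nat_lit 0, nat_lit 2, nat_lit 3]), ([nat_lit 0, nat_lit 2], [nat_lit 0, nat_lit 3]), ([nat_lit 1, nat_lit 3], [nat_lit 0, nat_lit 1, nat_lit 2]), ([nat_lit 0, nat_lit 1], [nat_lit 0, nat_lit 2])]

theorem tat_lt : allL (ltAll 13) tat_W = true := by decide +kernel
theorem ta_r_a : allZ2 (resEnt tat_P taP taE taI (nat_lit 24) (nat_lit 22)) (nat_lit 8) (nat_lit 22) = true := by decide +kernel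
theorem ta_b : neL A0.B (taB.map taE) = 0 ∧ ltAll 22 taB = 0 := by decide +kernel
theorem ta_p : allZ2 (pcEnt taP (nat_lit 2) taB taC) 8 8 = true := by decide +kernel
theorem ta_e : allL (ltAll 8) tae = true := by decide +kernel
theorem tal0_e_0 : allZ (dent tal0 (wdsP taP tae) (nat_lit 22)) (nat_lit 0) (nat_lit 1) = true := by decide +kernel
theorem tal0_h : 0 < tal0.n ∧ 0 < tal0.K ∧ tal0.Pt 0 < 22 ∧ tal0.Q (tal0.Pt 0) = 0 := by decide +kernel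
theorem tal1_e_0 : allZ (dent tal1 (wdsP taP tae) (nat_lit 22)) (nat_lit 0) (nat_lit 3) = true := by decide +kernel
theorem tal1_h : 0 < tal1.n ∧ 0 < tal1.K ∧ tal1.Pt 0 < 22 ∧ tal1.Q (tal1.Pt 0) = 0 := by decide +kernel
theorem tal2_e_0 : allZ (dent tal2 (wdsP taP tae) (nat_lit 22)) (nat_lit 0) (nat_lit 15) = true := by decide +kernel
theorem tal2_h : 0 < tal2.n ∧ 0 < tal2.K ∧ tal2.Pt 0 < 22 ∧ tal2.Q (tal2.Pt 0) = 0 := by decide +kernel
theorem tal3_e_0 : allZ (dent tal3 (wdsP taP tae) (nat_lit 22)) (nat_lit 0) (nat_lit 1) = true := by decide +kernel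
theorem tal3_h : 0 < tal3.n ∧ 0 < tal3.K ∧ tal3.Pt 0 < 22 ∧ tal3.Q (tal3.Pt 0) = 0 := by decide +kernel
theorem ta_f3 : (Nat.ble tal3.K 31 && Nat.ble (topK []) tal3.K && fixLetters (wdsP taP tae) (topK []) (tal3.Pt 0)) = true := by decide +kernel
theorem ta_f2 : (Nat.ble tal2.K 31 && Nat.ble (topK [tal3]) tal2.K && fixLetters (wdsP taP tae) (topK [tal3]) (tal2.Pt 0)) = true := by decide +kernel
theorem ta_f1 : (Nat.ble tal1.K 31 && Nat.ble (topK [tal2, tal3]) tal1.K && fixLetters (wdsP taP tae) (topK [tal2, tal3]) (tal1.Pt 0)) = true := by decide +kernel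
theorem ta_f0 : (Nat.ble tal0.K 31 && Nat.ble (topK [tal1, tal2, tal3]) tal0.K && fixLetters (wdsP taP tae) (topK [tal1, tal2, tal3]) (tal0.Pt 0)) = true := by decide +kernel
theorem ta_c : chainCard [tal0, tal1, tal2, tal3] = 2 ^ 8 ∧ ¬ 2 ^ (8 + 1) ∣ 887040 := by decide +kernel
theorem cvr_lt : allL (ltAll 13) cvr_W = true := by decide +kernel
theorem cv_c0 : (Nat.ble 8 8 && Nat.beq (ltAll 8 []) 0 && Nat.beq (cvT0.chk A0.P taP cvr_P taE 13 8 2 2 3 taB 8 [] 0) 0) = true := by decide +kernel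
theorem e5c_ok : ∀ i < 8, ∀ b < 32, e5c i b < 32 ∧ eqL tat_P 8 A0.B (bw b 5 ++ (bw i 3).map (5 + ·)) ((bw i 3).map (5 + ·) ++ bw (e5c i b) 5) = 0 := by decide +kernel
theorem e5_inj : ∀ a < 32, ∀ b < 32, (∀ β ∈ A0.B, apW tat_P (bw a 5) β = apW tat_P (bw b 5) β) → a = b := by decide +kernel
theorem e5_cm : ∀ a < 5, ∀ b < 5, eqL tat_P 8 A0.B [a, b] [b, a] = 0 := by decide +kernel
theorem e5_chk : ∀ m < 2 ^ 8, 1 < m → ((List.range 8).filter m.testBit).length * ((List.range 32).filter fun b => (List.range 8).all fun i => !m.testBit i || e5c i b == b).length < 32 := by decide +kernel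
theorem sq_ok : ∀ m < 16, ∃ d ∈ sqC, (∀ k ∈ d.1 ++ d.2, k < 4) ∧ d.1.countP m.testBit % 2 = 0 ∧ d.2.countP m.testBit % 2 = 0 ∧ (∃ β < 24, apW (wdsP tat_P sqY) (d.1 ++ d.1) β ≠ β) ∧ (∃ β < 24, apW (wdsP tat_P sqY) (d.2 ++ d.2) β ≠ β) ∧ ∃ β < 24, apW (wdsP tat_P sqY) (d.1 ++ d.1) β ≠ apW (wdsP tat_P sqY) (d.2 ++ d.2) β := by decide +kernel
theorem sqY_lt : allL (ltAll 8) sqY = true := by decide +kernel

theorem tat_act {G Ω : Type*} [Group G] [MulAction G Ω] {g : ℕ → G} {pt : ℕ → Ω}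
    (M : Md g pt A0.P 24 13 A0.B 887040) : Act (wds g tat_W) pt tat_P 24 8 :=
  M.wact tat_lt
theorem ta_r : ∀ k < 8, ∀ i < 22, (resEnt tat_P taP taE taI (nat_lit 24) (nat_lit 22)) k i = 0 := allZ2_sound ta_r_a
theorem ta_sm {G Ω : Type*} [Group G] [MulAction G Ω] {g : ℕ → G} {pt : ℕ → Ω}
    (M : Md g pt A0.P 24 13 A0.B 887040) : Sm (wds g tat_W) (fun i => pt (taE i)) taP 22 8 taB ∧ ∀ i < 22, taE i < 24 :=
  M.res (tat_act M) (by decide) ta_r ta_b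
theorem tal0_e : ∀ i < 1, (dent tal0 (wdsP taP tae) (nat_lit 22)) i = 0 := allZ_sound0 tal0_e_0
theorem tal0_ok : DOK tal0 (wdsP taP tae) 22 := ⟨tal0_h, tal0_e⟩
theorem tal1_e : ∀ i < 3, (dent tal1 (wdsP taP tae) (nat_lit 22)) i = 0 := allZ_sound0 tal1_e_0
theorem tal1_ok : DOK tal1 (wdsP taP tae) 22 := ⟨tal1_h, tal1_e⟩
theorem tal2_e : ∀ i < 15, (dent tal2 (wdsP taP tae) (nat_lit 22)) i = 0 := allZ_sound0 tal2_e_0
theorem tal2_ok : DOK tal2 (wdsP taP tae) 22 := ⟨tal2_h, tal2_e⟩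
theorem tal3_e : ∀ i < 1, (dent tal3 (wdsP taP tae) (nat_lit 22)) i = 0 := allZ_sound0 tal3_e_0
theorem tal3_ok : DOK tal3 (wdsP taP tae) 22 := ⟨tal3_h, tal3_e⟩
theorem ta_low {G Ω : Type*} [Group G] [MulAction G Ω] {g : ℕ → G} {pt : ℕ → Ω}
    (M : Md g pt A0.P 24 13 A0.B 887040) : SLow (gi (wds (wds g tat_W) tae)) (fun i => pt (taE i)) 22 [tal0, tal1, tal2, tal3] :=
  ((((SLow.nil).cons tal3_ok ((ta_sm M).1.act.wds ta_e 31) ta_f3).cons tal2_ok ((ta_sm M).1.act.wds ta_e 31) ta_f2).cons tal1_ok ((ta_sm M).1.act.wds ta_e 31) ta_f1).cons tal0_ok ((ta_sm M).1.act.wds ta_e 31) ta_f0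
theorem ta_pc {G Ω : Type*} [Group G] [MulAction G Ω] {g : ℕ → G} {pt : ℕ → Ω}
    (M : Md g pt A0.P 24 13 A0.B 887040) : PC (wds g tat_W) 8 2 :=
  have := M.fin
  ((ta_sm M).1.pc0 (by decide) ta_p).pc (ta_low M) (ta_sm M).1.inj
    (fun k => evA_mem_gen _ (nth_lt ta_e k)) M.card ⟨by decide, ta_c⟩
theorem cvr_act {G Ω : Type*} [Group G] [MulAction G Ω] {g : ℕ → G} {pt : ℕ → Ω}
    (M : Md g pt A0.P 24 13 A0.B 887040) : Act (wds g cvr_W) pt cvr_P 24 3 :=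
  M.wact cvr_lt
theorem cv_0 {G Ω : Type*} [Group G] [MulAction G Ω] {g : ℕ → G} {pt : ℕ → Ω}
    (M : Md g pt A0.P 24 13 A0.B 887040) : Cov (wds g tat_W) (wds g cvr_W) 2 3 8 (evA (wds g tat_W) []) :=
  have := M.fin
  cvT0.cov M (ta_sm M).1 (ta_sm M).2 (cvr_act M) (ta_pc M) _ _ cv_c0
theorem cv {G Ω : Type*} [Group G] [MulAction G Ω] {g : ℕ → G} {pt : ℕ → Ω}
    (M : Md g pt A0.P 24 13 A0.B 887040) {y : G} {e : ℕ} (hy : y ^ 2 ^ e = 1) (hq : y ^ 2 = 1) : Good (wds g cvr_W) 3 y :=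
  have := M.fin
  Cov.all (ta_pc M) (cv_0 M) hy hq

end H20.J4
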