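import Cfsg.Agent.H20.J4.LG

/-! Counting conjugacy classes by sections. -/

set_option autoImplicit false
set_option linter.unusedSectionVars false
open Subgroup H16 H19 H0
namespace H20.J4
variable {G : Type*} [Group G] [Finite G] {S : Subgroup G}
local notation "cj" => H19.cj

theorem cl_symm {a b : G} (h : b ∈ cl S a) : a ∈ cl S b := by
  obtain ⟨x, hx, rfl⟩ := h
  exact ⟨x⁻¹, inv_mem hx, by group⟩
theorem cl_trans {a b c : G} (h1 : b ∈ cl S a) (h2 : c ∈ cl S b) : c ∈ cl S a := by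
  obtain ⟨x, hx, rfl⟩ := h2
  exact cl_cj hx h1
theorem cl_eq {a b : G} : cl S a = cl S b ↔ b ∈ cl S a :=
  ⟨fun e => e ▸ cl_self S b, fun h => Set.ext fun _ => ⟨cl_trans (cl_symm h), cl_trans h⟩⟩
theorem cl_top {a b : G} : b ∈ cl ⊤ a ↔ IsConj a b := by simp [cl, isConj_iff]
theorem cl_ord {a b : G} (h : b ∈ cl S a) : orderOf b = orderOf a := by
  obtain ⟨x, -, rfl⟩ := h
  exact (MulAut.conj x).orderOf_eq a
theorem cl_conj {a b : G} (h : b ∈ cl S a) : IsConj a b := by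
  obtain ⟨x, -, e⟩ := h
  exact isConj_iff.2 ⟨x, e⟩
theorem cl_pow {a b : G} (h : b ∈ cl S a) (n : ℕ) : b ^ n ∈ cl S (a ^ n) := by
  obtain ⟨x, hx, rfl⟩ := h
  exact ⟨x, hx, conj_pow.symm⟩
theorem cl_one {b : G} (h : b ∈ cl S 1) : b = 1 := by
  obtain ⟨x, -, rfl⟩ := h
  simp

/-- the number of `S`-classes of elements of `S` with the property `P` -/
noncomputable def ncl (S : Subgroup G) (P : G → Prop) : ℕ := (cl S '' {u | u ∈ S ∧ P u}).ncard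

theorem ncl_top : Nat.card (ConjClasses G) = ncl (⊤ : Subgroup G) fun _ => True := by
  rw [ncl, ← Set.ncard_univ]
  refine Set.ncard_congr (fun c _ => c.carrier) (fun c _ => ?_) (fun a b _ _ e => ?_) ?_
  · obtain ⟨a, rfl⟩ := ConjClasses.mk_surjective c
    exact ⟨a, by simp, Set.ext fun b => by
      rw [cl_top, ConjClasses.mem_carrier_iff_mk_eq, ConjClasses.mk_eq_mk_iff_isConj, isConj_comm]⟩
  · obtain ⟨a, rfl⟩ := ConjClasses.mk_surjective a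
    exact ConjClasses.mem_carrier_iff_mk_eq.1 (e ▸ ConjClasses.mem_carrier_mk)
  · rintro _ ⟨a, -, rfl⟩
    exact ⟨.mk a, trivial, Set.ext fun b => by
      rw [cl_top, ConjClasses.mem_carrier_iff_mk_eq, ConjClasses.mk_eq_mk_iff_isConj, isConj_comm]⟩
theorem ncl_congr {P P' : G → Prop} (h : ∀ u ∈ S, P u ↔ P' u) : ncl S P = ncl S P' := by
  rw [ncl, ncl, Set.ext fun u => and_congr_right (h u)]
theorem ncl_or {P P' : G → Prop} (h : ∀ u ∈ S, ∀ v ∈ cl S u, P u → ¬ P' v) :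
    ncl S (fun u => P u ∨ P' u) = ncl S P + ncl S P' := by
  rw [ncl, ncl, ncl, ← Set.ncard_union_eq (Set.disjoint_left.2 ?_), ← Set.image_union]
  · congr 2; ext u; simp [and_or_left]
  · rintro _ ⟨u, hu, rfl⟩ ⟨v, hv, e⟩
    exact h u hu.1 v (cl_eq.1 e.symm) hu.2 hv.2
theorem ncl_reps {P : G → Prop} (u : ℕ → G) (k : ℕ) (h1 : ∀ i < k, u i ∈ S ∧ P (u i))
    (h2 : ∀ i < k, ∀ j < i, u i ∉ cl S (u j)) (h3 : ∀ x ∈ S, P x → ∃ i < k, x ∈ cl S (u i)) : ncl S P = k := by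
  rw [← Set.ncard_Iio_nat k]
  refine (Set.ncard_congr (fun i _ => cl S (u i)) (fun i hi => ?_) (fun i j hi hj e => ?_) ?_).symm
  · exact ⟨_, h1 i hi, rfl⟩
  · rcases lt_trichotomy i j with l | l | l
    · exact absurd (cl_eq.1 e) (h2 j hj i l)
    · exact l
    · exact absurd (cl_eq.1 e.symm) (h2 i hi j l)
  · rintro _ ⟨x, hx, rfl⟩
    obtain ⟨i, hi, e⟩ := h3 x hx.1 hx.2
    exact ⟨i, hi, cl_eq.2 e⟩

/-- the order is prime to the members of `L` -/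
def ND (L : List ℕ) (u : G) : Prop := ∀ q ∈ L, ¬ q ∣ orderOf u
theorem ncl_split (r : ℕ) (L : List ℕ) :
    ncl S (ND L) = ncl S (fun u => r ∣ orderOf u ∧ ND L u) + ncl S (ND (r :: L)) := by
  rw [← ncl_or fun u _ v hv a b => b r (by simp) (cl_ord hv ▸ a.1)]
  exact ncl_congr fun u _ => by simp only [ND, List.forall_mem_cons]; tauto

/-- the `r`-part of `g` is conjugate to `y` -/
def SP (S : Subgroup G) (r : ℕ) (y g : G) : Prop := ∃ u ∈ S ⊓ C[y], ¬ r ∣ orderOf u ∧ g ∈ cl S (y * u)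
theorem part_eq {r : ℕ} (hr : r.Prime) {y y' u u' a : G} (o : orderOf y = r) (o' : orderOf y' = r) (c : u ∈ C[y])
    (c' : u' ∈ C[y']) (h : ¬ r ∣ orderOf u) (h' : ¬ r ∣ orderOf u') (e : a * (y * u) * a⁻¹ = y' * u') :
    a * y * a⁻¹ = y' := by
  obtain ⟨m, -, hm⟩ := Nat.exists_mul_mod_eq_one_of_coprime (((Nat.Prime.coprime_iff_not_dvd hr).2 h).mul_right
    ((Nat.Prime.coprime_iff_not_dvd hr).2 h')).symm hr.one_lt
  have k : ∀ {y u : G}, orderOf y = r → u ∈ C[y] → ∀ n, n % r = 1 → orderOf u ∣ n → (y * u) ^ n = y := fun {y u} o c n h1 h2 => by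
    rw [(show Commute y u from (mem_cent1.1 c).symm).mul_pow, orderOf_dvd_iff_pow_eq_one.1 h2, mul_one,
      ← pow_mod_orderOf, o, h1, pow_one]
  rw [← k o c _ hm ⟨_, mul_assoc _ _ _⟩, ← conj_pow, e,
    k o' c' _ hm ((dvd_mul_left _ _).mul_right _)]
theorem SP.uq {r : ℕ} (hr : r.Prime) {y y' g g' : G} (o : orderOf y = r) (o' : orderOf y' = r) (h : SP S r y g)
    (h' : SP S r y' g') (e : g' ∈ cl S g) : y' ∈ cl S y := by
  obtain ⟨u, hu, d, c⟩ := h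
  obtain ⟨u', hu', d', c'⟩ := h'
  obtain ⟨a, ha, e⟩ := cl_trans (cl_trans c e) (cl_symm c')
  exact ⟨a, ha, part_eq hr o o' hu.2 hu'.2 d d' e⟩
theorem SP.tr {r : ℕ} {y w g : G} (h : SP S r w g) (e : y ∈ cl S w) : SP S r y g := by
  obtain ⟨u, hu, d, c⟩ := h
  obtain ⟨a, ha, rfl⟩ := e
  refine ⟨a * u * a⁻¹, ⟨S.mul_mem (mul_mem ha hu.1) (inv_mem ha), mem_cent1.2 ?_⟩,
    by rwa [cl_ord (S := S) ⟨a, ha, rfl⟩], cl_trans (cl_symm ⟨a, ha, by group⟩) c⟩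
  rw [conj_mul, conj_mul, mem_cent1.1 hu.2]
theorem SP.ex {r : ℕ} (hr : r.Prime) {g : G} (hg : g ∈ S) (h1 : r ∣ orderOf g) (h2 : ¬ r * r ∣ orderOf g) :
    ∃ w ∈ S, orderOf w = r ∧ SP S r w g := by
  obtain ⟨m, hm⟩ := h1
  have c : ¬ r ∣ m := fun e => h2 (hm ▸ Nat.mul_dvd_mul_left r e)
  obtain ⟨a, -, ha⟩ := Nat.exists_mul_mod_eq_one_of_coprime ((Nat.Prime.coprime_iff_not_dvd hr).2 c).symm hr.one_lt
  have e := Nat.div_add_mod (m * a) r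
  rw [ha] at e
  have := Fact.mk hr
  refine ⟨g ^ (m * a), S.pow_mem hg _, orderOf_eq_prime ?_ fun e1 => ?_, (g ^ (r * (m * a / r)))⁻¹,
    ⟨S.inv_mem (S.pow_mem hg _), Subgroup.inv_mem _ (mem_cent1.2 (pow_mul_comm ..))⟩, fun d => c (d.trans ?_), 1, one_mem _, ?_⟩
  · rw [← pow_mul, ← orderOf_dvd_iff_pow_eq_one, hm]; exact ⟨a, by ring⟩
  · rw [← orderOf_dvd_iff_pow_eq_one, hm] at e1
    rw [Nat.mod_eq_zero_of_dvd ((dvd_mul_right r m).trans e1)] at ha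
    cases ha
  · rw [orderOf_inv, orderOf_dvd_iff_pow_eq_one, ← pow_mul, ← orderOf_dvd_iff_pow_eq_one, hm]
    exact ⟨m * a / r, by ring⟩
  · nth_rw 1 [← e]
    simp [pow_succ']
theorem ord_sec {r : ℕ} (hr : r.Prime) {y u : G} (o : orderOf y = r) (c : u ∈ C[y]) (h : ¬ r ∣ orderOf u) :
    orderOf (y * u) = r * orderOf u := by
  rw [(show Commute y u from (mem_cent1.1 c).symm).orderOf_mul_eq_mul_orderOf_of_coprime
    (o ▸ (Nat.Prime.coprime_iff_not_dvd hr).2 h), o]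
theorem SP.dvd {r : ℕ} (hr : r.Prime) {y g : G} (o : orderOf y = r) (h : SP S r y g) : r ∣ orderOf g := by
  obtain ⟨u, hu, d, c⟩ := h
  rw [cl_ord c, ord_sec hr o hu.2 d]; exact dvd_mul_right _ _
theorem ncl_sec {r : ℕ} (hr : r.Prime) {L : List ℕ} (hL : ∀ q ∈ L, q.Coprime r) {y : G} (hy : y ∈ S)
    (o : orderOf y = r) : ncl S (fun g => SP S r y g ∧ ND L g) = ncl (S ⊓ C[y]) (ND (r :: L)) := by
  have k : ∀ u, {g | ∃ v ∈ cl (S ⊓ C[y]) u, g ∈ cl S (y * v)} = cl S (y * u) := fun u => Set.ext fun g =>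
    ⟨fun ⟨v, ⟨a, ha, e⟩, hg⟩ => cl_trans ⟨a, ha.1, by rw [← e, ← conj_mul, mem_cent1.1 ha.2]; simp⟩ hg,
      fun hg => ⟨u, cl_self _ _, hg⟩⟩
  have n : ∀ u ∈ C[y], ¬ r ∣ orderOf u → ∀ g ∈ cl S (y * u), ND L g ↔ ND L u := fun u hu d g hg =>
    forall₂_congr fun q hq => by rw [cl_ord hg, ord_sec hr o hu d, (hL q hq).dvd_mul_left]
  refine (Set.ncard_congr (fun c _ => {g | ∃ v ∈ c, g ∈ cl S (y * v)}) ?_ ?_ ?_).symm
  · rintro _ ⟨u, ⟨hu, d⟩, rfl⟩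
    have d1 := d r (by simp)
    exact ⟨y * u, ⟨mul_mem hy hu.1, ⟨u, hu, d1, cl_self _ _⟩,
      (n u hu.2 d1 _ (cl_self _ _)).2 fun q hq => d q (by simp [hq])⟩, (k u).symm⟩
  · rintro _ _ ⟨u, ⟨hu, d⟩, rfl⟩ ⟨v, ⟨hv, d'⟩, rfl⟩ e
    rw [k, k, cl_eq] at e
    obtain ⟨a, ha, e⟩ := e
    have e1 := part_eq hr o o hu.2 hv.2 (d r (by simp)) (d' r (by simp)) e
    rw [← conj_mul, e1, mul_left_cancel_iff] at e
    exact cl_eq.2 ⟨a, ⟨ha, mem_cent1.2 (mul_inv_eq_iff_eq_mul.1 e1)⟩, e⟩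
  · rintro _ ⟨g, ⟨-, ⟨u, hu, d, c⟩, d'⟩, rfl⟩
    exact ⟨_, ⟨u, ⟨hu, List.forall_mem_cons.2 ⟨d, (n u hu.2 d g c).1 d'⟩⟩, rfl⟩, (k u).trans (cl_eq.2 c)⟩
theorem sec1 {r : ℕ} (hr : r.Prime) {L : List ℕ} (hL : ∀ q ∈ L, q.Coprime r) {y : G} (hy : y ∈ S)
    (o : orderOf y = r) (h2 : ∀ g ∈ S, ¬ r * r ∣ orderOf g) (h : ∀ w ∈ S, orderOf w = r → y ∈ cl S w) :
    ncl S (ND L) = ncl (S ⊓ C[y]) (ND (r :: L)) + ncl S (ND (r :: L)) := by
  rw [ncl_split r, ← ncl_sec hr hL hy o]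
  refine congrArg (· + _) (ncl_congr fun g hg => and_congr_left' ⟨fun d => ?_, SP.dvd hr o⟩)
  obtain ⟨w, hw, o', e⟩ := SP.ex hr hg d (h2 g hg)
  exact e.tr (h w hw o')
theorem sec2 {r : ℕ} (hr : r.Prime) {L : List ℕ} (hL : ∀ q ∈ L, q.Coprime r) {y y' : G} (hy : y ∈ S)
    (hy' : y' ∈ S) (o : orderOf y = r) (o' : orderOf y' = r) (h1 : y' ∉ cl S y) (h2 : ∀ g ∈ S, ¬ r * r ∣ orderOf g)
    (h : ∀ w ∈ S, orderOf w = r → y ∈ cl S w ∨ y' ∈ cl S w) : ncl S (ND L) =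
      ncl (S ⊓ C[y]) (ND (r :: L)) + ncl (S ⊓ C[y']) (ND (r :: L)) + ncl S (ND (r :: L)) := by
  rw [ncl_split r, ← ncl_sec hr hL hy o, ← ncl_sec hr hL hy' o',
    ← ncl_or (P := fun g => SP S r y g ∧ ND L g) fun u _ v hv a b => h1 (a.1.uq hr o o' b.1 hv)]
  refine congrArg (· + _) (ncl_congr fun g hg => Iff.trans (and_congr_left' ⟨fun d => ?_,
    fun d => d.elim (SP.dvd hr o) (SP.dvd hr o')⟩) or_and_right)
  obtain ⟨w, hw, o', e⟩ := SP.ex hr hg d (h2 g hg)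
  exact (h w hw o').imp e.tr e.tr

theorem zp_prime {r : ℕ} (hr : r.Prime) {x a : G} (o : orderOf x = r) (ha : a ∈ zpowers x) (h1 : a ≠ 1) :
    orderOf a = r ∧ zpowers a = zpowers x := by
  have o' : orderOf a = r := ((Nat.dvd_prime hr).1 (o ▸ orderOf_dvd_of_mem_zpowers ha)).resolve_left
    (mt orderOf_eq_one_iff.1 h1)
  exact ⟨o', eq_of_le_of_card_ge (zpowers_le.2 ha) (by rw [Nat.card_zpowers, Nat.card_zpowers, o, o'])⟩
theorem cent_zp {x a : G} (e : zpowers a = zpowers x) : C[a] = C[x] := by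
  rw [← centralizer_closure, ← zpowers_eq_closure, e, zpowers_eq_closure, centralizer_closure]
theorem cl_prime {r : ℕ} (hr : r.Prime) (h2 : ¬ r * r ∣ Nat.card G) {x : G} (o : orderOf x = r) :
    cl ⊤ '' {u : G | u ∈ (⊤ : Subgroup G) ∧ orderOf u = r} = cl ⊤ '' ((zpowers x : Set G) \ {1}) := by
  refine Set.ext fun c => ⟨?_, ?_⟩
  · rintro ⟨u, ⟨-, hu⟩, rfl⟩
    obtain ⟨a, e⟩ := prime_cj hr h2 ((Nat.card_zpowers x).trans o) hu
    refine ⟨a * u * a⁻¹, ⟨e ▸ mem_cj'.2 ⟨u, mem_zpowers u, rfl⟩, fun e1 => hr.one_lt.ne' ?_⟩,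
      (cl_eq.2 ⟨a, mem_top a, rfl⟩).symm⟩
    rw [← hu, conj_eq_one_iff.1 e1, orderOf_one]
  · rintro ⟨u, hu, rfl⟩
    exact ⟨u, ⟨trivial, (zp_prime hr o hu.1 hu.2).1⟩, rfl⟩
theorem ncl_prime {r k : ℕ} (hr : r.Prime) (h2 : ¬ r * r ∣ Nat.card G) {x : G} (o : orderOf x = r)
    (h : #N(zpowers x) = #C[x] * k) : k * ncl ⊤ (fun u : G => orderOf u = r) = r - 1 := by
  classical
  have := Fintype.ofFinite G
  have c : ((zpowers x : Set G) \ {1}).ncard = r - 1 := by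
    rw [Set.ncard_sdiff_singleton_of_mem (one_mem _), ← Nat.card_coe_set_eq, ← o, ← Nat.card_zpowers]; rfl
  rw [ncl, cl_prime hr h2 o, ← c, Set.ncard_eq_toFinset_card' ((zpowers x : Set G) \ {1}),
    Finset.card_eq_sum_card_image (cl ⊤), Finset.sum_const_nat (m := k) fun b hb => ?_, ← Set.toFinset_image,
    Set.ncard_eq_toFinset_card', mul_comm]
  obtain ⟨a, ha, rfl⟩ := Finset.mem_image.1 hb
  rw [Set.mem_toFinset] at ha
  have e := (zp_prime hr o ha.1 ha.2).2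
  have c1 := cl_card N(zpowers x) a
  rw [cent_zp e, inf_of_le_right (cent1_le_norm_zpowers x), h, mul_comm] at c1
  rw [← Nat.eq_of_mul_eq_mul_left (card_pos _) c1, ← Set.ncard_coe_finset]
  congr 1; ext b
  simp only [Finset.coe_filter, Set.mem_toFinset, Set.mem_ofPred_eq, eq_comm (b := cl ⊤ a), cl_eq]
  constructor
  · rintro ⟨hb, n, -, rfl⟩
    refine ⟨n, mem_norm_iff_cj.2 ?_, rfl⟩
    rw [← e, cj_zpowers, (zp_prime hr o hb.1 hb.2).2, e]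
  · rintro ⟨n, hn, rfl⟩
    exact ⟨⟨conj_mem_of_norm hn ha.1, mt conj_eq_one_iff.1 ha.2⟩, n, mem_top n, rfl⟩
end H20.J4
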