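import Cfsg.Agent.H20.J4.LB

/-! Generated by tools/h0/tr.py. -/

set_option maxRecDepth 100000
set_option maxHeartbeats 0

namespace H20.J4
open H16 H0.TR

noncomputable def a4_W : List (List ℕ) := [[nat_lit 0, nat_lit 7]]
noncomputable def a4_P : ℕ → ℕ → ℕ := wdsP A0.P a4_W
noncomputable def c4x_W : List (List ℕ) := [[nat_lit 0, nat_lit 7]]
noncomputable def c4x_P : ℕ → ℕ → ℕ := wdsP A0.P c4x_W
noncomputable def c4th_W : List (List ℕ) := [[nat_lit 8, nat_lit 7, nat_lit 2, nat_lit 6, nat_lit 2, nat_lit 7, nat_lit 6, nat_lit 8, nat_lit 7, nat_lit 6, nat_lit 11],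
  [nat_lit 0],
  [nat_lit 1],
  [nat_lit 2],
  [nat_lit 3],
  [nat_lit 0, nat_lit 6, nat_lit 3, nat_lit 6, nat_lit 7, nat_lit 8, nat_lit 7, nat_lit 6, nat_lit 3, nat_lit 6, nat_lit 5],
  [nat_lit 4],
  [nat_lit 5],
  [nat_lit 11, nat_lit 6, nat_lit 2, nat_lit 7, nat_lit 6, nat_lit 5, nat_lit 0],
  [nat_lit 6],
  [nat_lit 7],
  [nat_lit 8],
  [nat_lit 11],
  [nat_lit 12]]
noncomputable def c4th_P : ℕ → ℕ → ℕ := wdsP A0.P c4th_W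
noncomputable def c4tl0Dd : ℕ := nat_lit 0x7c6b1c815a4c581a493c3b313a302e2d2c2b0c0b0a00
noncomputable def c4tl0D (u : ℕ) : ℕ := Nat.land (Nat.shiftRight c4tl0Dd (Nat.mul u (nat_lit 8))) (nat_lit 255)
noncomputable def c4tl0Pd : ℕ := nat_lit 0xb1712b04512a31e4bb326f68462
noncomputable def c4tl0P (u : ℕ) : ℕ := Nat.land (Nat.shiftRight c4tl0Pd (Nat.mul u (nat_lit 5))) (nat_lit 31)
noncomputable def c4tl0Qd : ℕ := nat_lit 0x1e2e2a69024c66431af52eb208040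
noncomputable def c4tl0Q (u : ℕ) : ℕ := Nat.land (Nat.shiftRight c4tl0Qd (Nat.mul u (nat_lit 5))) (nat_lit 31)
noncomputable def c4tl0 : Lev := ⟨22, 14, c4tl0D, c4tl0P, c4tl0Q⟩
noncomputable def c4tl1Dd : ℕ := nat_lit 0x8a308b3b53492e242c2118171116100e0d0c0b0900
noncomputable def c4tl1D (u : ℕ) : ℕ := Nat.land (Nat.shiftRight c4tl1Dd (Nat.mul u (nat_lit 8))) (nat_lit 255)
noncomputable def c4tl1Pd : ℕ := nat_lit 0x171634256084a8c792ecc9bda3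
noncomputable def c4tl1P (u : ℕ) : ℕ := Nat.land (Nat.shiftRight c4tl1Pd (Nat.mul u (nat_lit 5))) (nat_lit 31)
noncomputable def c4tl1Qd : ℕ := nat_lit 0x15d019e2d14c243296c4264f00280
noncomputable def c4tl1Q (u : ℕ) : ℕ := Nat.land (Nat.shiftRight c4tl1Qd (Nat.mul u (nat_lit 5))) (nat_lit 31)
noncomputable def c4tl1 : Lev := ⟨21, 10, c4tl1D, c4tl1P, c4tl1Q⟩
noncomputable def c4tl2Dd : ℕ := nat_lit 0xe1555d254c542734990923e78e9c101c300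
noncomputable def c4tl2D (u : ℕ) : ℕ := Nat.land (Nat.shiftRight c4tl2Dd (Nat.mul u (nat_lit 7))) (nat_lit 127)
noncomputable def c4tl2Pd : ℕ := nat_lit 0xa550c828e9b34c1591f393a25
noncomputable def c4tl2P (u : ℕ) : ℕ := Nat.land (Nat.shiftRight c4tl2Pd (Nat.mul u (nat_lit 5))) (nat_lit 31)
noncomputable def c4tl2Qd : ℕ := nat_lit 0x2e5320c2f289503b9916a40600100
noncomputable def c4tl2Q (u : ℕ) : ℕ := Nat.land (Nat.shiftRight c4tl2Qd (Nat.mul u (nat_lit 5))) (nat_lit 31)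
noncomputable def c4tl2 : Lev := ⟨20, 9, c4tl2D, c4tl2P, c4tl2Q⟩
noncomputable def c4tl3Dd : ℕ := nat_lit 0x1a8
noncomputable def c4tl3D (u : ℕ) : ℕ := Nat.land (Nat.shiftRight c4tl3Dd (Nat.mul u (nat_lit 3))) (nat_lit 7)
noncomputable def c4tl3Pd : ℕ := nat_lit 0x5d1
noncomputable def c4tl3P (u : ℕ) : ℕ := Nat.land (Nat.shiftRight c4tl3Pd (Nat.mul u (nat_lit 5))) (nat_lit 31)
noncomputable def c4tl3Qd : ℕ := nat_lit 0x10000008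
noncomputable def c4tl3Q (u : ℕ) : ℕ := Nat.land (Nat.shiftRight c4tl3Qd (Nat.mul u (nat_lit 2))) (nat_lit 3)
noncomputable def c4tl3 : Lev := ⟨3, 6, c4tl3D, c4tl3P, c4tl3Q⟩
noncomputable def c4tl4Dd : ℕ := nat_lit 0xeec89d71338d2481c40c2040
noncomputable def c4tl4D (u : ℕ) : ℕ := Nat.land (Nat.shiftRight c4tl4Dd (Nat.mul u (nat_lit 6))) (nat_lit 63)
noncomputable def c4tl4Pd : ℕ := nat_lit 0xb28e86aeafa4d9091924
noncomputable def c4tl4P (u : ℕ) : ℕ := Nat.land (Nat.shiftRight c4tl4Pd (Nat.mul u (nat_lit 5))) (nat_lit 31)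
noncomputable def c4tl4Qd : ℕ := nat_lit 0xf97630480b5ae1cd2000000
noncomputable def c4tl4Q (u : ℕ) : ℕ := Nat.land (Nat.shiftRight c4tl4Qd (Nat.mul u (nat_lit 4))) (nat_lit 15)
noncomputable def c4tl4 : Lev := ⟨16, 5, c4tl4D, c4tl4P, c4tl4Q⟩
noncomputable def c4tl5Dd : ℕ := nat_lit 0
noncomputable def c4tl5D (u : ℕ) : ℕ := Nat.land (Nat.shiftRight c4tl5Dd (Nat.mul u (nat_lit 1))) (nat_lit 1)
noncomputable def c4tl5Pd : ℕ := nat_lit 0x276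
noncomputable def c4tl5P (u : ℕ) : ℕ := Nat.land (Nat.shiftRight c4tl5Pd (Nat.mul u (nat_lit 5))) (nat_lit 31)
noncomputable def c4tl5Qd : ℕ := nat_lit 0x80000
noncomputable def c4tl5Q (u : ℕ) : ℕ := Nat.land (Nat.shiftRight c4tl5Qd (Nat.mul u (nat_lit 1))) (nat_lit 1)
noncomputable def c4tl5 : Lev := ⟨2, 1, c4tl5D, c4tl5P, c4tl5Q⟩
noncomputable def c4ce_W : List (List ℕ) := [[nat_lit 8, nat_lit 3, nat_lit 6, nat_lit 2, nat_lit 7, nat_lit 6, nat_lit 2, nat_lit 7, nat_lit 8, nat_lit 7, nat_lit 6, nat_lit 11],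
  [nat_lit 2],
  [nat_lit 4, nat_lit 6, nat_lit 3, nat_lit 6, nat_lit 7, nat_lit 8, nat_lit 7, nat_lit 6, nat_lit 3, nat_lit 6, nat_lit 5],
  [nat_lit 3, nat_lit 5, nat_lit 6, nat_lit 3, nat_lit 6, nat_lit 7, nat_lit 6, nat_lit 1, nat_lit 5, nat_lit 6]]
noncomputable def c4ce_P : ℕ → ℕ → ℕ := wdsP A0.P c4ce_W
noncomputable def c4cc4Dd : ℕ := nat_lit 0xa8642010
noncomputable def c4cc4D (u : ℕ) : ℕ := Nat.land (Nat.shiftRight c4cc4Dd (Nat.mul u (nat_lit 4))) (nat_lit 15)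
noncomputable def c4cc4Pd : ℕ := nat_lit 0x4cd5545a44
noncomputable def c4cc4P (u : ℕ) : ℕ := Nat.land (Nat.shiftRight c4cc4Pd (Nat.mul u (nat_lit 5))) (nat_lit 31)
noncomputable def c4cc4Qd : ℕ := nat_lit 0xa0c4000017b000000
noncomputable def c4cc4Q (u : ℕ) : ℕ := Nat.land (Nat.shiftRight c4cc4Qd (Nat.mul u (nat_lit 3))) (nat_lit 7)
noncomputable def c4cc4 : Lev := ⟨8, 2, c4cc4D, c4cc4P, c4cc4Q⟩
noncomputable def c4tn0Fd : ℕ := nat_lit 0x80460360240100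
noncomputable def c4tn0F (u : ℕ) : ℕ := Nat.land (Nat.shiftRight c4tn0Fd (Nat.mul u (nat_lit 4))) (nat_lit 15)
noncomputable def c4tn0 : Nd := ⟨c4tn0F, (nat_lit 2), (nat_lit 2), [], [((nat_lit 0), []), ((nat_lit 0), [nat_lit 0])], []⟩
noncomputable def c4cc2Dd : ℕ := nat_lit 8
noncomputable def c4cc2D (u : ℕ) : ℕ := Nat.land (Nat.shiftRight c4cc2Dd (Nat.mul u (nat_lit 2))) (nat_lit 3)
noncomputable def c4cc2Pd : ℕ := nat_lit 0x225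
noncomputable def c4cc2P (u : ℕ) : ℕ := Nat.land (Nat.shiftRight c4cc2Pd (Nat.mul u (nat_lit 5))) (nat_lit 31)
noncomputable def c4cc2Qd : ℕ := nat_lit 0x20000
noncomputable def c4cc2Q (u : ℕ) : ℕ := Nat.land (Nat.shiftRight c4cc2Qd (Nat.mul u (nat_lit 1))) (nat_lit 1)
noncomputable def c4cc2 : Lev := ⟨2, 3, c4cc2D, c4cc2P, c4cc2Q⟩
noncomputable def c4tn1Fd : ℕ := nat_lit 0x99367687634354151100
noncomputable def c4tn1F (u : ℕ) : ℕ := Nat.land (Nat.shiftRight c4tn1Fd (Nat.mul u (nat_lit 4))) (nat_lit 15)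
noncomputable def c4tn1 : Nd := ⟨c4tn1F, (nat_lit 3), (nat_lit 3), [[nat_lit 0, nat_lit 0],
  [nat_lit 0]], [((nat_lit 0), [])], []⟩
noncomputable def c4cc0Dd : ℕ := nat_lit 0xb630
noncomputable def c4cc0D (u : ℕ) : ℕ := Nat.land (Nat.shiftRight c4cc0Dd (Nat.mul u (nat_lit 4))) (nat_lit 15)
noncomputable def c4cc0Pd : ℕ := nat_lit 0x1c4a2
noncomputable def c4cc0P (u : ℕ) : ℕ := Nat.land (Nat.shiftRight c4cc0Pd (Nat.mul u (nat_lit 5))) (nat_lit 31)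
noncomputable def c4cc0Qd : ℕ := nat_lit 0x8000004c0
noncomputable def c4cc0Q (u : ℕ) : ℕ := Nat.land (Nat.shiftRight c4cc0Qd (Nat.mul u (nat_lit 2))) (nat_lit 3)
noncomputable def c4cc0 : Lev := ⟨4, 4, c4cc0D, c4cc0P, c4cc0Q⟩
noncomputable def c4tn2Fd : ℕ := nat_lit 0x4ac879b8c6b4b5fa1100
noncomputable def c4tn2F (u : ℕ) : ℕ := Nat.land (Nat.shiftRight c4tn2Fd (Nat.mul u (nat_lit 4))) (nat_lit 15)
noncomputable def c4tn2 : Nd := ⟨c4tn2F, (nat_lit 4), (nat_lit 4), [[nat_lit 0],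
  [nat_lit 0, nat_lit 0]], [((nat_lit 0), [])], []⟩
noncomputable def a8_W : List (List ℕ) := [[nat_lit 0, nat_lit 6, nat_lit 8]]
noncomputable def a8_P : ℕ → ℕ → ℕ := wdsP A0.P a8_W
noncomputable def c8x_W : List (List ℕ) := [[nat_lit 0, nat_lit 6, nat_lit 8]]
noncomputable def c8x_P : ℕ → ℕ → ℕ := wdsP A0.P c8x_W
noncomputable def c8th_W : List (List ℕ) := [[nat_lit 11, nat_lit 4, nat_lit 6, nat_lit 0, nat_lit 7, nat_lit 6, nat_lit 1, nat_lit 5, nat_lit 8, nat_lit 7, nat_lit 6, nat_lit 0, nat_lit 3],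
  [nat_lit 0, nat_lit 3, nat_lit 6, nat_lit 5, nat_lit 7, nat_lit 6, nat_lit 4, nat_lit 8, nat_lit 7, nat_lit 6, nat_lit 4, nat_lit 11],
  [nat_lit 4, nat_lit 6, nat_lit 0, nat_lit 3, nat_lit 7, nat_lit 8, nat_lit 7, nat_lit 6, nat_lit 5],
  [nat_lit 11, nat_lit 5, nat_lit 6, nat_lit 5, nat_lit 7, nat_lit 8, nat_lit 7, nat_lit 6, nat_lit 3, nat_lit 0, nat_lit 4],
  [nat_lit 0],
  [nat_lit 1],
  [nat_lit 2],
  [nat_lit 3],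
  [nat_lit 4],
  [nat_lit 5],
  [nat_lit 8],
  [nat_lit 6],
  [nat_lit 7],
  [nat_lit 11],
  [nat_lit 12]]
noncomputable def c8th_P : ℕ → ℕ → ℕ := wdsP A0.P c8th_W
noncomputable def c8tl0Dd : ℕ := nat_lit 0x1f74e04774282d9434665d9166254a131a30580
noncomputable def c8tl0D (u : ℕ) : ℕ := Nat.land (Nat.shiftRight c8tl0Dd (Nat.mul u (nat_lit 7))) (nat_lit 127)
noncomputable def c8tl0Pd : ℕ := nat_lit 0x1c5246a6928293ad168326fa09a3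
noncomputable def c8tl0P (u : ℕ) : ℕ := Nat.land (Nat.shiftRight c8tl0Pd (Nat.mul u (nat_lit 5))) (nat_lit 31)
noncomputable def c8tl0Qd : ℕ := nat_lit 0x22232be4725426539895c293009a0
noncomputable def c8tl0Q (u : ℕ) : ℕ := Nat.land (Nat.shiftRight c8tl0Qd (Nat.mul u (nat_lit 5))) (nat_lit 31)
noncomputable def c8tl0 : Lev := ⟨22, 15, c8tl0D, c8tl0P, c8tl0Q⟩
noncomputable def c8tl1Dd : ℕ := nat_lit 0x502e386238ea5e1e2874e1120244070c14200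
noncomputable def c8tl1D (u : ℕ) : ℕ := Nat.land (Nat.shiftRight c8tl1Dd (Nat.mul u (nat_lit 7))) (nat_lit 127)
noncomputable def c8tl1Pd : ℕ := nat_lit 0x1714513ae0a9526f25aa86a4cc
noncomputable def c8tl1P (u : ℕ) : ℕ := Nat.land (Nat.shiftRight c8tl1Pd (Nat.mul u (nat_lit 5))) (nat_lit 31)
noncomputable def c8tl1Qd : ℕ := nat_lit 0x18aa4ae0d44c60730447864704680
noncomputable def c8tl1Q (u : ℕ) : ℕ := Nat.land (Nat.shiftRight c8tl1Qd (Nat.mul u (nat_lit 5))) (nat_lit 31)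
noncomputable def c8tl1 : Lev := ⟨21, 11, c8tl1D, c8tl1P, c8tl1Q⟩
noncomputable def c8tl2Dd : ℕ := nat_lit 0x8d0921c30a8e994430788242c7070a18180
noncomputable def c8tl2D (u : ℕ) : ℕ := Nat.land (Nat.shiftRight c8tl2Dd (Nat.mul u (nat_lit 7))) (nat_lit 127)
noncomputable def c8tl2Pd : ℕ := nat_lit 0x9848ba29c22d5e749a366a250
noncomputable def c8tl2P (u : ℕ) : ℕ := Nat.land (Nat.shiftRight c8tl2Pd (Nat.mul u (nat_lit 5))) (nat_lit 31)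
noncomputable def c8tl2Qd : ℕ := nat_lit 0x114f984a04b460838e24197103240
noncomputable def c8tl2Q (u : ℕ) : ℕ := Nat.land (Nat.shiftRight c8tl2Qd (Nat.mul u (nat_lit 5))) (nat_lit 31)
noncomputable def c8tl2 : Lev := ⟨20, 4, c8tl2D, c8tl2P, c8tl2Q⟩
noncomputable def c8tl3Dd : ℕ := nat_lit 0x6e065d69340c2862c80c4080
noncomputable def c8tl3D (u : ℕ) : ℕ := Nat.land (Nat.shiftRight c8tl3Dd (Nat.mul u (nat_lit 6))) (nat_lit 63)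
noncomputable def c8tl3Pd : ℕ := nat_lit 0x2266e5d9e19222569eaa
noncomputable def c8tl3P (u : ℕ) : ℕ := Nat.land (Nat.shiftRight c8tl3Pd (Nat.mul u (nat_lit 5))) (nat_lit 31)
noncomputable def c8tl3Qd : ℕ := nat_lit 0xa10d7509c30b0e6204f0080
noncomputable def c8tl3Q (u : ℕ) : ℕ := Nat.land (Nat.shiftRight c8tl3Qd (Nat.mul u (nat_lit 4))) (nat_lit 15)
noncomputable def c8tl3 : Lev := ⟨16, 3, c8tl3D, c8tl3P, c8tl3Q⟩
noncomputable def c8tl4Dd : ℕ := nat_lit 0x24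
noncomputable def c8tl4D (u : ℕ) : ℕ := Nat.land (Nat.shiftRight c8tl4Dd (Nat.mul u (nat_lit 2))) (nat_lit 3)
noncomputable def c8tl4Pd : ℕ := nat_lit 0xb9e
noncomputable def c8tl4P (u : ℕ) : ℕ := Nat.land (Nat.shiftRight c8tl4Pd (Nat.mul u (nat_lit 4))) (nat_lit 15)
noncomputable def c8tl4Qd : ℕ := nat_lit 0x840000
noncomputable def c8tl4Q (u : ℕ) : ℕ := Nat.land (Nat.shiftRight c8tl4Qd (Nat.mul u (nat_lit 2))) (nat_lit 3)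
noncomputable def c8tl4 : Lev := ⟨3, 2, c8tl4D, c8tl4P, c8tl4Q⟩
noncomputable def c8tl5Dd : ℕ := nat_lit 0
noncomputable def c8tl5D (u : ℕ) : ℕ := Nat.land (Nat.shiftRight c8tl5Dd (Nat.mul u (nat_lit 1))) (nat_lit 1)
noncomputable def c8tl5Pd : ℕ := nat_lit 0x2d2
noncomputable def c8tl5P (u : ℕ) : ℕ := Nat.land (Nat.shiftRight c8tl5Pd (Nat.mul u (nat_lit 5))) (nat_lit 31)
noncomputable def c8tl5Qd : ℕ := nat_lit 0x400000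
noncomputable def c8tl5Q (u : ℕ) : ℕ := Nat.land (Nat.shiftRight c8tl5Qd (Nat.mul u (nat_lit 1))) (nat_lit 1)
noncomputable def c8tl5 : Lev := ⟨2, 1, c8tl5D, c8tl5P, c8tl5Q⟩
noncomputable def c8ce_W : List (List ℕ) := [[nat_lit 0, nat_lit 6, nat_lit 8],
  [nat_lit 2, nat_lit 3, nat_lit 6, nat_lit 1, nat_lit 7, nat_lit 6, nat_lit 4, nat_lit 8, nat_lit 7, nat_lit 6, nat_lit 11]]
noncomputable def c8ce_P : ℕ → ℕ → ℕ := wdsP A0.P c8ce_W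
noncomputable def c8cc0Dd : ℕ := nat_lit 0xbcdeb91dc550cc120800
noncomputable def c8cc0D (u : ℕ) : ℕ := Nat.land (Nat.shiftRight c8cc0Dd (Nat.mul u (nat_lit 5))) (nat_lit 31)
noncomputable def c8cc0Pd : ℕ := nat_lit 0xa15046261152dd6935e3
noncomputable def c8cc0P (u : ℕ) : ℕ := Nat.land (Nat.shiftRight c8cc0Pd (Nat.mul u (nat_lit 5))) (nat_lit 31)
noncomputable def c8cc0Qd : ℕ := nat_lit 0x40f0389152b67ad00ec0000
noncomputable def c8cc0Q (u : ℕ) : ℕ := Nat.land (Nat.shiftRight c8cc0Qd (Nat.mul u (nat_lit 4))) (nat_lit 15)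
noncomputable def c8cc0 : Lev := ⟨16, 2, c8cc0D, c8cc0P, c8cc0Q⟩
noncomputable def c8tn0Fd : ℕ := nat_lit 0x22010c00008040
noncomputable def c8tn0F (u : ℕ) : ℕ := Nat.land (Nat.shiftRight c8tn0Fd (Nat.mul u (nat_lit 3))) (nat_lit 7)
noncomputable def c8tn0 : Nd := ⟨c8tn0F, (nat_lit 2), (nat_lit 2), [[nat_lit 0, nat_lit 0, nat_lit 0, nat_lit 0]], [((nat_lit 0), [])], []⟩
def RA2 : List (List ℕ) := [[], [6, 2, 7, 6], [0, 7], [0, 8], [0, 6, 8], [11], [2, 6, 11, 7], [6, 11], [2, 6, 11], [3, 11]]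
def OW : List ℕ := [0, 1, 2, 2, 3, 1, 1, 2, 2, 3]
def CA2 : List (ℕ × List ℕ) := [(0, []), (1, [7, 1, 5, 6, 3, 7]), (1, [3, 5, 6, 1]), (1, [2, 3, 5, 6, 3, 7, 6]), (1, [3, 5, 6, 8, 7, 6, 7, 4]), (1, [4, 6, 3, 7, 6, 5, 8, 7, 6]), (1, [8, 4, 1, 6, 7, 6, 8, 7, 5]), (1, [2, 6, 2, 5, 7, 6, 1, 2, 8, 7]), (1, [8, 1, 4, 6, 1, 5, 7, 6, 1, 5]), (1, [3, 6, 1, 7, 8, 7, 6, 5, 0]), (1, [3, 4, 6, 4, 7, 6, 4, 8, 0]), (1, [7, 6, 2, 5, 8, 7, 6, 0]), (1, [3, 7, 1, 4, 6, 7, 6, 0, 8]), (1, [3, 4, 7, 6, 0, 8]), (1, [3, 6, 2, 7, 8, 7, 6, 3]), (1, [0, 1, 6, 4, 2, 7, 6, 1, 8]), (5, [2, 6, 3, 6, 5, 8, 7]), (6, [1, 2, 6, 2, 7, 6, 4]), (6, [1, 6, 2, 7, 6, 0, 6]), (5, [2, 6, 3, 6, 7, 8, 7]), (6, [1, 2, 3, 6, 2, 8]), (5, [2, 6, 0, 8, 7, 6, 3, 8]), (6, [7, 6, 1, 2, 7, 6, 1, 4]), (5, [2, 6, 3, 7, 6, 1, 4]), (6, [2, 5, 6, 4, 2, 8, 7, 6]), (6, [4, 8, 5, 6, 4, 7]), (6,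 [0, 2, 3, 7, 8, 7, 6, 3, 7]), (6, [2, 6, 1, 8, 7, 6]), (5, [0, 1, 3, 6, 5]), (5, [7, 6, 1, 4, 8, 7]), (6, [8, 1, 0, 6, 4, 7, 8, 7, 6]), (6, [1, 2, 3, 6]), (1, [3, 7, 1]), (1, [6, 0, 7, 6, 5]), (1, [3, 6, 1, 4, 7]), (1, [4, 6, 0, 2, 7, 6]), (2, [1, 0, 6, 2, 7, 6, 2, 8, 5]), (2, [0, 1, 6, 7, 8, 6]), (2, [3, 4, 6, 0, 7, 6, 8, 6]), (2, [4, 6, 1, 5, 6, 7, 6, 5, 8]), (3, [0, 3, 6, 0, 7, 6, 4]), (3, [0, 1, 5, 6, 7, 6]), (3, [0, 1, 5, 6, 7, 6, 3]), (3, [0, 1, 5, 6, 7, 6, 1]), (3, [2, 3, 4, 6, 1, 7, 6, 4]), (3, [8, 0, 1, 6, 4, 8, 7, 6]), (3, [5, 0, 1, 6, 2, 5, 7, 6, 8]), (3, [2, 3, 4, 6, 1, 7, 6, 4, 8]), (7, [3, 4, 7, 6, 3]), (7, [8, 7, 6, 1, 2, 8, 7, 6, 0, 8]), (7, [5, 6, 4, 7, 8, 7, 6, 2, 7, 8]), (7, [0, 2, 6, 2, 7, 6, 3]), (7, [5, 6, 8, 7, 6, 1, 2, 7, 8, 1]), (7, [1, 6, 1, 4]), (7, [8, 5, 6, 1, 7, 6, 0, 1, 8, 2, 4]), (7, [0, 6, 1, 2, 7,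 6, 1]), (8, [0, 6, 2, 8, 7, 6, 5]), (8, [8, 6, 2, 5, 7, 6, 0, 1, 8]), (8, [0, 1, 6, 3, 6, 7, 8, 7, 6, 0]), (8, [5, 3, 8, 6, 7, 6, 0, 8, 7, 6]), (5, [0, 4, 6, 7, 6, 0]), (5, [2, 3, 5, 6, 2, 7, 6, 1, 4]), (5, [8, 2, 3, 7, 6, 5, 3]), (5, [6, 7, 8, 7, 6, 3, 6, 5]), (1, [6]), (1, [4, 6, 0]), (1, [4, 2, 7, 6, 1]), (1, [1, 5, 6, 1, 2]), (3, [5, 3, 6, 0, 7, 8, 6]), (3, [5, 3, 6, 0, 2, 7, 6, 4]), (3, [4, 2, 6, 1, 7, 6]), (3, [4, 2, 6, 1, 7, 6, 3]), (2, [0, 1, 6, 0, 7, 6, 8, 1]), (2, [0, 1, 6, 0, 7, 6, 0, 8]), (2, [0, 1, 6, 0, 7, 6, 8]), (2, [0, 1, 5, 6, 7, 6, 2, 7, 8]), (3, [0, 1, 2, 6, 3, 7, 6, 3]), (3, [7, 0, 1, 6, 3, 7, 6, 3]), (3, [0, 1, 2, 6, 3, 7, 6]), (3, [0, 1, 2, 6, 3, 7, 6, 8]), (5, [3, 7, 6, 1, 4, 8, 7, 6, 0, 1]), (5, [1, 2, 5, 6, 3, 7, 6]), (5, [6, 2, 7]), (5, [6, 2, 7, 6, 4, 8, 7, 6, 5, 3]), (7, [3, 6, 5, 7, 6, 1, 2]), (7, [0,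 1, 7, 6, 0, 8, 7, 6, 1, 0, 8]), (7, [1, 3, 7]), (7, [2, 3, 4, 6, 1, 7, 8, 7, 6, 0, 3]), (8, [3, 6, 7, 8, 7, 6, 5]), (8, [3, 7, 6, 5, 8, 7, 6, 5]), (8, [3, 6, 5, 8, 7, 6, 5]), (8, [3, 6, 7, 8, 7, 6, 5, 7]), (7, [7, 3, 1, 6, 7, 6]), (7, [1, 2, 3, 6, 7, 6]), (7, [8, 1, 3, 6, 7, 6, 4, 8, 7, 6]), (7, [0, 4, 8, 7, 6, 0, 1, 2, 7, 8]), (1, [6, 2, 7, 6, 4, 7, 4]), (1, [5, 1, 6, 1, 7]), (1, [6, 1, 5, 6, 3, 6]), (1, [6, 1, 5, 6, 3]), (3, [7, 0, 3, 6, 2, 7, 6, 5, 2]), (3, [8, 5, 6, 8, 7, 6, 2, 5]), (3, [0, 2, 3, 6, 2, 7, 6, 5]), (3, [4, 2, 6, 0, 1, 2, 7, 6]), (3, [1, 4, 6, 1, 7, 6, 5]), (3, [1, 4, 6, 1, 7, 6, 2, 5]), (3, [1, 4, 6, 1, 7, 6, 3, 8, 4]), (3, [0, 1, 5, 6, 0, 2, 7, 6]), (2, [0, 1, 6, 3, 7, 6, 5, 8, 7]), (2, [0, 3, 5, 6, 4, 2, 7, 6, 0, 8]), (2, [0, 1, 6, 3, 7, 6, 5, 8]), (2, [0, 3, 5, 6, 4, 2, 7, 6, 8]), (7, [0, 3, 6, 3, 7, 8, 7, 6,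 0, 3]), (7, [7, 6, 1, 3]), (7, [0, 7, 6, 5]), (7, [0, 3, 6, 0, 7, 8, 7, 6, 0, 3]), (5, [4, 6, 8, 7, 6, 1, 5]), (5, [2, 4, 8, 7, 6, 3, 6, 5]), (5, [0, 6, 0, 1, 7, 6, 3, 8]), (5, [8, 7, 3, 6, 0, 1, 7, 8]), (8, [0, 1, 4, 8, 7, 6, 0]), (8, [8, 0, 6, 5, 7, 6, 3, 8]), (8, [3, 6, 0, 7, 6, 8, 7, 6, 0]), (8, [0, 3, 5, 7, 8, 7, 6, 0]), (7, [4, 3, 5, 6, 1, 5]), (7, [0, 5, 6, 7, 6, 4]), (7, [8, 4, 6, 7, 6, 2, 7, 8]), (7, [8, 5, 6, 5, 7, 6, 4, 8, 7, 6, 2, 7]), (1, [1, 5, 7, 6, 3, 6, 5]), (1, [2, 4, 6, 1, 2, 7, 6, 3, 2]), (2, [3, 4, 6, 1, 7, 6, 4]), (2, [7, 0, 1, 6, 2, 7, 6, 4]), (1, [3, 8, 1, 7, 6, 0]), (1, [7, 2, 3, 6, 1, 7, 8]), (2, [0, 1, 2, 6, 5, 7, 6, 1, 8]), (2, [0, 3, 6, 3, 7, 6, 8, 3]), (2, [3, 4, 6, 8, 7, 6, 5, 6, 2]), (2, [6, 0, 8, 7, 6, 8, 5]), (2, [0, 4, 6, 7, 6, 8, 7, 6, 2, 3]), (2, [4, 6, 7, 6, 0, 8, 7, 6, 2, 4]), (2, [6, 0, 1, 3,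 8, 7, 6, 1]), (2, [6, 0, 2, 7, 8, 7, 6, 1]), (2, [7, 6, 1, 7, 6, 8, 7, 6, 1, 8]), (2, [0, 4, 6, 7, 6, 8, 7, 6, 7, 3]), (8, [1, 7, 6, 1, 4]), (8, [7, 8, 5, 6, 4, 2]), (8, [4, 1, 6, 7, 6, 0, 5]), (8, [1, 7, 6, 2, 7, 5]), (8, [5, 8, 7, 6, 2, 7, 0]), (8, [1, 5, 8, 7, 6, 8]), (8, [7, 6, 4, 7, 8, 7, 6, 4, 3, 5]), (8, [1, 2, 3, 6, 1, 5, 7, 6, 5, 8]), (8, [2, 3, 4, 8, 7, 6, 5]), (8, [6, 1, 6, 5, 8, 7, 6, 5]), (6, [6, 1, 7, 6, 0, 8, 7, 6, 8, 4]), (6, [6, 3, 6, 0, 8, 7, 6]), (8, [0, 6, 0, 2, 8, 7, 6, 1, 2]), (8, [7, 6, 1, 4, 8, 7, 6, 1, 2]), (6, [4, 3, 6, 1, 7, 6]), (6, [4, 2, 6, 5, 8, 7, 6, 4]), (1, [1, 4, 6, 7, 0, 3]), (1, [7, 3, 6, 7, 6, 1, 4]), (2, [6, 1, 4, 6, 1, 7, 6]), (2, [0, 3, 6, 2, 7, 6, 5]), (2, [0, 3, 6, 3, 7, 6, 8, 7]), (2, [0, 3, 6, 3, 7, 6, 8]), (1, [7, 0, 2, 6, 0, 8]), (1, [3, 6, 1, 2, 7, 8, 7]), (2, [2, 6, 7, 6, 0, 8, 7, 6,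 4, 0, 8]), (2, [3, 6, 7, 6, 8, 7, 6, 1, 2, 4]), (2, [2, 7, 6, 0, 8, 7, 6, 4, 8]), (2, [3, 5, 7, 6, 0, 2, 8, 7, 6]), (2, [7, 2, 6, 0, 2, 7, 8, 7, 6, 1]), (2, [3, 5, 7, 6, 0, 2, 8, 7, 6, 7]), (2, [3, 6, 7, 6, 8, 7, 6, 4, 0]), (2, [2, 6, 3, 6, 7, 6, 8, 7, 6, 7, 6]), (8, [0, 8, 7, 6, 2, 7]), (8, [1, 4, 6, 0, 3, 8]), (8, [4, 6, 0, 7, 6]), (8, [3, 5, 6, 3, 7]), (8, [8, 6, 0, 3, 7, 6, 1, 4, 8]), (8, [3, 5, 6, 3]), (8, [4, 6, 0, 7, 6, 2]), (8, [0, 8, 7, 6, 2]), (6, [8, 0, 2, 6, 2, 7, 6, 8]), (6, [6, 8, 7, 6, 5]), (8, [8, 0, 3, 6, 7, 6, 0, 8]), (8, [0, 8, 1, 7, 6, 3, 8]), (8, [2, 6, 1, 4, 8, 7, 6, 1, 2]), (8, [8, 4, 6, 3, 6, 7, 6, 5, 8]), (6, [3, 6, 7, 6, 8, 5, 0]), (6, [5, 6, 8, 7, 6, 0, 2]), (3, [0, 1, 2, 6, 2, 7, 6, 8, 7, 6, 1, 5, 6]), (3, [3, 4, 6, 1, 7, 6, 1, 8, 7, 6, 3, 6, 4]), (3, [0, 3, 6, 2, 7, 6, 5, 8, 7, 1]), (3, [6, 1, 4, 6, 1,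 7, 6, 1, 8, 7]), (3, [7, 0, 3, 6, 5, 7, 6]), (3, [0, 2, 3, 6, 5, 7, 6, 8]), (3, [0, 3, 6, 3, 7, 6, 7, 8]), (3, [5, 3, 6, 4, 2, 7, 6, 2]), (4, [3, 4, 6, 4, 8, 7, 6, 5, 8, 0, 7]), (4, [3, 4, 6, 1, 7, 6, 3, 8, 7, 6, 8, 0]), (4, [3, 4, 6, 1, 7, 6, 8, 7, 6, 2, 5]), (4, [3, 4, 6, 1, 7, 6, 0, 8, 7, 6, 2, 5]), (4, [3, 4, 6, 1, 7, 6, 8, 7, 6, 2, 5, 3]), (4, [3, 8, 3, 6, 1, 7, 6, 2, 8, 7]), (4, [3, 4, 6, 1, 7, 6, 8, 7, 6, 1, 4, 6]), (4, [3, 4, 6, 0, 7, 8, 7, 6, 0, 2, 7]), (9, [7, 0, 6, 1, 8, 7, 6, 5]), (9, [2, 5, 6, 3, 7, 6, 3, 8, 7, 6, 5]), (9, [0, 4, 6, 4, 8, 7, 6, 3, 6, 7]), (9, [7, 8, 6, 0, 6, 3, 7, 6, 0, 1]), (9, [6, 2, 3, 7, 6, 1, 5, 8, 7, 6, 5]), (9, [4, 6, 8, 7, 6, 5, 7]), (9, [8, 5, 2, 6, 1, 7, 6, 3, 8, 7]), (9, [8, 0, 2, 6, 2, 7, 6, 4, 8, 6]), (8, [8, 4, 6, 2, 7, 6, 0]), (8, [1, 7, 6, 3, 8, 7, 6, 0, 1]), (8, [8, 7, 1, 3, 6, 3, 8, 7]),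 (8, [6, 4, 8, 7, 6, 2, 0, 2, 6]), (8, [3, 8, 4, 7, 6, 5, 8, 7, 6]), (8, [6, 4, 2, 8, 7, 6, 8, 1]), (8, [4, 6, 3, 7, 8, 7, 6, 3]), (8, [6, 0, 3, 7, 8, 7, 6, 3]), (3, [3, 4, 6, 1, 7, 6, 2, 8, 7, 6, 1, 5, 6]), (3, [0, 3, 6, 2, 7, 6, 4, 8, 7, 6, 1, 5, 6]), (3, [1, 4, 6, 0, 1, 2, 7, 6, 8, 7]), (3, [3, 4, 6, 1, 7, 6, 4, 8, 7]), (3, [0, 3, 6, 3, 7, 6, 2, 7]), (3, [0, 3, 6, 3, 7, 6, 3, 7]), (3, [0, 2, 3, 6, 5, 7, 6]), (3, [5, 3, 6, 7, 6, 4, 8]), (4, [3, 4, 6, 1, 7, 6, 2, 8, 7, 6, 2, 5]), (4, [0, 1, 6, 7, 6, 8, 7, 6, 0, 3, 7]), (4, [3, 4, 6, 1, 7, 6, 5, 8, 7, 6, 3, 4]), (4, [0, 1, 6, 7, 6, 8, 7, 6, 7, 3]), (4, [0, 1, 6, 4, 7, 6, 0, 8, 7, 6, 7]), (4, [3, 4, 6, 1, 7, 6, 5, 8, 7, 6, 4]), (4, [3, 4, 6, 1, 7, 6, 2, 8, 7, 6, 5, 0]), (4, [0, 1, 6, 7, 6, 8, 7, 6, 7]), (9, [0, 2, 6, 1, 8, 7, 6, 5]), (9, [6, 4, 2, 7, 6, 0, 1, 8, 7, 6, 4, 0]), (9, [8,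 5, 6, 1, 5, 6, 7, 6, 3, 8, 7]), (9, [4, 6, 8, 7, 6, 0, 2, 5, 7]), (9, [1, 3, 6, 7, 8, 7, 6, 3, 6, 7]), (9, [0, 2, 6, 5, 8, 7, 6, 3, 6, 5]), (9, [1, 3, 6, 2, 8, 7, 6, 3, 6, 7]), (9, [2, 5, 7, 6, 8, 7, 6, 5, 7]), (8, [1, 5, 7, 8, 7, 6, 5]), (8, [1, 5, 6, 7, 6, 5, 8, 7, 6, 5]), (8, [1, 6, 3, 8, 7, 6, 0, 1]), (8, [0, 3, 5, 7, 6, 8, 7, 6, 0]), (8, [3, 6, 8, 7, 6, 3, 7, 6]), (8, [1, 2, 6, 5, 8, 7, 6, 1, 2]), (8, [2, 8, 1, 6, 0, 7, 6, 3]), (8, [2, 7, 6, 0, 1, 8, 7, 6, 3])]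
def ZW : List (List ℕ) := [[4109], [22], [6, 2, 7, 6, 31], [0, 7, 29], [11, 21], [6, 11, 19], [3, 11, 15]]
def EJ : List ℕ := [0, 0, 0, 0]
noncomputable def BQT : List ℕ := [nat_lit 0, nat_lit 0x2002002002002402402402402002002002002402402402400200200200200600600600600200200200200600600600602602602602602202202202202602602602602202202202200400400400400000000000000400400400400000000000002c00002c00002c00002c00002c00002c00002c00002c00002c00002c00002c00002c00002c00002c00002c00002c00002c00002c00002c00002c00002c00002c00002c00002c00002c00002c00002c00002c00002c00002c00002c00002c000, nat_lit 0x15115101001010810804904913813807907916116102002002c02c16d16d07507513413404504510410401c01c15d15d00c00c14d14d05505511411406506512412403c03c17d17d17117103003012812806906911811805905914114100000010910910c10c91591591091081981981c81c00500500000010910910c10c91591591091081981981c81c00500500000010910910c10c91591591091081981981c81c00500500000010910910c10c91591591091081981981c81c005005000000,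 nat_lit 0x16e05216905502a11602d11113500913200e07114d07614a07c14007b14713800413f00302711b02011c16305f16405813600a13100d07214e07514916d05116a05602911502e11202411802311f16005c16705b07f14307814413b00713c000170170067067170170067067170170067067170170067067117117000000117117000000117117000000117117000000170170067067170170067067170170067067170170067067117117000000117117000000117117000000117117000000, nat_lit 0xd041749205548d04a0cf4081445835061c15191de15b59c4db01c09945e0864414c400354f18810d5ca1125d55501971475805051c251a1dd15859f0d341449105648e0490cc40b54c18b10e5c91115d65531944d801f09a45d0854424c70005415414b44b448b48b57e57e5415414b44b448b48b57e57e1631630960960a90a915c15c1631630960960a90a915c15c41d41d5e85e85d75d742242241d41d5e85e85d75d742242203f03f1ca1ca1f51f500000003f03f1ca1ca1f51f5000000, nat_lit 0x4404402a02a05605603803800600606806801401407a07a02e02e04004003c03c05205206c06c00200207e07e01001005405403a03a04604602802801601607807800400406a06a03e03e05005002c02c04204207c07c01201206e06e00000004a00004a00004a00004a00004a00004a00004a00004a00004a00004a00004a00004a00004a00004a00004a00004a00004a00004a00004a00004a00004a00004a00004a00004a00004a00004a00004a00004a00004a00004a00004a00004a000,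 nat_lit 0x1e01603d03502202a00100900500d02602e03903101a01201101903203a02d02500e00600a00202902103603e01501d00300b02002803f03701c01401801003b03302402c00700f00c00402f02703003801301b01701f03403c02b023008000000000000000000000000000000000000000000000000000000000000000000000000000000000000000000000000000000000000000000000000000000000000000000000000000000000000000000000000000000000000000000000000000, nat_lit 0x4b301c4a100e0b441b0a640940b0a44190b600c4a301e4b108d42209f43048a02549803703549a02748843209d42008f43c09342e08103b49402948648402b49603908342c09143e0024ad0104bf4050aa4170b80ba4150a84074bd0124af0004b40974b40974b40974b40974b40974b40974b40974b40974b40974b40974b40974b40974b40974b40974b40974b4097423000423000423000423000423000423000423000423000423000423000423000423000423000423000423000423000, nat_lit 0x2b0600d609d04c0070b10fa0d009b02d0660b70fc04a0010d909202406f0be0f50430080220690df09404500e0b80f30d809302506e0bf0f40420090230680de09504400f0b90f202a0610d709c04d0060b00fb0d109a02c0670b60fd04b00003b03b03b03b03b03b03b03b03b03b03b03b03b03b03b03b013013013013013013013013013013013013013013013013028028028028028028028028028028028028028028028028000000000000000000000000000000000000000000000000,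 nat_lit 0x39503e38f02411c2b71062ad1322991282833bb0103a100a2cb1602d117a0423e90583f306c3c70763dd2e514e2ff1542c116a2db1700483e30523f90663cd07c3d72ef1442f515e39f03438502e1162bd10c2a71382931222893b101a3ab0001b929a1b929a1b929a1b929a3570743570743570743570742a31802a31802a31802a318004d36e04d36e04d36e04d36e2d71f42d71f42d71f42d71f403931a03931a03931a03931a1cd2ee1cd2ee1cd2ee1cd2ee323000323000323000323000]
noncomputable def BVT : List ℕ := [nat_lit 0, nat_lit 0xd00d00100100900900500500e00e00200200a00a00600600b00b00700700f00f00300300800800400400c00c00000000d00d00100100900900500500e00e00200200a00a00600600b00b00700700f00f00300300800800400400c00c000000000000000000000000000000000000000000000000000000000000000000000000000000000000000000000000000000000000000000000000000000000000000000000000000000000000000000000000000000000000000000000000000000, nat_lit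 0x9308309e08e0a80b80a50b508709708a09a0bc0ac0b10a103202203f02f00901900401402603602b03b01d00d01000009308309e08e0a80b80a50b508709708a09a0bc0ac0b10a103202203f02f00901900401402603602b03b01d00d01000003503503503503503503503503503503503503503503503502902902902902902902902902902902902902902902902901c01c01c01c01c01c01c01c01c01c01c01c01c01c01c01c000000000000000000000000000000000000000000000000, nat_lit 0x1712401812b00313000c13f00713400813b01312001c12f13800b13700412c01f12301012801b12701413c00f13300001712401812b00313000c13f00713400813b01312001c12f13800b13700412c01f12301012801b12701413c00f13300001a01a01a01a01a01a01a01a01a01a01a01a01a01a01a01a10c10c10c10c10c10c10c10c10c10c10c10c10c10c10c10c116116116116116116116116116116116116116116116116000000000000000000000000000000000000000000000000, nat_lit 0x1c912c1101f50d503000c0e90130f60ca02f10f1ea1d61330fa01f0230c61e610313f1da1201c51f911c03c0d90e50001c912c1101f50d503000c0e90130f60ca02f10f1ea1d61330fa01f0230c61e610313f1da1201c51f911c03c0d90e500013b18c13b18c13b18c13b18c17b1cc17b1cc17b1cc17b1cc0ef0580ef0580ef0580ef0580af0180af0180af0180af0181231941231941231941231941631d41631d41631d41631d40f70400f70400f70400f70400b70000b70000b70000b7000,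 nat_lit 0x2202d02602902402b02002f00e00100a00500800700c00302102e02502a02702802302c00d00200900600b00400f00002202d02602902402b02002f00e00100a00500800700c00302102e02502a02702802302c00d00200900600b00400f000000000000000000000000000000000000000000000000000000000000000000000000000000000000000000000000000000000000000000000000000000000000000000000000000000000000000000000000000000000000000000000000000, nat_lit 0x11001011001004014004014013003013003006016006016007017007017012002012002005015005015010000010000011001011001004014004014013003013003006016006016007017007017012002012002005015005015010000010000000000000000000000000000000000000000000000000000000000000000000000000000000000000000000000000000000000000000000000000000000000000000000000000000000000000000000000000000000000000000000000000000, nat_lit 0x910da0820c900604d01505e0cc0870df09405b0100480030920d90810ca00504e01605d0cf0840dc09705801304b0000910da0820c900604d01505e0cc0870df09405b0100480030920d90810ca00504e01605d0cf0840dc09705801304b00005c04405c04405c04405c04405c04405c04405c04405c04405c04405c04405c04405c04405c04405c04405c04405c044018000018000018000018000018000018000018000018000018000018000018000018000018000018000018000018000,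 nat_lit 0x3806502e07303c06102a07702007d03606b02407903206f05700a04101c05300e04501804f01205900404b01605d00003806502e07303c06102a07702007d03606b02407903206f05700a04101c05300e04501804f01205900404b01605d00002d02d02d02d02d02d02d02d02d02d02d02d02d02d02d02d03e03e03e03e03e03e03e03e03e03e03e03e03e03e03e03e013013013013013013013013013013013013013013013013000000000000000000000000000000000000000000000000, nat_lit 0x18b0d70dd1811cd09109b1c70f31af1a50f90b51e91e30bf13406806213e17202e02417804c11011a04600a15615c00018b0d70dd1811cd09109b1c70f31af1a50f90b51e91e30bf13406806213e17202e02417804c11011a04600a15615c00002b02b15115102b02b15115103b03b14114103b03b1411410850851ff1ff0850851ff1ff0950951ef1ef0950951ef1ef1c41c40be0be1c41c40be0be1d41d40ae0ae1d41d40ae0ae16a16a01001016a16a01001017a17a00000017a17a000000]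
noncomputable def AVT : List ℕ := [nat_lit 0x7c07807407006c06806406005c05805405004c04804404003c03803403002c02802402001c01801401000c00800400007c07807407006c06806406005c05805405004c04804404003c03803403002c02802402001c01801401000c008004000003f03e03d03c03b03a03903803703603503403303203103002f02e02d02c02b02a02902802702602502402302202102001f01e01d01c01b01a01901801701601501401301201101000f00e00d00c00b00a009008007006005004003002001000, nat_lit 0x34610f7c658f64640f2c608f7c95803491002c908064940074650f3c618f24600f6c648f3c91807495006c948024900034610f7c658f64640f2c608f7c95803491002c908064940074650f3c618f24600f6c648f3c91807495006c948024900055d23703d75743b35115b6314b13db1d16bb5d72bd0b77dd1cb6a14ab3c10ad7c75cd2a702774d54722d14162b42134b61617c37641c77001a21057a7fa09029a5f069c1f63fc4962805ea7e008a3e648c6861ec36c40660c16620a56076a000, nat_lit 0x29108e42963638a19553272d6594460e12fe74255d1fa3e517436b7cc5d306f2706d74c85bc7a330411b4a76b821f00029108e42963638a19553272d6594460e12fe74255d1fa3e517436b7cc5d306f2706d74c85bc7a330411b4a76b821f00037b3a72172cb13b1e705708b16f1b30030df32f3f324329f3283f42442981681b40040d813c1e005008c37c3a02102cc1b716b0db0073f732b29b2473a337f2cf2131e313f08f0531e41380880543a43782c82143f032c29c2401b016c0dc000,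 nat_lit 0x2ac3e055c4105cc48023c37063c7701cc08015c0106ac7e054c4002bc3f022c3605dc4901dc09062c7606bc7f014c0002ac3e055c4105cc48023c37063c7701cc08015c0106ac7e054c4002bc3f022c3605dc4901dc09062c7606bc7f014c0000531e472169635b2ec42959e5114a62633d46197ae16b0dc2433f453148614b0fc63978e7016b60731c44095be37b2cc29f3285ed45a1970206e57527dd66a0af1184d55623a721008f1387fd64a3872304f55425cd47a2bf3086c57721b7000, nat_lit 0x7937df2342785cc58006b0270540185f35bf20b2477ac7e007303f5d459822c26078b7c77b47f821325f5eb5a704c0007937df2342785cc58006b0270540185f35bf20b2477ac7e007303f5d459822c26078b7c77b47f821325f5eb5a704c0001244ac5760fe35b6d37092815110991434cb76e2e633c6b452b0a31794f17542dc30668e11e49654c0c43616e97332bb39f6177cd2451e04685b203a7aa2223f86705d505d18740f7902183c264a5ef0671bd4353a562d7f727f1da452588000, nat_lit 0x473081d529a05531a1c728832b0642b91f63390762ab1e41a32ec03137e1b12fe02336c2cf18035d0122dd19234f0000473081d529a05531a1c728832b0642b91f63390762ab1e41a32ec03137e1b12fe02336c2cf18035d0122dd19234f0006aa3317282b363c3a77be2252547cf3d664d2c27593406db6283b37aa2316be32573c2a72d674d3546cf2407db3c26590f35681714ea0655fe1e747c40d19658f01449b1005190820715ea1f34680e757c1654fe48f11450d09641918259b000,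 nat_lit 0x7c05565f77615537c57645f21223b43151833b11271863104d06466e74716434d54746e22320a40052930a12372960007c05565f77615537c57645f21223b43151833b11271863104d06466e74716434d54746e22320a40052930a123729600028859903d72c4d93c866c17d6621734d73c60337222865972f95e804c75d4a83b961d10c6131024a63b70427532f75e676e07f5db2ca13f62e38a49b3844951316205d52c476007171f00e5aa2bb14e65f3fb4ea3f54e41406515a42b5711000, nat_lit 0x2c72583243bb7e077f60369c32b3b42c825760c6937ef7705b75284544cb09000f1731ec45b4c45b852717c1e309f0002c72583243bb7e077f60369c32b3b42c825760c6937ef7705b75284544cb09000f1731ec45b4c45b852717c1e309f00003e2106094270d92f76ee4c04b169f2860a845667826104f4a868629f0b144f66127805602720961043e0c02ee6f74d94e76c92d00fe40062e23701906824665f47108f2a16b849607125f6464680962b86a148f4fe6d02c90e741963722e000, nat_lit 0xce2581f236460049673c5aa1223b401e2887ec57a6d044648861e5b47222460d037a1ec5647f24586ce3aa13c2960000ce2581f236460049673c5aa1223b401e2887ec57a6d044648861e5b47222460d037a1ec5647f24586ce3aa13c29600018301976b6f108411e66c7f64ec57620439e5eb4713032996fc76601418e7fb66111308939320957b4e129430e47c5e64655ff28d3175624f838a21010a0907e267800d1976e577f31a2805f246821d3874f556f6757ef09d1077726e819a000,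 nat_lit 0x6ed3084fd1186653804751902a874d0b855d2207c50305d53386dd1284cd3b06551a044577d29856d0887f52105e50006ed3084fd1186653804751902a874d0b855d2207c50305d53386dd1284cd3b06551a044577d29856d0887f52105e50006aa2b24aa0b200c41420c61446407c66427c2c26da0c24da6b22aa4b20aa01440c21460c47c06467c2642da6c20da4c22686700684704ce0d66ce2d60a64be2a66be6002184000182706680704684d60ce6d62ce0be4a62be6a6618200418000]
def AVC : List (List ℕ) := [[1, 2, 4, 8, 16, 32, 64, 128, 256, 512, 1024, 0], [1898, 1376, 358, 492, 1174, 843, 585, 1152, 1280, 1167, 1024, 0], [220, 364, 576, 532, 83, 716, 543, 1720, 283, 1224, 997, 0], [439, 1906, 776, 1346, 528, 716, 332, 2032, 1888, 1168, 2016, 0], [1416, 1106, 639, 1077, 1039, 699, 76, 1447, 607, 1991, 2016, 0], [1435, 386, 150, 1278, 130, 1625, 847, 402, 18, 876, 484, 0], [1809, 693, 1617, 1258, 113, 1510, 662, 567, 659,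 1762, 784, 0], [558, 1591, 231, 1167, 1174, 1241, 159, 483, 1319, 492, 1904, 0], [410, 1768, 263, 1391, 1919, 1510, 662, 316, 1742, 492, 1094, 0], [1048, 512, 1702, 718, 24, 1218, 1509, 528, 136, 1093, 1493, 0]]
def MQ : List ℕ := [0, 3329, 3982, 4050, 4086, 3969, 4032, 4065, 4080, 4089]
def MV : List ℕ := [0, 1920, 2032, 2032, 2041, 1984, 1856, 2017, 2032, 2042]
def GQ : List (List (ℕ × ℕ × List ℕ)) := [[(4096, 0, [])], [(18, 2, []), (88, 2, [11, 179]), (196, 2, [10, 59]), (214, 2, [9, 147]), (560, 2, [11, 9, 173]), (616, 2, [2, 7, 147]), (4114, 2, [155]), (4184, 2, [11, 53]), (4292, 2, [10, 173]), (4310, 2, [9, 21]), (4656, 2, [11, 9, 59]), (4712, 2, [2, 7, 21])], [(16, 3, []), (17, 3, [6, 0, 1, 4, 6, 7, 6, 3, 6, 10, 2329]), (64, 3, [9, 126]), (80, 3, [10, 35]), (96, 3, [6, 0, 1, 4, 6, 7, 6, 3, 6, 9, 2100]), (113, 3, [6, 0, 1, 4,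 6, 7, 6, 3, 6, 105]), (4112, 3, [15]), (4113, 3, [6, 0, 1, 4, 6, 7, 6, 3, 6, 10, 2331]), (4160, 3, [9, 128]), (4176, 3, [10, 33]), (4192, 3, [6, 0, 1, 4, 6, 7, 6, 3, 6, 9, 2098]), (4209, 3, [6, 0, 1, 4, 6, 7, 6, 3, 6, 107])], [], [], [(8, 4, []), (10, 4, [3, 6, 4, 2, 7, 6, 2, 5, 8, 94]), (12, 4, [0, 2, 6, 5, 7, 6, 4, 8, 24]), (14, 4, [2, 3, 6, 7, 8, 6, 2, 9, 16]), (24, 4, [2, 4, 6, 7, 8, 7, 6, 5, 7, 11, 72]), (26, 4, [3, 6, 1, 4, 7, 6, 4, 8, 7, 6, 8, 125]), (28, 4, [0, 4, 6, 5, 8, 7, 6, 3, 10, 111]), (30, 4, [0, 5, 6, 3, 7, 8, 7, 9, 48]), (32, 4, [0, 6, 3, 6, 5, 8, 138]), (34, 4, [6, 3, 7, 6, 5, 8, 0, 109]), (36, 4, [6, 3, 6, 1, 5, 7, 6, 3, 8, 10, 115]), (38, 4, [2, 7, 121]), (48, 4, [7, 3, 0, 6, 8, 7, 6, 4, 8, 90]), (50, 4, [7, 6, 3, 6, 5, 8, 7, 134]), (52, 4, [7, 6, 5, 7, 8, 7, 6, 2, 9, 78]), (54, 4, [4, 0, 8, 7, 6, 5, 103]), (64,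 4, [6, 2, 7, 6, 43]), (66, 4, [5, 6, 1, 5, 7, 6, 0, 8, 106]), (68, 4, [2, 3, 5, 6, 3, 6, 7, 6, 2, 89]), (70, 4, [5, 6, 2, 7, 0, 6, 3, 11, 9, 20]), (80, 4, [1, 5, 6, 1, 7, 6, 4, 8, 7, 6, 5, 90]), (82, 4, [5, 0, 6, 4, 2, 7, 6, 8, 7, 6, 5, 62]), (84, 4, [2, 6, 3, 6, 5, 8, 7, 83]), (86, 4, [8, 5, 6, 2, 7, 6, 4, 8, 131]), (104, 4, [2, 4, 6, 0, 2, 7, 6, 2, 6, 88]), (106, 4, [1, 6, 3, 4, 7, 6, 1, 5, 52]), (108, 4, [0, 5, 6, 3, 7, 8, 2, 9, 23]), (110, 4, [6, 2, 7, 6, 2, 7, 105]), (120, 4, [0, 2, 7, 6, 2, 7, 8, 7, 5, 98]), (122, 4, [3, 6, 4, 2, 7, 6, 5, 8, 7, 1, 115]), (124, 4, [2, 6, 5, 7, 8, 7, 6, 2, 9, 101]), (126, 4, [0, 2, 8, 7, 6, 3, 8, 10, 41]), (4104, 4, [14]), (4106, 4, [3, 6, 4, 2, 7, 6, 2, 5, 8, 93]), (4108, 4, [0, 2, 6, 5, 7, 6, 4, 8, 23]), (4110, 4, [2, 3, 6, 7, 8, 6, 2, 9, 15]), (4120, 4, [2, 4, 6, 7, 8, 7, 6, 5, 7, 11, 71]),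 (4122, 4, [3, 6, 1, 4, 7, 6, 4, 8, 7, 6, 8, 126]), (4124, 4, [0, 4, 6, 5, 8, 7, 6, 3, 10, 112]), (4126, 4, [0, 5, 6, 3, 7, 8, 7, 9, 47]), (4128, 4, [0, 6, 3, 6, 5, 8, 137]), (4130, 4, [6, 3, 7, 6, 5, 8, 0, 110]), (4132, 4, [6, 3, 6, 1, 5, 7, 6, 3, 8, 10, 116]), (4134, 4, [2, 7, 122]), (4144, 4, [7, 3, 0, 6, 8, 7, 6, 4, 8, 89]), (4146, 4, [7, 6, 3, 6, 5, 8, 7, 133]), (4148, 4, [7, 6, 5, 7, 8, 7, 6, 2, 9, 77]), (4150, 4, [4, 0, 8, 7, 6, 5, 104]), (4160, 4, [6, 2, 7, 6, 44]), (4162, 4, [5, 6, 1, 5, 7, 6, 0, 8, 105]), (4164, 4, [2, 3, 5, 6, 3, 6, 7, 6, 2, 90]), (4166, 4, [5, 6, 2, 7, 0, 6, 3, 11, 9, 19]), (4176, 4, [1, 5, 6, 1, 7, 6, 4, 8, 7, 6, 5, 89]), (4178, 4, [5, 0, 6, 4, 2, 7, 6, 8, 7, 6, 5, 61]), (4180, 4, [2, 6, 3, 6, 5, 8, 7, 84]), (4182, 4, [8, 5, 6, 2, 7, 6, 4, 8, 132]), (4200, 4, [2, 4, 6, 0, 2, 7, 6, 2, 6, 87]), (4202, 4,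 [1, 6, 3, 4, 7, 6, 1, 5, 51]), (4204, 4, [0, 5, 6, 3, 7, 8, 2, 9, 24]), (4206, 4, [6, 2, 7, 6, 2, 7, 106]), (4216, 4, [0, 2, 7, 6, 2, 7, 8, 7, 5, 97]), (4218, 4, [3, 6, 4, 2, 7, 6, 5, 8, 7, 1, 116]), (4220, 4, [2, 6, 5, 7, 8, 7, 6, 2, 9, 102]), (4222, 4, [0, 2, 8, 7, 6, 3, 8, 10, 42])], [], [(6, 5, []), (26, 5, [6, 2, 7, 231]), (4102, 5, [114]), (4122, 5, [6, 2, 7, 204])], [], [(2, 6, []), (6, 6, [2, 4, 6, 7, 6, 3, 8, 7, 6, 4, 2, 11, 10, 1210]), (4098, 6, [1637]), (4102, 6, [2, 4, 6, 7, 6, 3, 8, 7, 6, 4, 2, 11, 10, 770])]]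
def GV : List (ℕ × ℕ × List ℕ) := [(6, 0, []), (8, 23, [0, 1, 5, 6, 7, 6, 0, 8, 1, 3, 10]), (53, 5, [10, 4, 6, 3, 7, 6, 1, 8, 1, 4]), (59, 21, [4, 6, 5, 1, 7, 6, 0, 8, 1, 3]), (132, 21, [6, 7, 6, 8, 0, 1, 10, 8]), (138, 19, [5, 2, 5, 6, 7, 6, 1, 2, 8, 1, 2]), (183, 5, [7, 4, 6, 0, 7, 6, 10, 3]), (185, 18, [2, 4, 6, 1, 4, 1, 8, 1, 4])]
def X3 : List ℕ := [7, 0, 8, 6, 3, 6, 5, 7, 6, 3, 6, 8, 7]
def O4 : List ℕ := [2, 3, 6, 1, 7, 6, 4, 8, 7, 6, 11]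
def P3 : List ℕ := [5307, 9, 9, 9, 9, 1211]
def QF : List ℕ := [0, 1, 424, 425, 712, 713, 864, 865, 2048, 2049, 2472, 2473, 2760, 2761, 2912, 2913, 4096, 4097, 4520, 4521, 4808, 4809, 4960, 4961, 6144, 6145, 6568, 6569, 6856, 6857, 7008, 7009]
noncomputable def pwc (mu : ℕ → ℕ → ℕ) (act : ℕ → ℕ) (a o : ℕ) : ℕ :=
  Nat.rec (motive := fun _ => ℕ) 0 (fun _ c => force c fun c => force (act c) fun c => mu a c) o
noncomputable def cchk (n : ℕ) (mu : ℕ → ℕ → ℕ) (act : ℕ → ℕ) (o tz T mask : ℕ) (F : ℕ → Bool) (a : ℕ) : Bool :=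
  bif Nat.beq (Nat.land a mask) 0 then force (pwc mu act a o) fun c => (!Nat.beq c tz && Nat.beq (mu c c) 0) || F a
  else force (ht T a) fun b => force (act b) fun c => force (mu a c) fun x => force (Nat.xor b x) fun d =>
    force (Nat.xor d (Nat.xor (mu b d) x)) fun a' =>
    Nat.blt b n && Nat.blt a' n && Nat.beq (Nat.land a' mask) 0 && Nat.beq (mu b a') x
noncomputable def FQ (r a : ℕ) : Bool := (Nat.beq r 0 && Nat.beq (clq a) (clq 9)) || (nth [] GQ r).any fun d =>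
  Nat.beq d.1 a && Nat.blt d.2.1 7 && Nat.beq (eqH 10 0 (nth [] RA2 r ++ [13 + a] ++ d.2.2) (d.2.2 ++ nth [] ZW d.2.1)) 0
noncomputable abbrev RK2 (r : ℕ) : List ℕ := H0.PM.flat AW (nth [] RA2 r)
noncomputable def FV (r a : ℕ) : Bool := (Nat.beq r 0 && Nat.beq a 1250) || (Nat.beq r 6 && GV.any fun d =>
  Nat.beq d.1 a && Nat.blt d.2.1 2048 && Nat.beq (eM (RK2 6 ++ d.2.2) (d.2.2 ++ RK2 6)) 0 && Nat.beq (ltAll 11 d.2.2) 0 &&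
    Nat.beq (d.2.1 ^^^ 6) (apW PX d.2.2 a ^^^ ht (nth 0 AVT 6) d.2.1))
noncomputable def cQ (r a : ℕ) : ℕ := force (nth 0 BQT r) fun T => bif cchk 8192 qf (apW PD (nth [] RA2 r)) (2 ^ nth 0 OW r) 4096 T
  (nth 0 MQ r) (FQ r) a then 0 else 1
noncomputable def cV (r a : ℕ) : ℕ := force (nth 0 BVT r) fun T => force (nth 0 AVT r) fun A =>
  bif cchk 2048 Nat.xor (ht A) (2 ^ nth 0 OW r) 1250 T (nth 0 MV r) (FV r) a then 0 else 1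
noncomputable abbrev yw (b j e : ℕ) : List ℕ := rp e X8 ++ rp j P3 ++ [13 + b]
def neH (U V : List ℕ) : Prop := (∃ c ∈ BQ, c < 8192 ∧ apW PD U c ≠ apW PD V c) ∨ eqH 10 4096 U V = 0
noncomputable instance (U V : List ℕ) : Decidable (neH U V) := by unfold neH; infer_instance

theorem a4_lt : allL (ltAll 13) a4_W = true := by decide +kernel
theorem c4x_lt : allL (ltAll 13) c4x_W = true := by decide +kernel
theorem c4th_lt : allL (ltAll 13) c4th_W = true := by decide +kernel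
theorem c4tl0_e_0 : allZ (dent c4tl0 c4th_P (nat_lit 24)) (nat_lit 0) (nat_lit 21) = true := by decide +kernel
theorem c4tl0_h : 0 < c4tl0.n ∧ 0 < c4tl0.K ∧ c4tl0.Pt 0 < 24 ∧ c4tl0.Q (c4tl0.Pt 0) = 0 := by decide +kernel
theorem c4tl1_e_0 : allZ (dent c4tl1 c4th_P (nat_lit 24)) (nat_lit 0) (nat_lit 20) = true := by decide +kernel
theorem c4tl1_h : 0 < c4tl1.n ∧ 0 < c4tl1.K ∧ c4tl1.Pt 0 < 24 ∧ c4tl1.Q (c4tl1.Pt 0) = 0 := by decide +kernel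
theorem c4tl2_e_0 : allZ (dent c4tl2 c4th_P (nat_lit 24)) (nat_lit 0) (nat_lit 19) = true := by decide +kernel
theorem c4tl2_h : 0 < c4tl2.n ∧ 0 < c4tl2.K ∧ c4tl2.Pt 0 < 24 ∧ c4tl2.Q (c4tl2.Pt 0) = 0 := by decide +kernel
theorem c4tl3_e_0 : allZ (dent c4tl3 c4th_P (nat_lit 24)) (nat_lit 0) (nat_lit 2) = true := by decide +kernel
theorem c4tl3_h : 0 < c4tl3.n ∧ 0 < c4tl3.K ∧ c4tl3.Pt 0 < 24 ∧ c4tl3.Q (c4tl3.Pt 0) = 0 := by decide +kernel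
theorem c4tl4_e_0 : allZ (dent c4tl4 c4th_P (nat_lit 24)) (nat_lit 0) (nat_lit 15) = true := by decide +kernel
theorem c4tl4_h : 0 < c4tl4.n ∧ 0 < c4tl4.K ∧ c4tl4.Pt 0 < 24 ∧ c4tl4.Q (c4tl4.Pt 0) = 0 := by decide +kernel
theorem c4tl5_e_0 : allZ (dent c4tl5 c4th_P (nat_lit 24)) (nat_lit 0) (nat_lit 1) = true := by decide +kernel
theorem c4tl5_h : 0 < c4tl5.n ∧ 0 < c4tl5.K ∧ c4tl5.Pt 0 < 24 ∧ c4tl5.Q (c4tl5.Pt 0) = 0 := by decide +kernel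
theorem c4t_f5 : (Nat.ble c4tl5.K 14 && Nat.ble (topK []) c4tl5.K && fixLetters c4th_P (topK []) (c4tl5.Pt 0)) = true := by decide +kernel
theorem c4t_f4 : (Nat.ble c4tl4.K 14 && Nat.ble (topK [c4tl5]) c4tl4.K && fixLetters c4th_P (topK [c4tl5]) (c4tl4.Pt 0)) = true := by decide +kernel
theorem c4t_f3 : (Nat.ble c4tl3.K 14 && Nat.ble (topK [c4tl4, c4tl5]) c4tl3.K && fixLetters c4th_P (topK [c4tl4, c4tl5]) (c4tl3.Pt 0)) = true := by decide +kernel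
theorem c4t_f2 : (Nat.ble c4tl2.K 14 && Nat.ble (topK [c4tl3, c4tl4, c4tl5]) c4tl2.K && fixLetters c4th_P (topK [c4tl3, c4tl4, c4tl5]) (c4tl2.Pt 0)) = true := by decide +kernel
theorem c4t_f1 : (Nat.ble c4tl1.K 14 && Nat.ble (topK [c4tl2, c4tl3, c4tl4, c4tl5]) c4tl1.K && fixLetters c4th_P (topK [c4tl2, c4tl3, c4tl4, c4tl5]) (c4tl1.Pt 0)) = true := by decide +kernel
theorem c4t_f0 : (Nat.ble c4tl0.K 14 && Nat.ble (topK [c4tl1, c4tl2, c4tl3, c4tl4, c4tl5]) c4tl0.K && fixLetters c4th_P (topK [c4tl1, c4tl2, c4tl3, c4tl4, c4tl5]) (c4tl0.Pt 0)) = true := by decide +kernel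
theorem c4t_c : chainCard [c4tl0, c4tl1, c4tl2, c4tl3, c4tl4, c4tl5] = 887040 := by decide +kernel
theorem c4ce_lt : allL (ltAll 13) c4ce_W = true := by decide +kernel
theorem c4c_f5 : (Nat.ble c4tl5.K 14 && Nat.blt (nat_lit 4) 24 && fixLetters c4th_P c4tl5.K (nat_lit 4) && Nat.beq (ltAll 1 [nat_lit 0]) 0 && Nat.beq (apW c4x_P [nat_lit 0] (nat_lit 4)) (c4tl5.Pt 0)) = true := by decide +kernel
theorem c4cc4_e_0 : allZ (dent c4cc4 c4ce_P (nat_lit 24)) (nat_lit 0) (nat_lit 7) = true := by decide +kernel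
theorem c4cc4_h : 0 < c4cc4.n ∧ 0 < c4cc4.K ∧ c4cc4.Pt 0 < 24 ∧ c4cc4.Q (c4cc4.Pt 0) = 0 := by decide +kernel
theorem c4tn0_0 : (Nat.ble c4tl4.K 14 && Nat.beq (ltAll 24 [c4tl3.Pt 0, c4tl2.Pt 0, c4tl1.Pt 0, c4tl0.Pt 0]) 0 && kChk c4ce_P c4x_P c4tn0.Kn 1 A0.B [c4tl3.Pt 0, c4tl2.Pt 0, c4tl1.Pt 0, c4tl0.Pt 0] && allL (ltAll 1) c4tn0.pre && planOK c4th_P c4x_P 1 (c4tl4.Pt 0) c4tn0.plan [c4tl4, c4tl5]) = true := by decide +kernel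
theorem c4tn0_1_0 : allZ (c4tn0.ent A0.P c4th_P c4x_P c4x_P c4ce_P (nat_lit 13) (nat_lit 1) A0.B c4tl4 [c4tl5] (memO c4cc4)) (nat_lit 0) (nat_lit 16) = true := by decide +kernel
theorem c4c_f4 : (Nat.ble c4cc4.K 4 && Nat.ble (topK []) c4cc4.K && Nat.beq (c4cc4.Pt 0) (c4tl4.Pt 0) && Nat.beq (ltAll 24 [c4tl3.Pt 0, c4tl2.Pt 0, c4tl1.Pt 0, c4tl0.Pt 0]) 0 && kChk c4ce_P c4x_P c4cc4.K 1 A0.B [c4tl3.Pt 0, c4tl2.Pt 0, c4tl1.Pt 0, c4tl0.Pt 0]) = true := by decide +kernel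
theorem c4c_f3 : (Nat.ble c4tl3.K 14 && Nat.blt (nat_lit 5) 24 && fixLetters c4th_P c4tl3.K (nat_lit 5) && Nat.beq (ltAll 1 [nat_lit 0]) 0 && Nat.beq (apW c4x_P [nat_lit 0] (nat_lit 5)) (c4tl3.Pt 0)) = true := by decide +kernel
theorem c4cc2_e_0 : allZ (dent c4cc2 c4ce_P (nat_lit 24)) (nat_lit 0) (nat_lit 1) = true := by decide +kernel
theorem c4cc2_h : 0 < c4cc2.n ∧ 0 < c4cc2.K ∧ c4cc2.Pt 0 < 24 ∧ c4cc2.Q (c4cc2.Pt 0) = 0 := by decide +kernel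
theorem c4tn1_0 : (Nat.ble c4tl2.K 14 && Nat.beq (ltAll 24 [c4tl1.Pt 0, c4tl0.Pt 0]) 0 && kChk c4ce_P c4x_P c4tn1.Kn 1 A0.B [c4tl1.Pt 0, c4tl0.Pt 0] && allL (ltAll 1) c4tn1.pre && planOK c4th_P c4x_P 1 (c4tl2.Pt 0) c4tn1.plan [c4tl2, c4tl3, c4tl4, c4tl5]) = true := by decide +kernel
theorem c4tn1_1_0 : allZ (c4tn1.ent A0.P c4th_P c4x_P c4x_P c4ce_P (nat_lit 13) (nat_lit 1) A0.B c4tl2 [c4tl3, c4tl4, c4tl5] (memO c4cc2)) (nat_lit 0) (nat_lit 20) = true := by decide +kernel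
theorem c4c_f2 : (Nat.ble c4cc2.K 4 && Nat.ble (topK [c4cc4]) c4cc2.K && Nat.beq (c4cc2.Pt 0) (c4tl2.Pt 0) && Nat.beq (ltAll 24 [c4tl1.Pt 0, c4tl0.Pt 0]) 0 && kChk c4ce_P c4x_P c4cc2.K 1 A0.B [c4tl1.Pt 0, c4tl0.Pt 0]) = true := by decide +kernel
theorem c4c_f1 : (Nat.ble c4tl1.K 14 && Nat.blt (nat_lit 2) 24 && fixLetters c4th_P c4tl1.K (nat_lit 2) && Nat.beq (ltAll 1 [nat_lit 0]) 0 && Nat.beq (apW c4x_P [nat_lit 0] (nat_lit 2)) (c4tl1.Pt 0)) = true := by decide +kernel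
theorem c4cc0_e_0 : allZ (dent c4cc0 c4ce_P (nat_lit 24)) (nat_lit 0) (nat_lit 3) = true := by decide +kernel
theorem c4cc0_h : 0 < c4cc0.n ∧ 0 < c4cc0.K ∧ c4cc0.Pt 0 < 24 ∧ c4cc0.Q (c4cc0.Pt 0) = 0 := by decide +kernel
theorem c4tn2_0 : (Nat.ble c4tl0.K 14 && Nat.beq (ltAll 24 []) 0 && kChk c4ce_P c4x_P c4tn2.Kn 1 A0.B [] && allL (ltAll 1) c4tn2.pre && planOK c4th_P c4x_P 1 (c4tl0.Pt 0) c4tn2.plan [c4tl0, c4tl1, c4tl2, c4tl3, c4tl4, c4tl5]) = true := by decide +kernel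
theorem c4tn2_1_0 : allZ (c4tn2.ent A0.P c4th_P c4x_P c4x_P c4ce_P (nat_lit 13) (nat_lit 1) A0.B c4tl0 [c4tl1, c4tl2, c4tl3, c4tl4, c4tl5] (memO c4cc0)) (nat_lit 0) (nat_lit 22) = true := by decide +kernel
theorem c4c_f0 : (Nat.ble c4cc0.K 4 && Nat.ble (topK [c4cc2, c4cc4]) c4cc0.K && Nat.beq (c4cc0.Pt 0) (c4tl0.Pt 0) && Nat.beq (ltAll 24 []) 0 && kChk c4ce_P c4x_P c4cc0.K 1 A0.B []) = true := by decide +kernel
theorem c4c_c : chainCard [c4cc0, c4cc2, c4cc4] = 64 ∧ topK [c4cc0, c4cc2, c4cc4] = 4 := by decide +kernel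
theorem a8_lt : allL (ltAll 13) a8_W = true := by decide +kernel
theorem c8x_lt : allL (ltAll 13) c8x_W = true := by decide +kernel
theorem c8th_lt : allL (ltAll 13) c8th_W = true := by decide +kernel
theorem c8tl0_e_0 : allZ (dent c8tl0 c8th_P (nat_lit 24)) (nat_lit 0) (nat_lit 21) = true := by decide +kernel
theorem c8tl0_h : 0 < c8tl0.n ∧ 0 < c8tl0.K ∧ c8tl0.Pt 0 < 24 ∧ c8tl0.Q (c8tl0.Pt 0) = 0 := by decide +kernel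
theorem c8tl1_e_0 : allZ (dent c8tl1 c8th_P (nat_lit 24)) (nat_lit 0) (nat_lit 20) = true := by decide +kernel
theorem c8tl1_h : 0 < c8tl1.n ∧ 0 < c8tl1.K ∧ c8tl1.Pt 0 < 24 ∧ c8tl1.Q (c8tl1.Pt 0) = 0 := by decide +kernel
theorem c8tl2_e_0 : allZ (dent c8tl2 c8th_P (nat_lit 24)) (nat_lit 0) (nat_lit 19) = true := by decide +kernel
theorem c8tl2_h : 0 < c8tl2.n ∧ 0 < c8tl2.K ∧ c8tl2.Pt 0 < 24 ∧ c8tl2.Q (c8tl2.Pt 0) = 0 := by decide +kernel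
theorem c8tl3_e_0 : allZ (dent c8tl3 c8th_P (nat_lit 24)) (nat_lit 0) (nat_lit 15) = true := by decide +kernel
theorem c8tl3_h : 0 < c8tl3.n ∧ 0 < c8tl3.K ∧ c8tl3.Pt 0 < 24 ∧ c8tl3.Q (c8tl3.Pt 0) = 0 := by decide +kernel
theorem c8tl4_e_0 : allZ (dent c8tl4 c8th_P (nat_lit 24)) (nat_lit 0) (nat_lit 2) = true := by decide +kernel
theorem c8tl4_h : 0 < c8tl4.n ∧ 0 < c8tl4.K ∧ c8tl4.Pt 0 < 24 ∧ c8tl4.Q (c8tl4.Pt 0) = 0 := by decide +kernel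
theorem c8tl5_e_0 : allZ (dent c8tl5 c8th_P (nat_lit 24)) (nat_lit 0) (nat_lit 1) = true := by decide +kernel
theorem c8tl5_h : 0 < c8tl5.n ∧ 0 < c8tl5.K ∧ c8tl5.Pt 0 < 24 ∧ c8tl5.Q (c8tl5.Pt 0) = 0 := by decide +kernel
theorem c8t_f5 : (Nat.ble c8tl5.K 15 && Nat.ble (topK []) c8tl5.K && fixLetters c8th_P (topK []) (c8tl5.Pt 0)) = true := by decide +kernel
theorem c8t_f4 : (Nat.ble c8tl4.K 15 && Nat.ble (topK [c8tl5]) c8tl4.K && fixLetters c8th_P (topK [c8tl5]) (c8tl4.Pt 0)) = true := by decide +kernel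
theorem c8t_f3 : (Nat.ble c8tl3.K 15 && Nat.ble (topK [c8tl4, c8tl5]) c8tl3.K && fixLetters c8th_P (topK [c8tl4, c8tl5]) (c8tl3.Pt 0)) = true := by decide +kernel
theorem c8t_f2 : (Nat.ble c8tl2.K 15 && Nat.ble (topK [c8tl3, c8tl4, c8tl5]) c8tl2.K && fixLetters c8th_P (topK [c8tl3, c8tl4, c8tl5]) (c8tl2.Pt 0)) = true := by decide +kernel
theorem c8t_f1 : (Nat.ble c8tl1.K 15 && Nat.ble (topK [c8tl2, c8tl3, c8tl4, c8tl5]) c8tl1.K && fixLetters c8th_P (topK [c8tl2, c8tl3, c8tl4, c8tl5]) (c8tl1.Pt 0)) = true := by decide +kernel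
theorem c8t_f0 : (Nat.ble c8tl0.K 15 && Nat.ble (topK [c8tl1, c8tl2, c8tl3, c8tl4, c8tl5]) c8tl0.K && fixLetters c8th_P (topK [c8tl1, c8tl2, c8tl3, c8tl4, c8tl5]) (c8tl0.Pt 0)) = true := by decide +kernel
theorem c8t_c : chainCard [c8tl0, c8tl1, c8tl2, c8tl3, c8tl4, c8tl5] = 887040 := by decide +kernel
theorem c8ce_lt : allL (ltAll 13) c8ce_W = true := by decide +kernel
theorem c8c_f5 : (Nat.ble c8tl5.K 15 && Nat.blt (nat_lit 3) 24 && fixLetters c8th_P c8tl5.K (nat_lit 3) && Nat.beq (ltAll 1 [nat_lit 0, nat_lit 0, nat_lit 0, nat_lit 0, nat_lit 0]) 0 && Nat.beq (apW c8x_P [nat_lit 0, nat_lit 0, nat_lit 0, nat_lit 0, nat_lit 0] (nat_lit 3)) (c8tl5.Pt 0)) = true := by decide +kernel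
theorem c8c_f4 : (Nat.ble c8tl4.K 15 && Nat.blt (nat_lit 3) 24 && fixLetters c8th_P c8tl4.K (nat_lit 3) && Nat.beq (ltAll 1 [nat_lit 0, nat_lit 0, nat_lit 0, nat_lit 0]) 0 && Nat.beq (apW c8x_P [nat_lit 0, nat_lit 0, nat_lit 0, nat_lit 0] (nat_lit 3)) (c8tl4.Pt 0)) = true := by decide +kernel
theorem c8c_f3 : (Nat.ble c8tl3.K 15 && Nat.blt (nat_lit 3) 24 && fixLetters c8th_P c8tl3.K (nat_lit 3) && Nat.beq (ltAll 1 [nat_lit 0, nat_lit 0, nat_lit 0]) 0 && Nat.beq (apW c8x_P [nat_lit 0, nat_lit 0, nat_lit 0] (nat_lit 3)) (c8tl3.Pt 0)) = true := by decide +kernel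
theorem c8c_f2 : (Nat.ble c8tl2.K 15 && Nat.blt (nat_lit 3) 24 && fixLetters c8th_P c8tl2.K (nat_lit 3) && Nat.beq (ltAll 1 [nat_lit 0, nat_lit 0]) 0 && Nat.beq (apW c8x_P [nat_lit 0, nat_lit 0] (nat_lit 3)) (c8tl2.Pt 0)) = true := by decide +kernel
theorem c8c_f1 : (Nat.ble c8tl1.K 15 && Nat.blt (nat_lit 3) 24 && fixLetters c8th_P c8tl1.K (nat_lit 3) && Nat.beq (ltAll 1 [nat_lit 0]) 0 && Nat.beq (apW c8x_P [nat_lit 0] (nat_lit 3)) (c8tl1.Pt 0)) = true := by decide +kernel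
theorem c8cc0_e_0 : allZ (dent c8cc0 c8ce_P (nat_lit 24)) (nat_lit 0) (nat_lit 15) = true := by decide +kernel
theorem c8cc0_h : 0 < c8cc0.n ∧ 0 < c8cc0.K ∧ c8cc0.Pt 0 < 24 ∧ c8cc0.Q (c8cc0.Pt 0) = 0 := by decide +kernel
theorem c8tn0_0 : (Nat.ble c8tl0.K 15 && Nat.beq (ltAll 24 []) 0 && kChk c8ce_P c8x_P c8tn0.Kn 1 A0.B [] && allL (ltAll 1) c8tn0.pre && planOK c8th_P c8x_P 1 (c8tl0.Pt 0) c8tn0.plan [c8tl0, c8tl1, c8tl2, c8tl3, c8tl4, c8tl5]) = true := by decide +kernel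
theorem c8tn0_1_0 : allZ (c8tn0.ent A0.P c8th_P c8x_P c8x_P c8ce_P (nat_lit 13) (nat_lit 1) A0.B c8tl0 [c8tl1, c8tl2, c8tl3, c8tl4, c8tl5] (memO c8cc0)) (nat_lit 0) (nat_lit 22) = true := by decide +kernel
theorem c8c_f0 : (Nat.ble c8cc0.K 2 && Nat.ble (topK []) c8cc0.K && Nat.beq (c8cc0.Pt 0) (c8tl0.Pt 0) && Nat.beq (ltAll 24 []) 0 && kChk c8ce_P c8x_P c8cc0.K 1 A0.B []) = true := by decide +kernel
theorem c8c_c : chainCard [c8cc0] = 16 ∧ topK [c8cc0] = 2 := by decide +kernel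
theorem cQ0 : allZ (cQ 0) 0 8192 = true := by decide +kernel
theorem cQ1 : allZ (cQ 1) 0 8192 = true := by decide +kernel
theorem cQ2 : allZ (cQ 2) 0 8192 = true := by decide +kernel
theorem cQ3 : allZ (cQ 3) 0 8192 = true := by decide +kernel
theorem cQ4 : allZ (cQ 4) 0 8192 = true := by decide +kernel
theorem cQ5 : allZ (cQ 5) 0 8192 = true := by decide +kernel
theorem cQ6 : allZ (cQ 6) 0 8192 = true := by decide +kernel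
theorem cQ7 : allZ (cQ 7) 0 8192 = true := by decide +kernel
theorem cQ8 : allZ (cQ 8) 0 8192 = true := by decide +kernel
theorem cQ9 : allZ (cQ 9) 0 8192 = true := by decide +kernel
theorem cV_ok : ∀ r < 10, allZ (cV r) 0 2048 = true := by decide +kernel
theorem CA2_ok : ∀ b < 256, ∀ d ∈ [nth (0, []) CA2 b], d.1 < 10 ∧ ltAll 9 d.2 = 0 ∧ eqL A0.P 13 A0.B (H0.PM.flat tat_W (bw b 8) ++ d.2) (d.2 ++ nth [] RA2 d.1) = 0 := by decide +kernel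
theorem RA2_ok : allL (ltAll 13) RA2 = true ∧ allL (ltAll 8205) ZW = true ∧ ∀ r < 10, eqH 10 0 (rp (2 ^ nth 0 OW r) (nth [] RA2 r)) [] = 0 ∧ eM (rp (2 ^ nth 0 OW r) (RK2 r)) [] = 0 ∧ ltAll 11 (RK2 r) = 0 ∧ (∀ m < nth 0 OW r, ∃ i < 24, apW A0.P (rp (2 ^ m) (nth [] RA2 r)) i ≠ i) ∧ htChk (nth 0 AVT r) (nth [] AVC r) = true ∧ (∀ i < 11, apW PX (RK2 r) (2 ^ i) = linL (nth [] AVC r) (2 ^ i)) ∧ (apW A0.P (nth [] RA2 r) 0 = 0 → r < 5) ∧ (r < 5 → ltAll 11 (nth [] RA2 r) = 0) := by decide +kernel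
theorem ZW_ok : (∀ j < 7, eqH 10 4096 (rp (2 ^ nth 0 [0, 1, 1, 2, 2, 2, 3] j) (nth [] ZW j)) [] = 0) ∧ pwc Nat.xor (ht (nth 0 AVT 6)) 6 2 = 1250 ∧ (∃ i < 24, apW A0.P (kp (nth [] ZW 2)) i ≠ i) ∧ apW A0.P (kp (nth [] ZW 3)) 0 = 0 ∧ (∀ i < 24, apW A0.P (kp (nth [] ZW 5)) i ≠ i ∧ apW A0.P (kp (nth [] ZW 4)) i ≠ i) ∧ eqL A0.P 13 A0.B (rp 2 (kp (nth [] ZW 4))) [] = 0 ∧ ∃ i < 24, apW A0.P (rp 2 (kp (nth [] ZW 5))) i ≠ i := by decide +kernel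
theorem K0_ok : tyV 128 = 2 ∧ tyV 129 = 1 ∧ ltAll 11 X3 = 0 ∧ eqH 10 4096 (nth [] RA2 3 ++ X3) (X3 ++ nth [] RA2 3) = 0 ∧ ltAll 13 O4 = 0 ∧ apW A0.P O4 0 ≠ 0 ∧ eqL A0.P 13 A0.B (nth [] RA2 4 ++ O4) (O4 ++ nth [] RA2 4) = 0 ∧ ∀ k < 4, ∀ W ∈ [nth [] c4ce_W k ++ List.replicate (4 * nth 0 EJ k) 9], eqH 10 0 (nth [] RA2 2 ++ W) (W ++ nth [] RA2 2) = 0 := by decide +kernel
theorem QF_ok : ∀ a < 8192, (fQ 0 a = 0 → a ∈ QF) ∧ (fQ 2 a = 0 → a % 4096 ∈ [0, 55, 472, 495]) := az_of (by decide +kernel)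
theorem Y_ok : ltAll 8205 P3 = 0 ∧ ltAll 8205 X8 = 0 ∧ eqH 10 0 (P3 ++ F5) (F5 ++ P3) = 0 ∧ eqH 10 425 (X8 ++ X8) [] = 0 ∧ eqH 10 0 (P3 ++ yw 712 0 1) (yw 712 0 1 ++ P3 ++ P3) = 0 ∧ apW A0.P (kp X8) 0 ≠ 0 ∧ qf 425 425 = 4096 ∧ qf 713 713 = 4096 ∧ eqH 10 4096 (rp 4 (yw 1 0 1)) [] = 0 ∧ ∀ a ∈ QF, a < 8192 ∧ fQ 0 a = 0 ∧ ((∃ u < 8, a = vq u) ∨ ∃ b ∈ [0, 1, 2048], ∃ j < 3, ∃ e < 2, apW PD (yw b j e) a ∈ [424, 425, 713]) ∧ ((∃ u < 8, u ≠ 1 ∧ eqH 10 (vq u) (yw a 0 1 ++ yw a 0 1) [] = 0) ∨ ∃ b ∈ QF, ∃ c < 2, eqH 10 0 (yw a 0 1 ++ [13 + b]) ([13 + b] ++ yw c 0 1) = 0) ∧ ∀ e < 2, (neH (P3 ++ yw a 0 e) (yw a 0 e ++ P3) ∨ (e = 0 ∧ a % 4096 = 0)) ∧ ∀ j < 3, apW PD (yw a j e) 425 ≠ 713 ∧ neH (yw 0 0 1 ++ yw a j e) (yw a j e ++ yw 1 0 1) := by decide +kernel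
theorem R_ok : (∀ a ∈ [55, 472], apW PD X11 a = a) ∧ qf 55 55 = 4096 ∧ ∀ a ∈ [55, 472, 495, 4151, 4568, 4591], ∃ j < 3, ∃ b ∈ [0, 472], apW PD (rp j [9, 9, 9, 9] ++ [13 + b]) a = 55 := by decide +kernel

theorem a4_act {G Ω : Type*} [Group G] [MulAction G Ω] {g : ℕ → G} {pt : ℕ → Ω}
    (M : Md g pt A0.P 24 13 A0.B 887040) : Act (wds g a4_W) pt a4_P 24 1 :=
  M.wact a4_lt
theorem c4x_act {G Ω : Type*} [Group G] [MulAction G Ω] {g : ℕ → G} {pt : ℕ → Ω}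
    (M : Md g pt A0.P 24 13 A0.B 887040) : Act (wds g c4x_W) pt c4x_P 24 1 :=
  M.wact c4x_lt
theorem c4th_act {G Ω : Type*} [Group G] [MulAction G Ω] {g : ℕ → G} {pt : ℕ → Ω}
    (M : Md g pt A0.P 24 13 A0.B 887040) : Act (wds g c4th_W) pt c4th_P 24 14 :=
  M.wact c4th_lt
theorem c4tl0_e : ∀ i < 21, (dent c4tl0 c4th_P (nat_lit 24)) i = 0 := allZ_sound0 c4tl0_e_0
theorem c4tl0_ok : DOK c4tl0 c4th_P 24 := ⟨c4tl0_h, c4tl0_e⟩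
theorem c4tl1_e : ∀ i < 20, (dent c4tl1 c4th_P (nat_lit 24)) i = 0 := allZ_sound0 c4tl1_e_0
theorem c4tl1_ok : DOK c4tl1 c4th_P 24 := ⟨c4tl1_h, c4tl1_e⟩
theorem c4tl2_e : ∀ i < 19, (dent c4tl2 c4th_P (nat_lit 24)) i = 0 := allZ_sound0 c4tl2_e_0
theorem c4tl2_ok : DOK c4tl2 c4th_P 24 := ⟨c4tl2_h, c4tl2_e⟩
theorem c4tl3_e : ∀ i < 2, (dent c4tl3 c4th_P (nat_lit 24)) i = 0 := allZ_sound0 c4tl3_e_0
theorem c4tl3_ok : DOK c4tl3 c4th_P 24 := ⟨c4tl3_h, c4tl3_e⟩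
theorem c4tl4_e : ∀ i < 15, (dent c4tl4 c4th_P (nat_lit 24)) i = 0 := allZ_sound0 c4tl4_e_0
theorem c4tl4_ok : DOK c4tl4 c4th_P 24 := ⟨c4tl4_h, c4tl4_e⟩
theorem c4tl5_e : ∀ i < 1, (dent c4tl5 c4th_P (nat_lit 24)) i = 0 := allZ_sound0 c4tl5_e_0
theorem c4tl5_ok : DOK c4tl5 c4th_P 24 := ⟨c4tl5_h, c4tl5_e⟩
theorem c4t_low {G Ω : Type*} [Group G] [MulAction G Ω] {g : ℕ → G} {pt : ℕ → Ω}
    (M : Md g pt A0.P 24 13 A0.B 887040) : SLow (gi (wds g c4th_W)) pt 24 [c4tl0, c4tl1, c4tl2, c4tl3, c4tl4, c4tl5] :=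
  ((((((SLow.nil).cons c4tl5_ok (c4th_act M) c4t_f5).cons c4tl4_ok (c4th_act M) c4t_f4).cons c4tl3_ok (c4th_act M) c4t_f3).cons c4tl2_ok (c4th_act M) c4t_f2).cons c4tl1_ok (c4th_act M) c4t_f1).cons c4tl0_ok (c4th_act M) c4t_f0
theorem c4t_S0 {G Ω : Type*} [Group G] [MulAction G Ω] {g : ℕ → G} {pt : ℕ → Ω}
    (M : Md g pt A0.P 24 13 A0.B 887040) : Stage ⊤ (wds g c4th_W) pt 24 [c4tl0, c4tl1, c4tl2, c4tl3, c4tl4, c4tl5] [] :=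
  M.stage (c4t_low M) c4t_c
theorem c4t_S1 {G Ω : Type*} [Group G] [MulAction G Ω] {g : ℕ → G} {pt : ℕ → Ω}
    (M : Md g pt A0.P 24 13 A0.B 887040) : Stage ⊤ (wds g c4th_W) pt 24 [c4tl1, c4tl2, c4tl3, c4tl4, c4tl5] [c4tl0.Pt 0] :=
  (c4t_S0 M).next
theorem c4t_S2 {G Ω : Type*} [Group G] [MulAction G Ω] {g : ℕ → G} {pt : ℕ → Ω}
    (M : Md g pt A0.P 24 13 A0.B 887040) : Stage ⊤ (wds g c4th_W) pt 24 [c4tl2, c4tl3, c4tl4, c4tl5] [c4tl1.Pt 0, c4tl0.Pt 0] :=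
  (c4t_S1 M).next
theorem c4t_S3 {G Ω : Type*} [Group G] [MulAction G Ω] {g : ℕ → G} {pt : ℕ → Ω}
    (M : Md g pt A0.P 24 13 A0.B 887040) : Stage ⊤ (wds g c4th_W) pt 24 [c4tl3, c4tl4, c4tl5] [c4tl2.Pt 0, c4tl1.Pt 0, c4tl0.Pt 0] :=
  (c4t_S2 M).next
theorem c4t_S4 {G Ω : Type*} [Group G] [MulAction G Ω] {g : ℕ → G} {pt : ℕ → Ω}
    (M : Md g pt A0.P 24 13 A0.B 887040) : Stage ⊤ (wds g c4th_W) pt 24 [c4tl4, c4tl5] [c4tl3.Pt 0, c4tl2.Pt 0, c4tl1.Pt 0, c4tl0.Pt 0] :=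
  (c4t_S3 M).next
theorem c4t_S5 {G Ω : Type*} [Group G] [MulAction G Ω] {g : ℕ → G} {pt : ℕ → Ω}
    (M : Md g pt A0.P 24 13 A0.B 887040) : Stage ⊤ (wds g c4th_W) pt 24 [c4tl5] [c4tl4.Pt 0, c4tl3.Pt 0, c4tl2.Pt 0, c4tl1.Pt 0, c4tl0.Pt 0] :=
  (c4t_S4 M).next
theorem c4t_S6 {G Ω : Type*} [Group G] [MulAction G Ω] {g : ℕ → G} {pt : ℕ → Ω}
    (M : Md g pt A0.P 24 13 A0.B 887040) : Stage ⊤ (wds g c4th_W) pt 24 [] [c4tl5.Pt 0, c4tl4.Pt 0, c4tl3.Pt 0, c4tl2.Pt 0, c4tl1.Pt 0, c4tl0.Pt 0] :=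
  (c4t_S5 M).next
theorem c4ce_act {G Ω : Type*} [Group G] [MulAction G Ω] {g : ℕ → G} {pt : ℕ → Ω}
    (M : Md g pt A0.P 24 13 A0.B 887040) : Act (wds g c4ce_W) pt c4ce_P 24 4 :=
  M.wact c4ce_lt
theorem c4cc4_e : ∀ i < 7, (dent c4cc4 c4ce_P (nat_lit 24)) i = 0 := allZ_sound0 c4cc4_e_0
theorem c4cc4_ok : DOK c4cc4 c4ce_P 24 := ⟨c4cc4_h, c4cc4_e⟩
theorem c4tn0_1 : ∀ i < 16, (c4tn0.ent A0.P c4th_P c4x_P c4x_P c4ce_P (nat_lit 13) (nat_lit 1) A0.B c4tl4 [c4tl5] (memO c4cc4)) i = 0 := allZ_sound0 c4tn0_1_0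
theorem c4tn0_t {G Ω : Type*} [Group G] [MulAction G Ω] {g : ℕ → G} {pt : ℕ → Ω}
    (M : Md g pt A0.P 24 13 A0.B 887040) : TrO (gen (wds g c4th_W) c4tl4.K) (wds g c4x_W) (wds g c4x_W) 1 pt 24 (c4tl4.Pt 0) (memO c4cc4) :=
  node M (c4t_S4 M) (c4th_act M) (c4x_act M) (c4x_act M) c4tn0 ((c4ce_act M).mono (by decide)) (fun _ _ => trivial) c4tn0_0 c4tn0_1 (List.forall_mem_nil _)
theorem c4cc2_e : ∀ i < 1, (dent c4cc2 c4ce_P (nat_lit 24)) i = 0 := allZ_sound0 c4cc2_e_0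
theorem c4cc2_ok : DOK c4cc2 c4ce_P 24 := ⟨c4cc2_h, c4cc2_e⟩
theorem c4tn1_1 : ∀ i < 20, (c4tn1.ent A0.P c4th_P c4x_P c4x_P c4ce_P (nat_lit 13) (nat_lit 1) A0.B c4tl2 [c4tl3, c4tl4, c4tl5] (memO c4cc2)) i = 0 := allZ_sound0 c4tn1_1_0
theorem c4tn1_t {G Ω : Type*} [Group G] [MulAction G Ω] {g : ℕ → G} {pt : ℕ → Ω}
    (M : Md g pt A0.P 24 13 A0.B 887040) : TrO (gen (wds g c4th_W) c4tl2.K) (wds g c4x_W) (wds g c4x_W) 1 pt 24 (c4tl2.Pt 0) (memO c4cc2) :=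
  node M (c4t_S2 M) (c4th_act M) (c4x_act M) (c4x_act M) c4tn1 ((c4ce_act M).mono (by decide)) (fun _ _ => trivial) c4tn1_0 c4tn1_1 (List.forall_mem_nil _)
theorem c4cc0_e : ∀ i < 3, (dent c4cc0 c4ce_P (nat_lit 24)) i = 0 := allZ_sound0 c4cc0_e_0
theorem c4cc0_ok : DOK c4cc0 c4ce_P 24 := ⟨c4cc0_h, c4cc0_e⟩
theorem c4tn2_1 : ∀ i < 22, (c4tn2.ent A0.P c4th_P c4x_P c4x_P c4ce_P (nat_lit 13) (nat_lit 1) A0.B c4tl0 [c4tl1, c4tl2, c4tl3, c4tl4, c4tl5] (memO c4cc0)) i = 0 := allZ_sound0 c4tn2_1_0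
theorem c4tn2_t {G Ω : Type*} [Group G] [MulAction G Ω] {g : ℕ → G} {pt : ℕ → Ω}
    (M : Md g pt A0.P 24 13 A0.B 887040) : TrO (gen (wds g c4th_W) c4tl0.K) (wds g c4x_W) (wds g c4x_W) 1 pt 24 (c4tl0.Pt 0) (memO c4cc0) :=
  node M (c4t_S0 M) (c4th_act M) (c4x_act M) (c4x_act M) c4tn2 ((c4ce_act M).mono (by decide)) (fun _ _ => trivial) c4tn2_0 c4tn2_1 (List.forall_mem_nil _)
theorem c4c {G Ω : Type*} [Group G] [MulAction G Ω] {g : ℕ → G} {pt : ℕ → Ω}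
    (M : Md g pt A0.P 24 13 A0.B 887040) : Cen ⊤ (wds g c4x_W) 1 (wds g c4ce_W) pt 24 [c4cc0, c4cc2, c4cc4] :=
  (c4t_S0 M).top ▸ Cen.lev M (c4t_S0 M) (Cen.triv (c4t_S1 M) (Cen.lev M (c4t_S2 M) (Cen.triv (c4t_S3 M) (Cen.lev M (c4t_S4 M) (Cen.triv (c4t_S5 M) (Cen.bot) (forced (c4t_S5 M) (c4th_act M) (c4x_act M) _ _ c4c_f5)) (c4tn0_t M) (c4x_act M) (c4ce_act M) (fun _ _ => trivial) c4cc4_ok c4c_f4) (forced (c4t_S3 M) (c4th_act M) (c4x_act M) _ _ c4c_f3)) (c4tn1_t M) (c4x_act M) (c4ce_act M) (fun _ _ => trivial) c4cc2_ok c4c_f2) (forced (c4t_S1 M) (c4th_act M) (c4x_act M) _ _ c4c_f1)) (c4tn2_t M) (c4x_act M) (c4ce_act M) (fun _ _ => trivial) c4cc0_ok c4c_f0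
theorem c4c_card {G Ω : Type*} [Group G] [MulAction G Ω] {g : ℕ → G} {pt : ℕ → Ω}
    (M : Md g pt A0.P 24 13 A0.B 887040) : Nat.card (Subgroup.centralizer {(wds g c4x_W) 0}) = 64 :=
  (c4c M).card_cent1 M.inj c4c_c.1
theorem c4c_eq {G Ω : Type*} [Group G] [MulAction G Ω] {g : ℕ → G} {pt : ℕ → Ω}
    (M : Md g pt A0.P 24 13 A0.B 887040) : Subgroup.centralizer (gen (wds g c4x_W) 1) = gen (wds g c4ce_W) 4 ∧ Nat.card (gen (wds g c4ce_W) 4) = 64 :=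
  c4c_c.1 ▸ c4c_c.2 ▸ ⟨(c4c M).cent, (c4c M).card M.inj⟩
theorem c4 {G Ω : Type*} [Group G] [MulAction G Ω] {g : ℕ → G} {pt : ℕ → Ω}
    (M : Md g pt A0.P 24 13 A0.B 887040) : Nat.card (Subgroup.centralizer {(wds g a4_W) 0}) = 64 :=
  c4c_card M
theorem a8_act {G Ω : Type*} [Group G] [MulAction G Ω] {g : ℕ → G} {pt : ℕ → Ω}
    (M : Md g pt A0.P 24 13 A0.B 887040) : Act (wds g a8_W) pt a8_P 24 1 :=
  M.wact a8_lt
theorem c8x_act {G Ω : Type*} [Group G] [MulAction G Ω] {g : ℕ → G} {pt : ℕ → Ω}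
    (M : Md g pt A0.P 24 13 A0.B 887040) : Act (wds g c8x_W) pt c8x_P 24 1 :=
  M.wact c8x_lt
theorem c8th_act {G Ω : Type*} [Group G] [MulAction G Ω] {g : ℕ → G} {pt : ℕ → Ω}
    (M : Md g pt A0.P 24 13 A0.B 887040) : Act (wds g c8th_W) pt c8th_P 24 15 :=
  M.wact c8th_lt
theorem c8tl0_e : ∀ i < 21, (dent c8tl0 c8th_P (nat_lit 24)) i = 0 := allZ_sound0 c8tl0_e_0
theorem c8tl0_ok : DOK c8tl0 c8th_P 24 := ⟨c8tl0_h, c8tl0_e⟩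
theorem c8tl1_e : ∀ i < 20, (dent c8tl1 c8th_P (nat_lit 24)) i = 0 := allZ_sound0 c8tl1_e_0
theorem c8tl1_ok : DOK c8tl1 c8th_P 24 := ⟨c8tl1_h, c8tl1_e⟩
theorem c8tl2_e : ∀ i < 19, (dent c8tl2 c8th_P (nat_lit 24)) i = 0 := allZ_sound0 c8tl2_e_0
theorem c8tl2_ok : DOK c8tl2 c8th_P 24 := ⟨c8tl2_h, c8tl2_e⟩
theorem c8tl3_e : ∀ i < 15, (dent c8tl3 c8th_P (nat_lit 24)) i = 0 := allZ_sound0 c8tl3_e_0
theorem c8tl3_ok : DOK c8tl3 c8th_P 24 := ⟨c8tl3_h, c8tl3_e⟩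
theorem c8tl4_e : ∀ i < 2, (dent c8tl4 c8th_P (nat_lit 24)) i = 0 := allZ_sound0 c8tl4_e_0
theorem c8tl4_ok : DOK c8tl4 c8th_P 24 := ⟨c8tl4_h, c8tl4_e⟩
theorem c8tl5_e : ∀ i < 1, (dent c8tl5 c8th_P (nat_lit 24)) i = 0 := allZ_sound0 c8tl5_e_0
theorem c8tl5_ok : DOK c8tl5 c8th_P 24 := ⟨c8tl5_h, c8tl5_e⟩
theorem c8t_low {G Ω : Type*} [Group G] [MulAction G Ω] {g : ℕ → G} {pt : ℕ → Ω}
    (M : Md g pt A0.P 24 13 A0.B 887040) : SLow (gi (wds g c8th_W)) pt 24 [c8tl0, c8tl1, c8tl2, c8tl3, c8tl4, c8tl5] :=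
  ((((((SLow.nil).cons c8tl5_ok (c8th_act M) c8t_f5).cons c8tl4_ok (c8th_act M) c8t_f4).cons c8tl3_ok (c8th_act M) c8t_f3).cons c8tl2_ok (c8th_act M) c8t_f2).cons c8tl1_ok (c8th_act M) c8t_f1).cons c8tl0_ok (c8th_act M) c8t_f0
theorem c8t_S0 {G Ω : Type*} [Group G] [MulAction G Ω] {g : ℕ → G} {pt : ℕ → Ω}
    (M : Md g pt A0.P 24 13 A0.B 887040) : Stage ⊤ (wds g c8th_W) pt 24 [c8tl0, c8tl1, c8tl2, c8tl3, c8tl4, c8tl5] [] :=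
  M.stage (c8t_low M) c8t_c
theorem c8t_S1 {G Ω : Type*} [Group G] [MulAction G Ω] {g : ℕ → G} {pt : ℕ → Ω}
    (M : Md g pt A0.P 24 13 A0.B 887040) : Stage ⊤ (wds g c8th_W) pt 24 [c8tl1, c8tl2, c8tl3, c8tl4, c8tl5] [c8tl0.Pt 0] :=
  (c8t_S0 M).next
theorem c8t_S2 {G Ω : Type*} [Group G] [MulAction G Ω] {g : ℕ → G} {pt : ℕ → Ω}
    (M : Md g pt A0.P 24 13 A0.B 887040) : Stage ⊤ (wds g c8th_W) pt 24 [c8tl2, c8tl3, c8tl4, c8tl5] [c8tl1.Pt 0, c8tl0.Pt 0] :=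
  (c8t_S1 M).next
theorem c8t_S3 {G Ω : Type*} [Group G] [MulAction G Ω] {g : ℕ → G} {pt : ℕ → Ω}
    (M : Md g pt A0.P 24 13 A0.B 887040) : Stage ⊤ (wds g c8th_W) pt 24 [c8tl3, c8tl4, c8tl5] [c8tl2.Pt 0, c8tl1.Pt 0, c8tl0.Pt 0] :=
  (c8t_S2 M).next
theorem c8t_S4 {G Ω : Type*} [Group G] [MulAction G Ω] {g : ℕ → G} {pt : ℕ → Ω}
    (M : Md g pt A0.P 24 13 A0.B 887040) : Stage ⊤ (wds g c8th_W) pt 24 [c8tl4, c8tl5] [c8tl3.Pt 0, c8tl2.Pt 0, c8tl1.Pt 0, c8tl0.Pt 0] :=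
  (c8t_S3 M).next
theorem c8t_S5 {G Ω : Type*} [Group G] [MulAction G Ω] {g : ℕ → G} {pt : ℕ → Ω}
    (M : Md g pt A0.P 24 13 A0.B 887040) : Stage ⊤ (wds g c8th_W) pt 24 [c8tl5] [c8tl4.Pt 0, c8tl3.Pt 0, c8tl2.Pt 0, c8tl1.Pt 0, c8tl0.Pt 0] :=
  (c8t_S4 M).next
theorem c8t_S6 {G Ω : Type*} [Group G] [MulAction G Ω] {g : ℕ → G} {pt : ℕ → Ω}
    (M : Md g pt A0.P 24 13 A0.B 887040) : Stage ⊤ (wds g c8th_W) pt 24 [] [c8tl5.Pt 0, c8tl4.Pt 0, c8tl3.Pt 0, c8tl2.Pt 0, c8tl1.Pt 0, c8tl0.Pt 0] :=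
  (c8t_S5 M).next
theorem c8ce_act {G Ω : Type*} [Group G] [MulAction G Ω] {g : ℕ → G} {pt : ℕ → Ω}
    (M : Md g pt A0.P 24 13 A0.B 887040) : Act (wds g c8ce_W) pt c8ce_P 24 2 :=
  M.wact c8ce_lt
theorem c8cc0_e : ∀ i < 15, (dent c8cc0 c8ce_P (nat_lit 24)) i = 0 := allZ_sound0 c8cc0_e_0
theorem c8cc0_ok : DOK c8cc0 c8ce_P 24 := ⟨c8cc0_h, c8cc0_e⟩
theorem c8tn0_1 : ∀ i < 22, (c8tn0.ent A0.P c8th_P c8x_P c8x_P c8ce_P (nat_lit 13) (nat_lit 1) A0.B c8tl0 [c8tl1, c8tl2, c8tl3, c8tl4, c8tl5] (memO c8cc0)) i = 0 := allZ_sound0 c8tn0_1_0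
theorem c8tn0_t {G Ω : Type*} [Group G] [MulAction G Ω] {g : ℕ → G} {pt : ℕ → Ω}
    (M : Md g pt A0.P 24 13 A0.B 887040) : TrO (gen (wds g c8th_W) c8tl0.K) (wds g c8x_W) (wds g c8x_W) 1 pt 24 (c8tl0.Pt 0) (memO c8cc0) :=
  node M (c8t_S0 M) (c8th_act M) (c8x_act M) (c8x_act M) c8tn0 ((c8ce_act M).mono (by decide)) (fun _ _ => trivial) c8tn0_0 c8tn0_1 (List.forall_mem_nil _)
theorem c8c {G Ω : Type*} [Group G] [MulAction G Ω] {g : ℕ → G} {pt : ℕ → Ω}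
    (M : Md g pt A0.P 24 13 A0.B 887040) : Cen ⊤ (wds g c8x_W) 1 (wds g c8ce_W) pt 24 [c8cc0] :=
  (c8t_S0 M).top ▸ Cen.lev M (c8t_S0 M) (Cen.triv (c8t_S1 M) (Cen.triv (c8t_S2 M) (Cen.triv (c8t_S3 M) (Cen.triv (c8t_S4 M) (Cen.triv (c8t_S5 M) (Cen.bot) (forced (c8t_S5 M) (c8th_act M) (c8x_act M) _ _ c8c_f5)) (forced (c8t_S4 M) (c8th_act M) (c8x_act M) _ _ c8c_f4)) (forced (c8t_S3 M) (c8th_act M) (c8x_act M) _ _ c8c_f3)) (forced (c8t_S2 M) (c8th_act M) (c8x_act M) _ _ c8c_f2)) (forced (c8t_S1 M) (c8th_act M) (c8x_act M) _ _ c8c_f1)) (c8tn0_t M) (c8x_act M) (c8ce_act M) (fun _ _ => trivial) c8cc0_ok c8c_f0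
theorem c8c_card {G Ω : Type*} [Group G] [MulAction G Ω] {g : ℕ → G} {pt : ℕ → Ω}
    (M : Md g pt A0.P 24 13 A0.B 887040) : Nat.card (Subgroup.centralizer {(wds g c8x_W) 0}) = 16 :=
  (c8c M).card_cent1 M.inj c8c_c.1
theorem c8c_eq {G Ω : Type*} [Group G] [MulAction G Ω] {g : ℕ → G} {pt : ℕ → Ω}
    (M : Md g pt A0.P 24 13 A0.B 887040) : Subgroup.centralizer (gen (wds g c8x_W) 1) = gen (wds g c8ce_W) 2 ∧ Nat.card (gen (wds g c8ce_W) 2) = 16 :=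
  c8c_c.1 ▸ c8c_c.2 ▸ ⟨(c8c M).cent, (c8c M).card M.inj⟩
theorem c8 {G Ω : Type*} [Group G] [MulAction G Ω] {g : ℕ → G} {pt : ℕ → Ω}
    (M : Md g pt A0.P 24 13 A0.B 887040) : Nat.card (Subgroup.centralizer {(wds g a8_W) 0}) = 16 :=
  c8c_card M

end H20.J4
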