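import Cfsg.Agent.H20.J4.CA
import Cfsg.Agent.H20.J4.CB

/-! The classes of `2`-elements. -/

set_option autoImplicit false
set_option linter.unusedSectionVars false
set_option maxRecDepth 100000
open Subgroup H16 H19 H0 H0.TR
namespace H20.J4
variable {G : Type*} [Group G]

/-- `2`-elements -/
def T2 (u : G) : Prop := ∃ m, u ^ 2 ^ m = 1
theorem T2.cj {u : G} (h : T2 u) (a : G) : T2 (a * u * a⁻¹) := h.imp fun m e => by rw [conj_pow, e]; simp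
theorem T2.syl [Finite G] {u : G} {P M : Subgroup G} (h : T2 u) (hu : u ∈ M) (hP : Syl 2 P M) :
    ∃ b ∈ M, b * u * b⁻¹ ∈ P := by
  obtain ⟨m, e⟩ := h
  obtain ⟨b, hb, l⟩ := hP.scj_le (zpowers_le.2 hu) (PiN.of_isPGroup Nat.prime_two fun x => ⟨m, by
    rw [← orderOf_dvd_iff_pow_eq_one]
    exact (orderOf_dvd_natCard x).trans (Nat.card_zpowers u ▸ orderOf_dvd_of_pow_eq_one e)⟩)
  exact ⟨b, hb, l (mem_cj'.2 ⟨u, mem_zpowers u, rfl⟩)⟩
theorem T2.inv {u : G} (h : T2 u) (h1 : u ≠ 1) : ∃ m, u ^ 2 ^ m ≠ 1 ∧ u ^ 2 ^ m * u ^ 2 ^ m = 1 := by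
  obtain ⟨m, e⟩ := h
  induction m with
  | zero => exact absurd (by simpa using e) h1
  | succ m ih => exact (em _).elim ih fun n => ⟨m, n, by rw [← e, ← pow_add, pow_succ, mul_two]⟩
theorem T2.of {u i : G} {m : ℕ} (e : u ^ 2 ^ m = i) (h : i * i = 1) : T2 u :=
  ⟨m + 1, by rw [pow_succ, pow_mul, e, sq, h]⟩
theorem odd_two {w : G} {m : ℕ} (hw : w ^ m = 1) (o : Odd m) (h : T2 w) : w = 1 := by
  obtain ⟨n, e⟩ := h
  rw [← pow_one w, ← (Nat.Coprime.pow_right n (Nat.coprime_two_right.2 o)).gcd_eq_one]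
  exact pow_gcd_eq_one.2 ⟨hw, e⟩
theorem two_z {k w : G} {m : ℕ} (c : Commute k w) (hk : T2 k) (hw : w ^ m = 1) (o : Odd m) (h : T2 (k * w)) : w = 1 := by
  obtain ⟨n, e⟩ := h
  obtain ⟨n', e'⟩ := hk
  refine odd_two hw o ⟨n + n', ?_⟩
  have := congrArg (· ^ 2 ^ n') e
  simp only [c.mul_pow, (c.pow_pow _ _).mul_pow, one_pow] at this
  rwa [pow_right_comm, e', one_pow, one_mul, ← pow_mul, ← pow_add] at this
theorem nd_two [Finite G] {S : Subgroup G} {L : List ℕ} (hL : ∀ q ∈ L, q.Prime ∧ q ≠ 2) (c : #S ∣ 2 ^ 21 * L.prod ^ 3) :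
    ncl S (ND L) = ncl S T2 := ncl_congr fun u hu =>
  ⟨fun d => ⟨21, orderOf_dvd_iff_pow_eq_one.1 ((Nat.Coprime.pow_right 3 (Nat.coprime_list_prod_right_iff.2 fun q hq =>
    ((Nat.Prime.coprime_iff_not_dvd (hL q hq).1).2 (d q hq)).symm)).dvd_of_dvd_mul_right ((orderOf_dvd_card' hu).trans c))⟩,
  fun ⟨_, e⟩ q hq d => (hL q hq).2 ((Nat.prime_dvd_prime_iff_eq (hL q hq).1 Nat.prime_two).1
    ((hL q hq).1.dvd_of_dvd_pow (d.trans (orderOf_dvd_of_pow_eq_one e))))⟩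
theorem ord_lev {u i : G} {m : ℕ} (e : u ^ 2 ^ m = i) (h : i * i = 1) (h1 : i ≠ 1) : orderOf u = 2 ^ (m + 1) :=
  orderOf_eq_prime_pow (e ▸ h1) (by rw [pow_succ, pow_mul, e, sq, h])
theorem pow_mod_n {Q : Subgroup G} {q w : G} (hq : q ∈ Q) (hw : w ∈ N(Q)) (n : ℕ) : (q * w) ^ n * (w ^ n)⁻¹ ∈ Q := by
  induction n with
  | zero => simp
  | succ n ih =>
    rw [show (q * w) ^ (n + 1) * (w ^ (n + 1))⁻¹ = q * (w * ((q * w) ^ n * (w ^ n)⁻¹) * w⁻¹) by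
      rw [pow_succ', pow_succ']; group]
    exact mul_mem hq (conj_mem_of_norm hw ih)

theorem cchk_sound {pt : ℕ → G} {n : ℕ} {mu : ℕ → ℕ → ℕ} {act : ℕ → ℕ} {k : G} {s tz T mask : ℕ} {F : ℕ → Bool}
    (hm : ∀ a < n, ∀ b < n, mu a b < n ∧ pt a * pt b = pt (mu a b)) (h0 : pt 0 = 1)
    (hA : ∀ a < n, act a < n ∧ k * pt a * k⁻¹ = pt (act a)) (hk : k ^ 2 ^ s = 1) (hi : PtInj pt n) (htz : tz < n)
    (t1 : pt tz ≠ 1) (hc : ∀ b < n, pt b * pt tz = pt tz * pt b)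
    (h : ∀ a < n, (bif cchk n mu act (2 ^ s) tz T mask F a then 0 else 1) = 0)
    {a : ℕ} (ha : a < n) {m : ℕ} (hs : s ≤ m) (e : (pt a * k) ^ 2 ^ m = pt tz) :
    ∃ a' < n, F a' = true ∧ IsConj (pt a' * k) (pt a * k) := by
  have h' : ∀ a < n, cchk n mu act (2 ^ s) tz T mask F a = true := fun a ha => by
    have := h a ha
    revert this; cases cchk n mu act (2 ^ s) tz T mask F a <;> simp
  have pw : ∀ a < n, ∀ j, pwc mu act a j < n ∧ (pt a * k) ^ j = pt (pwc mu act a j) * k ^ j := fun a ha j => by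
    induction j with
    | zero => exact ⟨by show 0 < n; omega, by show _ = pt 0 * _; simp [h0]⟩
    | succ j ih =>
      rw [show pwc mu act a (j + 1) = mu a (act (pwc mu act a j)) by simp only [pwc, force_eq], pow_succ', ih.2,
        ← (hm _ ha _ (hA _ ih.1).1).2, ← (hA _ ih.1).2, pow_succ']
      exact ⟨(hm _ ha _ (hA _ ih.1).1).1, by group⟩
  have k0 : ∀ a < n, Nat.land a mask = 0 → (pt a * k) ^ 2 ^ m = pt tz → F a = true := fun a ha l e => by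
    have := h' a ha
    simp only [cchk, l, Nat.beq_refl, cond_true, force_eq, Bool.or_eq_true, Bool.and_eq_true, Bool.not_eq_true',
      Nat.beq_eq] at this
    refine this.resolve_left fun ⟨e1, e2⟩ => ?_
    obtain ⟨c, e3⟩ := pw a ha (2 ^ s)
    rw [hk, mul_one] at e3
    obtain ⟨d, rfl⟩ := Nat.exists_eq_add_of_le hs
    rw [pow_add, pow_mul, e3] at e
    cases d with
    | zero => rw [hi _ c _ htz (by simpa using e)] at e1; simp at e1
    | succ d => rw [pow_succ', pow_mul, sq, (hm _ c _ c).2, e2, h0, one_pow] at e; exact t1 e.symm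
  by_cases l : Nat.land a mask = 0
  · exact ⟨a, ha, k0 a ha l e, .refl _⟩
  have := h' a ha
  simp only [cchk, show Nat.beq (Nat.land a mask) 0 = false by simpa [← Bool.not_eq_true] using l, cond_false, force_eq,
    Bool.and_eq_true, Nat.beq_eq, Nat.blt_eq] at this
  obtain ⟨⟨⟨hb, ha'⟩, l'⟩, e1⟩ := this
  generalize ht T a = b at *
  generalize Nat.xor (Nat.xor b _) _ = a' at *
  have e2 : pt b * (pt a' * k) * (pt b)⁻¹ = pt a * k := by
    rw [← mul_assoc, (hm _ hb _ ha').2, e1, ← (hm _ ha _ (hA _ hb).1).2, ← (hA _ hb).2]; group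
  refine ⟨a', ha', k0 a' ha' l' ?_, isConj_iff.2 ⟨_, e2⟩⟩
  rw [← e2, conj_pow, mul_inv_eq_iff_eq_mul, ← hc b hb] at e
  exact mul_left_cancel e

theorem out_mul {a b : GPm} (ha : a ∈ AA) (hb : b ∈ AA) (h1 : a ∉ M22) (h2 : b ∉ M22) : a * b ∈ M22 := by
  have := mul_mem (conj_mem_of_norm s_norm ((mem_AA.1 ha).resolve_left h1)) ((mem_AA.1 hb).resolve_left h2)
  rwa [← mul_assoc, ← mul_assoc, a0_sq, one_mul, inv_mul_cancel_right] at this
theorem apA {W : List ℕ} (hW : ∀ k ∈ W, k < 13) {i : ℕ} (hi : i < 24) : evA a0 W • H15.pt i = H15.pt i ↔ apW A0.P W i = i := by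
  rw [(actA.apW hW hi).2]
  exact ⟨H15.pt_inj (actA.apW hW hi).1 hi, congrArg _⟩
theorem clsA2 {x : GPm} (hx : x ∈ AA) (h : T2 x) : ∃ b ∈ M22, ∃ r < 10, b * x * b⁻¹ = evA a0 (nth [] RA2 r) := by
  obtain ⟨b, hb, e⟩ : ∃ b ∈ M22, b * x * b⁻¹ ∈ T0 := by
    obtain ⟨b, hb, e⟩ := h.syl hx syl_T0
    by_cases l : b ∈ M22
    · exact ⟨b, l, e⟩
    have t : ta 4 ∈ T0 := mem_gen _ (by decide)
    refine ⟨ta 4 * b, out_mul (T0_le t) hb (fun e => ?_) l, ?_⟩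
    · exact absurd ((apA (nth_lt tat_lt 4) (by decide)).1 (mem_M22.1 e).2) (by decide +kernel)
    · simpa [mul_assoc] using mul_mem (mul_mem t e) (inv_mem t)
  obtain ⟨c, hc, e⟩ := ta_nf le_rfl e
  obtain ⟨h1, h2, h3⟩ := CA2_ok c hc _ List.mem_cons_self
  have := a0_eq' h3
  rw [evA_append, evA_append, H0.PM.evA_flat, ← mul_inv_eq_iff_eq_mul] at this
  refine ⟨_, mul_mem (gen_a11 ▸ evA_mem_gen _ fun k hk => (ltAll_zero h2 k hk).trans (by decide)) hb, _, h1, ?_⟩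
  rw [← this, show evA (wds a0 tat_W) (bw c 8) = _ from e.symm]; group
theorem RA2_p : ∀ r < 10, kp (nth [] RA2 r) = nth [] RA2 r ∧
    (5 ≤ r → eqH 10 0 ([9, 9, 9, 9] ++ nth [] RA2 r) (nth [] RA2 r ++ [9, 9, 9, 9] ++ [9, 9, 9, 9]) = 0) := by decide +kernel
theorem lev_le {r m : ℕ} (hr : r < 10) (e : evA a0 (nth [] RA2 r) ^ 2 ^ m = 1) : nth 0 OW r ≤ m := not_lt.1 fun l => by
  obtain ⟨i, hi, n⟩ := (RA2_ok.2.2 r hr).2.2.2.1 m l
  refine n ((apA (fun k hk => ?_) hi).1 (by rw [evA_flat_rep, e, one_smul]))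
  obtain ⟨W, hW, hk⟩ := List.mem_flatten.1 hk
  exact nth_lt RA2_ok.1 r k (List.eq_of_mem_replicate hW ▸ hk)
theorem cQ_ok : ∀ r < 10, ∀ a < 8192, cQ r a = 0 := fun r hr => by
  interval_cases r
  exacts [allZ_sound0 cQ0, allZ_sound0 cQ1, allZ_sound0 cQ2, allZ_sound0 cQ3, allZ_sound0 cQ4, allZ_sound0 cQ5,
    allZ_sound0 cQ6, allZ_sound0 cQ7, allZ_sound0 cQ8, allZ_sound0 cQ9]

namespace S5
variable [Finite G] {z p q : G} {Q N Q' : Subgroup G} {π μ : G → GPm} {g cq κ : ℕ → G} {e : ℕ}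
  (h : S5 z p Q N π g cq Q' q μ κ e)
include h
local notation "kk" r => evA (hl g cq) (nth [] RA2 r)
local notation "t" => vc g cq 1250

theorem kpi {r : ℕ} (hr : r < 10) : π (kk r) = evA a0 (nth [] RA2 r) := by
  rw [h.pi_hl fun k hk => (nth_lt RA2_ok.1 r k hk).trans (by decide), (RA2_p r hr).1]
theorem kpow {r : ℕ} (hr : r < 10) : (kk r) ^ 2 ^ nth 0 OW r = 1 := by
  simpa [evA_flat_rep, evA_nil] using h.eq0 (RA2_ok.2.2 r hr).1
theorem kK {r : ℕ} (hr : r < 5) : (kk r) ∈ h.K0 :=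
  h.gK (ltAll_zero ((RA2_ok.2.2 r (by omega)).2.2.2.2.2.2.2 hr))
theorem cosQ {x : G} (hx : x ∈ C[z]) (h2 : T2 x) :
    ∃ b ∈ C[z], ∃ r < 10, ∃ a < 8192, b * x * b⁻¹ = cq a * kk r := by
  obtain ⟨b, hb, r, hr, e⟩ := clsA2 (h.mem x hx) (h2.imp fun m e => by rw [← h.pow hx, e, h.one])
  obtain ⟨y, hy, rfl⟩ := h.surj b (M22_le hb)
  rw [← h.conj hy hx, ← h.kpi hr] at e
  obtain ⟨c, hc, j, -, e1⟩ := h.toHy0.mem_N (h.div_mem (mul_mem (mul_mem hy hx) (inv_mem hy)) (h.evH _) e)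
  rw [mul_inv_eq_iff_eq_mul] at e1
  have hp := C[z].pow_mem h.pH j
  by_cases l : r < 5
  · obtain ⟨a, ha, rfl⟩ := h.qc.surj c hc
    obtain ⟨m, e2⟩ := h2.cj y
    have c1 : Commute (p ^ j) (kk r) := (show Commute p _ from (mem_cent1.1 (h.K0_cent h.fpf (h.kK l))).symm).pow_left j
    have := pow_mod_n hc (h.le.norm (mul_mem hp (h.evH (nth [] RA2 r)))) (2 ^ m * 2 ^ nth 0 OW r)
    rw [← mul_assoc, ← e1, pow_mul, e2, one_pow, one_mul, inv_mem_iff, c1.mul_pow, mul_comm (2 ^ m), pow_mul (kk r),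
      h.kpow hr, one_pow, mul_one, ← pow_add] at this
    have e3 : p ^ j = 1 := odd_two (m := 3) (by rw [pow_right_comm, h.p3', one_pow]) (by decide) ⟨_, h.QP.le
      ⟨this, (zpowers p).pow_mem (Subgroup.pow_mem _ (mem_zpowers p) j) _⟩⟩
    exact ⟨y, hy, r, hr, a, ha, by rw [e1, e3, mul_one]⟩
  · obtain ⟨a, ha, e2⟩ := h.qc.surj _ (h.cjQ hp hc)
    have := h.eq0 ((RA2_p r hr).2 (by omega))
    rw [evA_append, evA_append, evA_append, h.ev9, ← mul_assoc, ← mul_inv_eq_iff_eq_mul, ← sq] at this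
    refine ⟨p ^ j * y, mul_mem hp hy, r, hr, a, ha, ?_⟩
    have e3 : (kk r) * p ^ j * (kk r)⁻¹ = p ^ j * p ^ j := by rw [← conj_pow, this, pow_right_comm, sq]
    rw [e2, show p ^ j * y * x * (p ^ j * y)⁻¹ = p ^ j * (y * x * y⁻¹) * (p ^ j)⁻¹ by group, e1,
      show p ^ j * (c * p ^ j * kk r) * (p ^ j)⁻¹ = p ^ j * c * (p ^ j)⁻¹ * (p ^ j * p ^ j) * (kk r) * (p ^ j)⁻¹ by group,
      ← e3]; group
theorem clsZ {x : G} {m : ℕ} (e : x ^ 2 ^ m = z) : ∃ j < 7, IsConj (evA (hl g cq) (nth [] ZW j)) x := by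
  have hx : x ∈ C[z] := mem_cent1.2 (by rw [← e]; exact (pow_mul_comm' ..).symm)
  obtain ⟨b, hb, r, hr, a, ha, e1⟩ := h.cosQ hx (T2.of e h.zz)
  have e2 : (cq a * kk r) ^ 2 ^ m = cq 4096 := by
    rw [← e1, conj_pow, e, mem_cent1.1 hb, h.qc.cz, mul_inv_cancel_right]
  have hW : ∀ k ∈ nth [] RA2 r, k < 8205 := fun k hk => (nth_lt RA2_ok.1 r k hk).trans (by decide)
  have hq := h.QH (h.qc.mem a)
  obtain ⟨a', ha', f, c⟩ := cchk_sound (fun a ha b hb => ⟨qf_lt hb ha, h.qmul ha hb⟩) h.c0 (fun a => h.cjW hW) (h.kpow hr)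
    h.qc.inj (tz := 4096) (by decide) (h.qc.cz ▸ h.z1)
    (fun b _ => h.qc.cz ▸ mem_cent1.1 (h.QH (h.qc.mem b))) (fun a ha => by simpa only [cQ, force_eq] using cQ_ok r hr a ha) ha
    (lev_le hr (by
      have := h.pow (mul_mem hq (h.evH (nth [] RA2 r))) (2 ^ m)
      rwa [e2, h.piQ (h.qc.mem _), h.mul _ hq _ (h.evH _), h.piQ (h.qc.mem _), one_mul, h.kpi hr, eq_comm] at this)) e2
  have c' := c.trans (isConj_iff.2 ⟨b, e1⟩).symm
  simp only [FQ, Bool.or_eq_true, Bool.and_eq_true, Nat.beq_eq, List.any_eq_true, Nat.blt_eq] at f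
  rcases f with ⟨rfl, f⟩ | ⟨d, -, ⟨rfl, hj⟩, f⟩
  · rw [show evA (hl g cq) (nth [] RA2 0) = 1 from rfl, mul_one] at c'
    exact ⟨1, by decide, (show evA (hl g cq) [13 + 9] = cq 9 by simp [evA_cons, evA_nil, hl]) ▸
      (cl_conj (((h.clQ (by simp)).1 a' ha').2 f)).trans c'⟩
  · have := h.eq0 f
    rw [evA_append, evA_append, evA_append, ← mul_inv_eq_iff_eq_mul, evA_cons, evA_nil, hl_hi, one_mul] at this
    exact ⟨_, hj, (isConj_iff.2 ⟨_, this⟩).symm.trans c'⟩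
theorem kmu (r : ℕ) (hr : r < 10) : evA κ (RK2 r) ∈ N(VV g cq) ∧ μ (evA κ (RK2 r)) = evA m0 (RK2 r) :=
  h.kev h.kp (ltAll_zero (RA2_ok.2.2 r hr).2.2.1)
theorem actK {r : ℕ} (hr : r < 10) (a : ℕ) (ha : a < 2048) : ht (nth 0 AVT r) a < 2048 ∧
    evA κ (RK2 r) * vc g cq a * (evA κ (RK2 r))⁻¹ = vc g cq (ht (nth 0 AVT r) a) :=
  h.mlin (h.kmu r hr).1 (ltAll_zero (RA2_ok.2.2 r hr).2.2.1) (h.kmu r hr).2 (RA2_ok.2.2 r hr).2.2.2.2.1
    (RA2_ok.2.2 r hr).2.2.2.2.2.1 ha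
theorem t1 : t ≠ 1 := h.v0 ▸ h.vne (by decide) (by decide) (by decide)
theorem clsT {x : G} {m : ℕ} (e : x ^ 2 ^ m = t) : IsConj t x ∨ IsConj (vc g cq 6 * evA κ (RK2 6)) x := by
  have hx : x ∈ C[t] := mem_cent1.2 (by rw [← e]; exact (pow_mul_comm' ..).symm)
  have hM := (h.ctV (h.vmem 1250) h.c1250).1
  have e0 : μ x ^ 2 ^ m = 1 := by rw [← h.mpow (hM hx), e, h.muV (h.vmem _)]
  obtain ⟨b, hb, r, hr, e1⟩ := clsA2 (h.mimg_Y ▸ h.mem_mimg.2 ⟨x, hx, hM hx, rfl⟩) ⟨m, e0⟩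
  have l := lev_le hr (m := m) (by rw [← e1, conj_pow, e0]; simp)
  obtain ⟨y, hy, hy', rfl⟩ := h.mem_mimg.1 (h.mimg_Y.ge (M22_le hb))
  rw [← h.mconj hy' (hM hx), show evA a0 (nth [] RA2 r) = evA m0 (RK2 r) by
    rw [H0.PM.evA_flat]; exact evA_congr _ fun k hk => (a0_m0 (nth_lt RA2_ok.1 r k hk)).symm, ← (h.kmu r hr).2] at e1
  obtain ⟨a, ha, e2⟩ := h.vsurj (conj_mem_of_norm (h.kmu r hr).1
    (h.mdiv (mul_mem (mul_mem hy' (hM hx)) (inv_mem hy')) (h.kmu r hr).1 e1))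
  replace e2 : y * x * y⁻¹ = vc g cq a * evA κ (RK2 r) := by rw [e2]; group
  obtain ⟨a', ha', f, c⟩ := cchk_sound (mu := Nat.xor) (fun a ha b hb => ⟨Nat.xor_lt_two_pow (n := 11) ha hb,
    (h.vx a b).symm⟩) h.v0 (h.actK hr) (by simpa [evA_flat_rep, evA_nil] using h.kp.eq (RA2_ok.2.2 r hr).2.1) h.vinj
    (by decide) h.t1 (fun b _ => h.Vcomm (h.vmem _) (h.vmem _))
    (fun a ha => by simpa only [cV, force_eq] using allZ_sound0 (cV_ok r hr) a ha) ha l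
    (by rw [← e2, conj_pow, e, mem_cent1.1 hy, mul_inv_cancel_right])
  have c' := c.trans (isConj_iff.2 ⟨y, e2⟩).symm
  simp only [FV, Bool.or_eq_true, Bool.and_eq_true, Nat.beq_eq, List.any_eq_true, Nat.blt_eq] at f
  rcases f with ⟨rfl, rfl⟩ | ⟨rfl, d, -, ⟨⟨⟨rfl, hb⟩, f1⟩, f2⟩, f3⟩
  · rw [show evA κ (RK2 0) = 1 from rfl, mul_one] at c'; exact .inl c'
  · refine .inr (IsConj.trans (isConj_iff.2 ⟨(evA κ d.2.2)⁻¹ * vc g cq d.2.1, ?_⟩) c')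
    have e3 := h.kp.eq f1
    have e4 := congrArg (vc g cq) f3
    rw [h.vx, h.vx, ← (h.actK hr _ hb).2, ← (h.kact h.kp (ltAll_zero f2) ha').2] at e4
    rw [evA_append, evA_append] at e3
    rw [show ∀ a b c d : G, a⁻¹ * b * (c * d) * (a⁻¹ * b)⁻¹ = a⁻¹ * (b * c) * d * b⁻¹ * a from fun _ _ _ _ => by group, e4]
    simp only [mul_assoc, inv_mul_cancel_left, mul_inv_cancel_left, ← e3]
theorem zlev {j : ℕ} (hj : j < 7) : evA (hl g cq) (nth [] ZW j) ^ 2 ^ nth 0 [0, 1, 1, 2, 2, 2, 3] j = z := by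
  simpa [evA_flat_rep, evA_nil, h.qc.cz] using h.eqw' (by decide) (ZW_ok.1 j hj)
theorem tlev : (vc g cq 6 * evA κ (RK2 6)) ^ 2 ^ 1 = t := by
  have e1 : evA κ (RK2 6) ^ 2 = 1 := (evA_flat_rep ..).symm.trans (h.kp.eq (RA2_ok.2.2 6 (by decide)).2.1)
  rw [show 1250 = 6 ^^^ ht (nth 0 AVT 6) 6 by decide +kernel, h.vx, ← (h.actK (by decide) 6 (by decide)).2, pow_one, sq,
    inv_eq_of_mul_eq_one_right (sq (evA κ _) ▸ e1)]; group
theorem zt : ¬ IsConj z t := fun e => h.t_ncj (e.trans h.c1250.symm)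
theorem two10 : ncl (⊤ : Subgroup G) T2 = 10 := by
  let u : ℕ → G := fun i => if i < 7 then evA (hl g cq) (nth [] ZW i) else
    if i = 7 then t else if i = 8 then vc g cq 6 * evA κ (RK2 6) else 1
  have l : ∀ i < 9, u i ^ 2 ^ nth 0 [0, 1, 1, 2, 2, 2, 3, 0, 1] i = if i < 7 then z else t := fun i hi => by
    by_cases i7 : i < 7
    · simpa only [u, if_pos i7, show nth 0 [0, 1, 1, 2, 2, 2, 3, 0, 1] i = nth 0 [0, 1, 1, 2, 2, 2, 3] i by
        interval_cases i <;> rfl] using h.zlev i7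
    obtain rfl | rfl : i = 7 ∨ i = 8 := by omega
    exacts [pow_one _, h.tlev]
  have l2 : ∀ i, (if i < 7 then z else t) * (if i < 7 then z else t) = 1 ∧ (if i < 7 then z else t) ≠ 1 := fun i => by
    split_ifs; exacts [⟨h.zz, h.z1⟩, ⟨h.vv _, h.t1⟩]
  have pi : ∀ i < 7, π (u i) = evA a0 (J4.kp (nth [] ZW i)) := fun i hi => by
    rw [← h.pi_hl (nth_lt RA2_ok.2.1 i)]; simp only [u, if_pos hi]
  refine ncl_reps u 10 (fun i hi => ⟨trivial, ?_⟩) (fun i hi j hj c => ?_) fun x _ hx => ?_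
  · rcases (by omega : i < 9 ∨ i = 9) with hi | rfl
    exacts [.of (l i hi) (l2 i).1, ⟨0, pow_one _⟩]
  · have o := fun i hi => ord_lev (l i hi) (l2 i).1 (l2 i).2
    have o1 := cl_ord c
    rw [o j (by omega)] at o1
    obtain rfl | hi : i = 9 ∨ i < 9 := by omega
    · rw [show u 9 = 1 from rfl, orderOf_one, pow_succ] at o1; omega
    rw [o i hi, Nat.pow_right_inj (by decide), Nat.add_right_cancel_iff] at o1
    have c1 := cl_pow c (2 ^ nth 0 [0, 1, 1, 2, 2, 2, 3, 0, 1] i)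
    rw [l i hi, o1, l j (by omega)] at c1
    by_cases i7 : i < 7
    · obtain ⟨a, -, e⟩ := c
      have ha : a ∈ C[z] := by
        have := congrArg (· ^ 2 ^ nth 0 [0, 1, 1, 2, 2, 2, 3, 0, 1] i) e
        simp only [conj_pow] at this
        rw [l i hi, o1, l j (by omega), if_pos i7, if_pos (by omega), mul_inv_eq_iff_eq_mul] at this
        exact mem_cent1.2 this
      have e1 := congrArg π e
      rw [h.conj ha (by simp only [u, if_pos (show j < 7 by omega)]; exact h.evH _), pi i i7, pi j (by omega)] at e1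
      obtain ⟨-, -, ⟨b, hb, f2⟩, f3, f4, f5, c, hc, f6⟩ := ZW_ok
      have fx : ∀ {a x : GPm} {W : List ℕ}, a * x * a⁻¹ = evA a0 (J4.kp W) → (∀ i < 24, apW A0.P (J4.kp W) i ≠ i) →
          x • H15.pt 0 ≠ H15.pt 0 := fun {a x W} e n e0 => n _ (H15.ix_lt (a • H15.pt 0)) ((apA (kp_lt W) (H15.ix_lt _)).1 (by
        rw [H15.pt_ix, ← e, mul_smul, inv_smul_smul, mul_smul, e0]))
      have : (i = 2 ∧ j = 1) ∨ (i = 4 ∧ j = 3) ∨ (i = 5 ∧ j = 3) ∨ (i = 5 ∧ j = 4) := by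
        clear * - hj i7 o1; interval_cases i <;> interval_cases j <;> first | omega | exact absurd o1 (by decide)
      rcases this with ⟨rfl, rfl⟩ | ⟨rfl, rfl⟩ | ⟨rfl, rfl⟩ | ⟨rfl, rfl⟩
      · exact f2 ((apA (kp_lt _) hb).1 (by rw [← e1, show evA a0 (J4.kp (nth [] ZW 1)) = 1 from rfl]; simp))
      · exact fx e1 (fun i hi => (f4 i hi).2) ((apA (kp_lt _) (by decide)).2 f3)
      · exact fx e1 (fun i hi => (f4 i hi).1) ((apA (kp_lt _) (by decide)).2 f3)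
      · have := a0_eq' f5
        rw [evA_flat_rep] at this
        refine f6 ((apA (by decide +kernel) hc).1 ?_)
        rw [evA_flat_rep, ← e1, conj_pow, this, evA_nil]; simp
    · rw [if_neg i7, if_pos (by revert o1 i7; clear * - hj hi; revert j; revert i; decide)] at c1
      exact h.zt (cl_conj c1)
  · by_cases h1 : x = 1
    · exact ⟨9, by decide, h1 ▸ cl_self _ _⟩
    obtain ⟨m, n1, n2⟩ := hx.inv h1
    rcases h.cls2 n2 n1 with c | c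
    · obtain ⟨a, e⟩ := isConj_iff.1 c.symm
      obtain ⟨j, hj, c⟩ := h.clsZ (conj_pow.trans e)
      exact ⟨j, by omega, cl_top.2 ((show IsConj (u j) _ by simpa only [u, if_pos hj] using c).trans (isConj_iff.2 ⟨a, rfl⟩).symm)⟩
    · obtain ⟨a, e⟩ := isConj_iff.1 (c.symm.trans h.c1250)
      rcases h.clsT (conj_pow.trans e) with c | c
      exacts [⟨7, by decide, cl_top.2 (c.trans (isConj_iff.2 ⟨a, rfl⟩).symm)⟩,
        ⟨8, by decide, cl_top.2 (c.trans (isConj_iff.2 ⟨a, rfl⟩).symm)⟩]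
end S5
end H20.J4
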