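import Cfsg.Agent.H20.J4.B
import Cfsg.Agent.H20.J4.D

/-! Coordinates on `Q / ⟨z⟩`: the action of the letters and the commutator form. -/

set_option autoImplicit false
set_option linter.unusedSectionVars false
set_option maxRecDepth 100000
open Subgroup H16 H19 H0 Module
open H0.PM (flat evA_flat)
namespace H20.J4
variable {G : Type*} [Group G]

def YW : List (List ℕ) := [[3, 5, 7, 6, 4, 8, 7, 6, 0, 2, 7, 10], [8, 3, 2, 6, 3, 7, 6, 8, 7, 6, 0, 6, 9, 9, 9], [6, 2, 0, 5, 6, 7, 8, 7, 6, 1, 4, 9], [9], [11]]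
noncomputable def kv (j : ℕ) : List ℕ := nth [] [[], [9, 9, 9], [11, 11], [9, 9, 9, 11, 11]] j
def KW : List (List ℕ × ℕ) := [([0, 0, 0, 0, 0, 0, 0, 0, 0, 0, 1, 1, 1, 1, 2, 0, 0, 0, 0, 0, 0, 0, 0, 0, 0, 2, 0, 1, 2, 0, 2, 2, 2, 3, 3], 0), ([1, 2, 0, 0, 0, 0, 0, 0, 0, 0, 0, 0, 2, 2, 0, 1, 1, 1, 1, 2], 1), ([0, 0, 2, 0, 0, 0, 0, 0, 0, 0, 0, 0, 0, 1, 2, 2, 2, 0, 0, 0, 0, 0, 0, 0, 0, 0, 0, 2, 0, 0, 0, 0, 0, 0, 0, 0, 0, 0], 0), ([0, 0, 2, 0, 0, 0, 0, 0, 0, 0, 0, 0, 0, 2, 0, 2, 2, 2, 0, 1, 2, 2, 0], 1), ([2, 2, 0, 0, 0, 0, 0, 0, 0, 0, 0, 0, 2, 2, 2, 0, 0, 0, 0, 0, 0, 0, 0, 0, 0, 2, 0, 1, 1, 1, 1, 2, 0, 3], 0), ([0, 0, 0, 0, 0, 0, 0, 0, 0, 0, 2, 2, 2, 1, 0, 0, 0, 0, 0, 0, 0, 0, 0, 0, 2, 2, 2, 0, 2, 0, 2, 2, 3, 3], 1), ([0, 0, 2, 0, 0, 0, 0, 0, 0, 0, 0, 0, 0, 2, 2, 0, 2, 2, 2, 0, 0, 0, 0, 0, 0, 0, 0, 0, 0, 0, 0, 0, 0, 0, 0, 0, 0, 0, 0], 1), ([1, 1, 1, 1, 0, 0, 0, 0, 0, 0, 0, 0, 0, 0, 2, 0, 2, 0, 0, 2, 0, 0, 0, 0, 0, 0,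 0, 0, 0, 0, 2, 2, 3, 3], 0), ([1, 2, 2, 0, 0, 0, 0, 0, 0, 0, 0, 0, 0, 2, 0, 2, 0, 0, 0, 0, 0, 0, 0, 0, 0, 0, 2, 1], 0), ([3], 0), ([3, 3], 1), ([4], 0), ([4], 2)]
def KC : List (List ℕ) := [[2540, 2, 2539, 2830, 2767, 2511, 409, 946, 3039, 3055, 3805, 735], [2212, 2, 477, 3701, 4020, 2070, 64, 1921, 3965, 3055, 2871, 3659], [1400, 2, 1799, 626, 3695, 3679, 2717, 2950, 2471, 2727, 377, 3843], [2782, 2, 935, 3087, 2767, 2670, 1450, 128, 2285, 2940, 3662, 2866], [2882, 745, 721, 296, 2082, 1442, 557, 2900, 164, 1114, 1210, 2914], [3928, 747, 3651, 1070, 3113, 2049, 2371, 1858, 3111, 3444, 431, 2810], [2960, 986, 2201, 1929, 1861, 3120, 1229, 3013, 1665, 2717, 3016, 157], [1400, 2, 1405, 8, 134, 1973, 3961, 1391, 2362, 2618, 377, 3843], [2882, 1184, 3009, 3211, 150, 2049, 1124, 4071, 256, 2727, 2020, 2914], [2049, 747, 1494, 2988, 1457, 2914, 1069, 2138, 605, 1210, 2420, 1], [2048, 745, 1490, 2980, 1441, 2882, 1133,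 2266, 861, 1722, 3444, 2049], [1, 2420, 1210, 605, 2138, 1069, 2914, 1457, 2988, 1494, 747, 2049], [1, 2420, 1210, 605, 2138, 1069, 2914, 1457, 2988, 1494, 747, 2049]]
def rows : List ℕ := [1768, 3536, 2976, 1857, 3714, 3333, 2571, 1047, 2094, 93, 187, 374]
noncomputable def par (x : ℕ) : ℕ := linL (List.replicate 12 1) x

theorem cast_xor (a b : ℕ) : ((a ^^^ b : ℕ) : ZMod 2) = a + b := by
  rw [← Nat.cast_add, ZMod.natCast_eq_natCast_iff', Nat.xor_mod_two_eq]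

theorem linL_xor (L : List ℕ) (a b : ℕ) : linL L (a ^^^ b) = linL L a ^^^ linL L b := by
  induction L generalizing a b with
  | nil => simp
  | cons x L ih =>
    simp only [linL_cons]
    rw [Nat.xor_div_two, ih, Nat.xor_mod_two_eq]
    rcases Nat.mod_two_eq_zero_or_one a with e | e <;>
      rcases Nat.mod_two_eq_zero_or_one b with e' | e' <;>
      simp [Nat.add_mod, e, e', Nat.xor_assoc, Nat.xor_left_comm]

theorem cmb_par (L : List (ZMod 2)) (r a : ℕ) (h : ∀ i < L.length, L.getD i 0 = (r / 2 ^ i % 2 : ℕ)) :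
    cmb L a = (linL (List.replicate L.length 1) (a &&& r) : ℕ) := by
  induction L generalizing r a with
  | nil => simp [cmb]
  | cons x L ih =>
    rw [List.length_cons, List.replicate_succ, linL_cons, cast_xor, Nat.and_div_two, cmb,
      ih (r / 2) _ fun i hi => by
        have := h (i + 1) (by simpa using hi)
        rwa [List.getD_cons_succ, pow_succ', ← Nat.div_div_eq_div_mul] at this]
    have := h 0 (by simp)
    rw [List.getD_cons_zero, pow_zero, Nat.div_one] at this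
    rw [this, mul_one, ← Nat.and_one_is_mod (a &&& r), nsmul_eq_mul, ← Nat.cast_mul]
    congr 2
    rw [Nat.and_one_is_mod, ← pow_one 2, Nat.and_mod_two_pow, pow_one]
    rcases Nat.mod_two_eq_zero_or_one a with e | e <;>
      rcases Nat.mod_two_eq_zero_or_one r with e' | e' <;> simp [e, e']

theorem exists_bits (f : ℕ → ZMod 2) (n : ℕ) : ∃ d < 2 ^ n, ∀ i < n, f i = (d / 2 ^ i % 2 : ℕ) := by
  induction n generalizing f with
  | zero => exact ⟨0, by simp, by simp⟩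
  | succ n ih =>
    obtain ⟨d, hd, e⟩ := ih fun i => f (i + 1)
    have := (f 0).val_lt
    refine ⟨2 * d + (f 0).val, by omega, fun i hi => ?_⟩
    cases i with
    | zero => rw [pow_zero, Nat.div_one, Nat.mul_add_mod, Nat.mod_eq_of_lt this, ZMod.natCast_zmod_val]
    | succ i => rw [e i (by omega), pow_succ', ← Nat.div_div_eq_div_mul, show (2 * d + (f 0).val) / 2 = d by omega]

theorem fun_par {E : Type*} [AddCommGroup E] {B : List E} (hB : B.length = 12) (f : E →+ ZMod 2) {r : ℕ}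
    (h : ∀ i < 12, f (cmb B (2 ^ i)) = (r / 2 ^ i % 2 : ℕ)) (a : ℕ) :
    f (cmb B a) = (par (a &&& r) : ℕ) := by
  rw [cmb_map, cmb_par _ r a, List.length_map, hB, par]
  intro i hi
  rw [List.length_map] at hi
  rw [← h i (hB ▸ hi), cmb_pow]
  simp [List.getElem?_eq_getElem hi]

open Classical in
/-- the action on `Q / ⟨z⟩` -/
noncomputable def rh {Q : Subgroup G} {M : Type*} [Monoid M] (ρ : N(Q) →* M) (x : G) : M :=
  if hx : x ∈ N(Q) then ρ ⟨x, hx⟩ else 1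

section
variable {Q : Subgroup G} {M : Type*} [Monoid M] (ρ : N(Q) →* M)
theorem rh_eq {x : G} (hx : x ∈ N(Q)) : rh ρ x = ρ ⟨x, hx⟩ := dif_pos hx
theorem rh_mul {x y : G} (hx : x ∈ N(Q)) (hy : y ∈ N(Q)) : rh ρ (x * y) = rh ρ x * rh ρ y := by
  rw [rh_eq ρ hx, rh_eq ρ hy, rh_eq ρ (mul_mem hx hy), ← map_mul]; rfl
theorem rh_ev {g : ℕ → G} {W : List ℕ} (h : ∀ k ∈ W, g k ∈ N(Q)) :
    rh ρ (evA g W) = evA (fun k => rh ρ (g k)) W := by
  induction W with
  | nil => exact (rh_eq ρ (one_mem _)).trans ρ.map_one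
  | cons k W ih =>
    rw [evA_cons, evA_cons, rh_mul ρ (evA_mem _ fun k hk => h k (by simp [hk])) (h k (by simp)),
      ih fun k hk => h k (by simp [hk])]
end

namespace St
variable [Finite G] {z p : G} {Q N : Subgroup G} {π : G → GPm} {g : ℕ → G} (h : St z p Q N π g)
include h
theorem ev_mem {W : List ℕ} (hW : ∀ k ∈ W, k < 13) : evA g W ∈ C[z] :=
  evA_mem _ fun k hk => h.gH k (hW k hk)
theorem pi_ev {W : List ℕ} (hW : ∀ k ∈ W, k < 13) : π (evA g W) = evA a0 W := by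
  induction W with
  | nil => exact h.one
  | cons k W ih =>
    have h1 : ∀ k ∈ W, k < 13 := fun k hk => hW k (by simp [hk])
    rw [evA_cons, evA_cons, h.mul _ (h.ev_mem h1) _ (h.gH k (hW k (by simp))), ih h1,
      h.gπ k (hW k (by simp))]
theorem eqw {U V : List ℕ} (e : eqL PN 13 BN U V = 0) : evA g U = evA g V :=
  h.gr.eq (eqL_lt e).1 (eqL_lt e).2 (n_eq e)
theorem kv_mem (j : ℕ) : evA g (kv j) ∈ zpowers z := by
  have e1 : g 9 * g 9 * g 9 ∈ zpowers z := by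
    rw [← pow_three']; exact h.le.es.mem_zp.2 h.c3
  have e2 : g 11 * g 11 ∈ zpowers z := by rw [← pow_two]; exact h.le.es.mem_zp.2 h.s2
  rcases nth_mem [] [[], [9, 9, 9], [11, 11], [9, 9, 9, 11, 11]] j with e | e
  · rw [kv, e]; exact one_mem _
  · simp only [List.mem_cons, List.not_mem_nil, or_false] at e
    rcases e with e | e | e | e <;> rw [kv, e]
    · exact one_mem _
    · simpa using e1
    · simpa using e2
    · simpa [mul_assoc] using mul_mem e2 e1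

variable {E : Type*} [AddCommGroup E] [Module (ZMod 2) E] {τ : G → E} {ρ : N(Q) →* End (ZMod 2) E}
  {q : QuadraticForm (ZMod 2) E} (m : ESM Q z E τ ρ q)
include m
theorem rh_cj {x y : G} (hx : x ∈ C[z]) (hy : y ∈ Q) : τ (x * y * x⁻¹) = rh ρ x (τ y) := by
  rw [rh_eq ρ (h.le.norm hx)]; exact m.sec.conj ⟨x, _⟩ y hy
theorem rh_B {x : G} (hx : x ∈ C[z]) (a b : E) :
    QuadraticMap.polar q (rh ρ x a) (rh ρ x b) = QuadraticMap.polar q a b := by
  rw [rh_eq ρ (h.le.norm hx)]; exact m.rho_B _ a b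
theorem rh_zp {x : G} (hx : x ∈ zpowers z) : rh ρ x = 1 := LinearMap.ext fun v => by
  obtain ⟨y, hy, rfl⟩ := m.sec.surj v
  rw [← h.rh_cj m (h.QH (h.le.es.zp_le hx)) hy, ← h.le.es.zp_comm hx hy, mul_inv_cancel_right]; rfl
theorem yrel {U V : List ℕ} {j : ℕ} (e : eqL PN 13 BN U (flat YW V ++ kv j) = 0) :
    rh ρ (evA g U) = evA (fun k => rh ρ (wds g YW k)) V := by
  have h1 : ∀ k, wds g YW k ∈ N(Q) := fun k => h.le.norm (h.ev_mem (nth_lt (by decide +kernel) k))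
  rw [h.eqw e, evA_append, rh_mul ρ (h.le.norm (h.QH (h.le.es.zp_le (h.kv_mem j))))
    (by rw [evA_flat]; exact evA_mem _ fun k _ => h1 k), h.rh_zp m (h.kv_mem j), one_mul, evA_flat,
    rh_ev ρ fun k _ => h1 k]
theorem yrel' {U V : List ℕ} (j : ℕ) (e : eqL PN 13 BN (flat YW U) (flat YW V ++ kv j) = 0) :
    evA (fun k => rh ρ (wds g YW k)) U = evA (fun k => rh ρ (wds g YW k)) V := by
  rw [← h.yrel m e, evA_flat, rh_ev ρ (g := wds g YW) fun k _ =>
    h.le.norm (h.ev_mem (nth_lt (by decide +kernel) k))]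

theorem cc (v : E) : rh ρ (g 9) (rh ρ (g 9) v) + rh ρ (g 9) v + v = 0 := by
  have h9 := h.gH 9 (by decide)
  have h3 : g 9 ^ 3 ∈ zpowers z := h.le.es.mem_zp.2 h.c3
  have c3 : ∀ v, rh ρ (g 9) (rh ρ (g 9) (rh ρ (g 9) v)) = v := fun v => by
    rw [← End.mul_apply, ← End.mul_apply, ← rh_mul ρ (h.le.norm h9) (h.le.norm h9),
      ← rh_mul ρ (h.le.norm (mul_mem h9 h9)) (h.le.norm h9), ← pow_three', h.rh_zp m h3]; rfl
  obtain ⟨y, hy, e⟩ := m.sec.surj (rh ρ (g 9) (rh ρ (g 9) v) + rh ρ (g 9) v + v)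
  have e1 : τ (g 9 * y * (g 9)⁻¹ * y⁻¹) = 0 := by
    have := m.sec.add _ hy _ (Q.inv_mem hy)
    rw [mul_inv_cancel, (m.sec.ker _ Q.one_mem).2 (one_mem _)] at this
    rw [m.sec.add _ (h.cjQ h9 hy) _ (Q.inv_mem hy), h.rh_cj m h9 hy, ← eq_of_add this.symm, e, map_add,
      map_add, c3, add_assoc v, add_comm v, add_self2]
  rw [← e, m.sec.ker y hy]
  have c : Commute (g 9) y := by
    rcases h.le.es.mem_zp.1 ((m.sec.ker _ (mul_mem (h.cjQ h9 hy) (Q.inv_mem hy))).1 e1) with e2 | e2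
    · rwa [mul_inv_eq_one, mul_inv_eq_iff_eq_mul] at e2
    · exfalso
      rw [mul_inv_eq_iff_eq_mul] at e2
      have e3 : g 9 * z * (g 9)⁻¹ = z := by rw [mem_cent1.1 h9, mul_inv_cancel_right]
      have e4 : g 9 ^ 3 * y * (g 9 ^ 3)⁻¹ = z * (z * (z * y)) := by
        have : g 9 ^ 3 * y * (g 9 ^ 3)⁻¹ = g 9 * (g 9 * (g 9 * y * (g 9)⁻¹) * (g 9)⁻¹) * (g 9)⁻¹ := by
          simp [pow_succ, mul_assoc]
        have k : ∀ w, g 9 * (z * w) * (g 9)⁻¹ = z * (g 9 * w * (g 9)⁻¹) := fun w => by rw [← conj_mul, e3]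
        rw [this, e2, k, e2, k, k, e2]
      rw [← h.le.es.zp_comm h3 hy, mul_inv_cancel_right, ← mul_assoc z z, h.zz, one_mul, right_eq_mul] at e4
      exact h.z1 e4
  exact h.fpf y hy (by rw [← h.p4]; exact (c.pow_left 4).symm)

theorem mu : MU fun k => rh ρ (wds g YW k) where
  card := by
    have := m.sec.finite
    rw [Module.natCard_eq_pow_finrank (K := ZMod 2), Nat.card_zmod,
      show finrank (ZMod 2) E = 12 from Nat.succ_injective
        (Nat.pow_right_injective (le_refl 2) (m.card_eq.symm.trans h.cQ))]; rfl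
  x11 := by simpa [pow_succ] using h.yrel' m (U := List.replicate 11 0) (V := []) 0 (by decide +kernel)
  cx := by simpa using h.yrel' m (U := [0, 3]) (V := [3, 0]) 0 (by decide +kernel)
  cc := LinearMap.ext fun v => by simpa [wds, YW] using h.cc m v
  x1 := fun e => by
    have hx : wds g YW 0 ∈ C[z] := h.ev_mem (nth_lt (by decide +kernel) 0)
    have := h.piQ (h.le.mem_of_triv hx fun y hy => by
      rw [← m.mem_ker ⟨_, h.le.norm hx⟩ hy, ← rh_eq ρ, e, sub_self]; exact LinearMap.zero_apply _)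
    rw [wds, h.pi_ev (nth_lt (by decide +kernel) 0)] at this
    have e' := (actA.apW (nth_lt (Ws := YW) (by decide +kernel) 0) (i := 1) (by decide)).2
    rw [this, one_smul] at e'
    exact absurd (H15.pt_inj (by decide) (by decide +kernel) e') (by decide +kernel)
  f5 := by simpa [pow_succ] using h.yrel' m (U := List.replicate 5 1) (V := []) 0 (by decide +kernel)
  fx := by simpa [pow_succ] using h.yrel' m (U := [0, 1]) (V := [1, 0, 0, 0, 0]) 0 (by decide +kernel)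
  fc := by simpa using h.yrel' m (U := [3, 1]) (V := [1, 3]) 0 (by decide +kernel)
  ss := by simpa using h.yrel' m (U := [4, 4]) (V := []) 2 (by decide +kernel)
  sx := by
    simpa [pow_succ] using h.yrel' m (U := [0, 4]) (V := 4 :: List.replicate 10 0) 0 (by decide +kernel)
  sc := by simpa [pow_succ] using h.yrel' m (U := [3, 4]) (V := [4, 3, 3]) 1 (by decide +kernel)
  sf := by simpa using h.yrel' m (U := [1, 4]) (V := [4, 1]) 0 (by decide +kernel)
  uf := by simpa using h.yrel' m (U := [1, 2]) (V := [2, 1, 1]) 0 (by decide +kernel)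
  uc := by simpa using h.yrel' m (U := [3, 2]) (V := [2, 3]) 0 (by decide +kernel)
  us := by simpa using h.yrel' m (U := [4, 2]) (V := [2, 4]) 1 (by decide +kernel)
  r1 := h.yrel' m (V := []) 0 (by decide +kernel)
  r2 := h.yrel' m (V := []) 0 (by decide +kernel)
  r3 := h.yrel' m (V := []) 0 (by decide +kernel)

theorem exists_cd : ∃ B : List E, B.length = 12 ∧ Cd (cmb B) ∧
    (∀ k < 13, Rp (cmb B) (rh ρ (g k)) (nth [] KC k)) ∧
    ∀ a b, QuadraticMap.polar q (cmb B a) (cmb B b) = (par (a &&& linL rows b) : ℕ) := by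
  have := m.sec.finite
  obtain ⟨B, hB, c, r⟩ := (h.mu m).exists_cd
  have wd : ∀ {W : List ℕ}, (∀ k ∈ W, k < 5) → ∀ a,
      evA (fun k => rh ρ (wds g YW k)) W (cmb B a) = cmb B (apW (PE YB) W a) :=
    fun hW => ap_word fun k hk => r k (hW k hk)
  have hY : ∀ k, wds g YW k ∈ C[z] := fun k => h.ev_mem (nth_lt (by decide +kernel) k)
  refine ⟨B, hB, c, fun k hk => ?_, ?_⟩
  · have : eqL PN 13 BN [k] (flat YW (nth ([], 0) KW k).1 ++ kv (nth ([], 0) KW k).2) = 0 ∧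
      (∀ j ∈ (nth ([], 0) KW k).1, j < 5) ∧ (nth [] KC k).length = 12 ∧
      ∀ i < 12, apW (PE YB) (nth ([], 0) KW k).1 (2 ^ i) = (nth [] KC k).getD i 0 := by
      revert k; decide +kernel
    refine rp_of (by rw [this.2.2.1, hB]) fun i hi => ?_
    have e := h.yrel m this.1
    rw [evA_cons, evA_nil, one_mul] at e
    rw [e, wd this.2.1, this.2.2.2 i (hB ▸ hi)]
  let f : E → E →+ ZMod 2 := fun v => (QuadraticMap.polarBilin q v).toAddMonoidHom
  obtain ⟨d, hd, ed⟩ := exists_bits (fun i => f (cmb B 1) (cmb B (2 ^ i))) 12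
  have e0 := fun_par hB (f (cmb B 1)) ed
  have pl : ∀ a, par a < 2 := fun a => linL_lt (n := 1) (by simp) a
  have ci : ∀ {a b}, ((par a : ℕ) : ZMod 2) = (par b : ℕ) → par a = par b := fun {a b} e => by
    rwa [ZMod.natCast_eq_natCast_iff', Nat.mod_eq_of_lt (pl a), Nat.mod_eq_of_lt (pl b)] at e
  have key : d = 0 ∨ d = 1768 := az_of (p := fun d => par (1 &&& d) = par 0 → (∀ k ∈ [1, 2, 4], ∀ j < 12,
      par (PE YB k (2 ^ j) &&& d) = par (2 ^ j &&& d)) → d = 0 ∨ d = 1768) (by decide +kernel) d hd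
    (ci (by
      rw [← e0]
      exact (QuadraticMap.polar_self q _).trans (by rw [two_nsmul, add_self2]; rfl)))
    fun k hk j _ => ci (by
      have hk' : k < 5 ∧ PE YB k 1 = 1 := by revert k; decide +kernel
      rw [← e0, ← e0, PE, ← r k hk'.1]
      refine Eq.trans ?_ (h.rh_B m (hY k) _ _)
      rw [r k hk'.1 1]
      exact congrArg (fun a => f (cmb B a) _) hk'.2.symm)
  rcases key with rfl | rfl
  · refine absurd (c.inj 1 (by decide) 0 (by decide) ?_) (by decide)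
    rw [c.zero]
    refine m.nd _ fun w => ?_
    obtain ⟨a, -, rfl⟩ := c.surj w
    exact (e0 a).trans (by simp [par, linL_cons])
  have e1 : ∀ i < 12, ∀ j < 12, f (cmb B (2 ^ j)) (cmb B (2 ^ i)) = (rows.getD j 0 / 2 ^ i % 2 : ℕ) := by
    intro i hi j hj
    have k : apW (PE YB) (List.replicate (33 - j) [3, 0]).flatten (2 ^ j) = 1 ∧
      par (apW (PE YB) (List.replicate (33 - j) [3, 0]).flatten (2 ^ i) &&& 1768) =
        rows.getD j 0 / 2 ^ i % 2 := by revert j i; decide +kernel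
    have k2 : ∀ k ∈ (List.replicate (33 - j) [3, 0]).flatten, k < 5 := by
      simp only [List.mem_flatten, List.mem_replicate]
      rintro k ⟨_, ⟨-, rfl⟩, hk⟩; revert k; decide
    rw [← k.2, ← e0, ← k.1, ← wd k2, ← wd k2, ← rh_ev ρ fun k _ => h.le.norm (hY k)]
    exact (h.rh_B m (evA_mem _ fun k _ => hY k) _ _).symm
  intro a b
  have e2 : ∀ j < 12, f (cmb B a) (cmb B (2 ^ j)) = (par (a &&& rows.getD j 0) : ℕ) := fun j hj =>
    (QuadraticMap.polar_comm q _ _).trans (fun_par hB (f (cmb B (2 ^ j))) (fun i hi => e1 i hi j hj) a)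
  refine (cmb_map (f (cmb B a)) B b).trans (Eq.trans ?_ (cmb_lin (d := fun r => ((par (a &&& r) : ℕ) : ZMod 2))
    (by simp [par, linL_cons]) (fun x y => by rw [Nat.and_xor_distrib_left, par, linL_xor, cast_xor]; rfl) rows b))
  refine congrArg (cmb · b) (List.ext_getElem (by simp [hB, rows]) fun i h1 h2 => ?_)
  rw [List.length_map] at h1 h2
  have := e2 i (hB ▸ h1)
  rw [cmb_pow, List.getD_eq_getElem _ _ h1, List.getD_eq_getElem _ _ h2] at this
  simpa using this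
end St
end H20.J4
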