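import Cfsg.Agent.H20.J4.EA
import Cfsg.Agent.H0.TRX

/-! Generated by tools/h0/tr.py. -/

set_option maxRecDepth 100000
set_option maxHeartbeats 0

namespace H20.J4
open H16 H0.TR

noncomputable def sat_W : List (List ℕ) := [[nat_lit 4, nat_lit 2, nat_lit 5, nat_lit 6, nat_lit 7, nat_lit 6, nat_lit 4, nat_lit 8, nat_lit 9, nat_lit 8, nat_lit 1, nat_lit 2, nat_lit 6, nat_lit 7, nat_lit 10, nat_lit 9, nat_lit 8, nat_lit 2, nat_lit 4, nat_lit 9],
  [nat_lit 3, nat_lit 8, nat_lit 0, nat_lit 2, nat_lit 10, nat_lit 9, nat_lit 8, nat_lit 2, nat_lit 9, nat_lit 10, nat_lit 5],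
  [nat_lit 5, nat_lit 8],
  [nat_lit 9, nat_lit 0, nat_lit 2, nat_lit 8, nat_lit 0, nat_lit 1, nat_lit 9, nat_lit 10, nat_lit 9, nat_lit 8, nat_lit 2, nat_lit 5, nat_lit 9, nat_lit 7],
  [nat_lit 10, nat_lit 9, nat_lit 0, nat_lit 4, nat_lit 8, nat_lit 0, nat_lit 9, nat_lit 10],
  [nat_lit 0, nat_lit 8, nat_lit 0],
  [nat_lit 1, nat_lit 2, nat_lit 6, nat_lit 8, nat_lit 0, nat_lit 4, nat_lit 6],
  [nat_lit 3, nat_lit 6, nat_lit 7, nat_lit 6, nat_lit 2, nat_lit 6, nat_lit 8, nat_lit 3, nat_lit 9, nat_lit 8, nat_lit 1, nat_lit 4, nat_lit 10, nat_lit 9, nat_lit 8, nat_lit 2, nat_lit 7],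
  [nat_lit 1, nat_lit 8, nat_lit 2, nat_lit 9, nat_lit 10, nat_lit 9, nat_lit 8, nat_lit 1],
  [nat_lit 0, nat_lit 3, nat_lit 6, nat_lit 5, nat_lit 7, nat_lit 6, nat_lit 1, nat_lit 4, nat_lit 10]]
noncomputable def sat_P : ℕ → ℕ → ℕ := wdsP H15.MM24.P sat_W
noncomputable def saPd : List ℕ := [nat_lit 0xbdab49ca305b12e78da4288e851801,
  nat_lit 0xa4e37b42b25b12e7a9a4398a818820,
  nat_lit 0xb5e13a46557b92c58da4298e850820,
  nat_lit 0xbdab49ca3073c8b615091814d38446,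
  nat_lit 0xa4eb7b4a3062c8f70d09298ed50820,
  nat_lit 0xa4e57b56117b90c59c8d5186928820,
  nat_lit 0x856f28ce967b08e5950d5086939820,
  nat_lit 0x856928daf3491c86858f10ccb028e5,
  nat_lit 0x84672ad2d74a1646a9ee398ac18820,
  nat_lit 0xbdab49ca30019420b467438854b16f]
noncomputable def saP (k u : ℕ) : ℕ := Nat.land (Nat.shiftRight (nth (nat_lit 0) saPd k) (Nat.mul u (nat_lit 5))) (nat_lit 31)
noncomputable def saEd : ℕ := nat_lit 0xa458b41c81bdab3941ee6a92628c40
noncomputable def saE (u : ℕ) : ℕ := Nat.land (Nat.shiftRight saEd (Nat.mul u (nat_lit 5))) (nat_lit 31)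
noncomputable def saId : ℕ := nat_lit 0x7b9b762eca4a0f5a18b39107110600
noncomputable def saI (u : ℕ) : ℕ := Nat.land (Nat.shiftRight saId (Nat.mul u (nat_lit 5))) (nat_lit 31)
noncomputable def saB : List ℕ := [nat_lit 15, nat_lit 0, nat_lit 16, nat_lit 1, nat_lit 2, nat_lit 3, nat_lit 17]
noncomputable def saC : List (List (List ℕ)) := [[[],
  [],
  [],
  [],
  [],
  [],
  [],
  [],
  [],
  []], [[],
  [],
  [],
  [],
  [],
  [],
  [],
  [],
  [],
  [nat_lit 0]], [[],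
  [],
  [],
  [],
  [],
  [],
  [],
  [nat_lit 0],
  [nat_lit 1],
  []], [[],
  [],
  [],
  [],
  [],
  [],
  [nat_lit 0],
  [nat_lit 0],
  [],
  []], [[],
  [],
  [],
  [],
  [],
  [],
  [nat_lit 1],
  [nat_lit 0, nat_lit 1],
  [nat_lit 1],
  [nat_lit 0, nat_lit 3]], [[],
  [],
  [],
  [],
  [],
  [],
  [nat_lit 2],
  [nat_lit 2, nat_lit 3],
  [nat_lit 2, nat_lit 4],
  []], [[],
  [],
  [],
  [],
  [],
  [],
  [nat_lit 2],
  [nat_lit 0, nat_lit 1, nat_lit 3],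
  [nat_lit 1, nat_lit 2, nat_lit 4],
  []], [[],
  [],
  [],
  [],
  [],
  [],
  [],
  [nat_lit 1, nat_lit 2, nat_lit 3],
  [nat_lit 2, nat_lit 4],
  [nat_lit 0, nat_lit 3]], [[],
  [],
  [],
  [],
  [],
  [],
  [],
  [],
  [],
  [nat_lit 0, nat_lit 2, nat_lit 3, nat_lit 4, nat_lit 6, nat_lit 7]], [[],
  [],
  [],
  [],
  [],
  [],
  [],
  [],
  [],
  []]]
noncomputable def sae : List (List ℕ) := [[],
  [nat_lit 1, nat_lit 2],
  [nat_lit 1, nat_lit 2],
  [nat_lit 1, nat_lit 2],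
  [nat_lit 1, nat_lit 2],
  [],
  [nat_lit 1, nat_lit 2],
  [],
  [],
  [nat_lit 1, nat_lit 2],
  [],
  [],
  [],
  [nat_lit 1, nat_lit 2],
  [],
  [nat_lit 1, nat_lit 2],
  [],
  [],
  [],
  [],
  [nat_lit 1, nat_lit 2],
  [],
  [],
  [],
  [nat_lit 1, nat_lit 2],
  [nat_lit 1, nat_lit 2],
  [nat_lit 1, nat_lit 2],
  [],
  [nat_lit 1, nat_lit 4, nat_lit 5],
  [nat_lit 2, nat_lit 4],
  [nat_lit 2, nat_lit 8],
  [nat_lit 8],
  [nat_lit 4],
  [nat_lit 1, nat_lit 6],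
  [nat_lit 2, nat_lit 3, nat_lit 6],
  [nat_lit 3, nat_lit 8],
  [nat_lit 0],
  [nat_lit 5, nat_lit 6, nat_lit 8],
  [nat_lit 2, nat_lit 4, nat_lit 5, nat_lit 9]]
noncomputable def sal0Dd : ℕ := nat_lit 0xe9eb30b109826126744aa509a4a1308c4800
noncomputable def sal0D (u : ℕ) : ℕ := Nat.land (Nat.shiftRight sal0Dd (Nat.mul u (nat_lit 9))) (nat_lit 511)
noncomputable def sal0Pd : ℕ := nat_lit 0x57a39d8bf4e2c610
noncomputable def sal0P (u : ℕ) : ℕ := Nat.land (Nat.shiftRight sal0Pd (Nat.mul u (nat_lit 4))) (nat_lit 15)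
noncomputable def sal0Qd : ℕ := nat_lit 0x75a38db9e2f6c410
noncomputable def sal0Q (u : ℕ) : ℕ := Nat.land (Nat.shiftRight sal0Qd (Nat.mul u (nat_lit 4))) (nat_lit 15)
noncomputable def sal0 : Lev := ⟨16, 39, sal0D, sal0P, sal0Q⟩
noncomputable def sal1Dd : ℕ := nat_lit 0x840
noncomputable def sal1D (u : ℕ) : ℕ := Nat.land (Nat.shiftRight sal1Dd (Nat.mul u (nat_lit 6))) (nat_lit 63)
noncomputable def sal1Pd : ℕ := nat_lit 0x32
noncomputable def sal1P (u : ℕ) : ℕ := Nat.land (Nat.shiftRight sal1Pd (Nat.mul u (nat_lit 3))) (nat_lit 7)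
noncomputable def sal1Qd : ℕ := nat_lit 0x40
noncomputable def sal1Q (u : ℕ) : ℕ := Nat.land (Nat.shiftRight sal1Qd (Nat.mul u (nat_lit 1))) (nat_lit 1)
noncomputable def sal1 : Lev := ⟨2, 34, sal1D, sal1P, sal1Q⟩
noncomputable def sal2Dd : ℕ := nat_lit 0xf76ae3f7a78e80
noncomputable def sal2D (u : ℕ) : ℕ := Nat.land (Nat.shiftRight sal2Dd (Nat.mul u (nat_lit 7))) (nat_lit 127)
noncomputable def sal2Pd : ℕ := nat_lit 0xdb8efc94
noncomputable def sal2P (u : ℕ) : ℕ := Nat.land (Nat.shiftRight sal2Pd (Nat.mul u (nat_lit 4))) (nat_lit 15)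
noncomputable def sal2Qd : ℕ := nat_lit 0x73ac0d000000
noncomputable def sal2Q (u : ℕ) : ℕ := Nat.land (Nat.shiftRight sal2Qd (Nat.mul u (nat_lit 3))) (nat_lit 7)
noncomputable def sal2 : Lev := ⟨8, 31, sal2D, sal2P, sal2Q⟩
noncomputable def sal3Dd : ℕ := nat_lit 0xe5c040
noncomputable def sal3D (u : ℕ) : ℕ := Nat.land (Nat.shiftRight sal3Dd (Nat.mul u (nat_lit 6))) (nat_lit 63)
noncomputable def sal3Pd : ℕ := nat_lit 0x57a3
noncomputable def sal3P (u : ℕ) : ℕ := Nat.land (Nat.shiftRight sal3Pd (Nat.mul u (nat_lit 4))) (nat_lit 15)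
noncomputable def sal3Qd : ℕ := nat_lit 0x108c00
noncomputable def sal3Q (u : ℕ) : ℕ := Nat.land (Nat.shiftRight sal3Qd (Nat.mul u (nat_lit 2))) (nat_lit 3)
noncomputable def sal3 : Lev := ⟨4, 29, sal3D, sal3P, sal3Q⟩
noncomputable def svr_W : List (List ℕ) := [[nat_lit 5, nat_lit 8],
  [nat_lit 0, nat_lit 3, nat_lit 7, nat_lit 8, nat_lit 0, nat_lit 9, nat_lit 8, nat_lit 1, nat_lit 2, nat_lit 10, nat_lit 9, nat_lit 8, nat_lit 0, nat_lit 9, nat_lit 10]]
noncomputable def svr_P : ℕ → ℕ → ℕ := wdsP H15.MM24.P svr_W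
noncomputable def svT0 : CT := (.split (.more (.split (.more (.split (.more (.split (.more (.split (.more (.split (.more (.split (.more (.split (.more (.split (.more (.split (.more .one (.more (.leaf (nat_lit 0) [nat_lit 6, nat_lit 0, nat_lit 7, nat_lit 6, nat_lit 0, nat_lit 2, nat_lit 8, nat_lit 1, nat_lit 2, nat_lit 6, nat_lit 9, nat_lit 8, nat_lit 2, nat_lit 10, nat_lit 9, nat_lit 8]) .one))) (.more (.fuse [nat_lit 9] [] (.leaf (nat_lit 0) [nat_lit 2, nat_lit 4, nat_lit 6, nat_lit 2, nat_lit 7, nat_lit 6, nat_lit 1, nat_lit 2, nat_lit 8, nat_lit 2, nat_lit 4, nat_lit 9, nat_lit 10, nat_lit 9, nat_lit 8, nat_lit 0])) .one))) (.more (.fuse [nat_lit 8] [] (.fuse [nat_lit 7] [] (.leaf (nat_lit 0) []))) .one))) (.more (.split (.more (.split (.more (.fuse [nat_lit 6] [] (.leaf (nat_lit 0) [nat_lit 1, nat_lit 2, nat_lit 3, nat_lit 6, nat_lit 0, nat_lit 3, nat_lit 7, nat_lit 6, nat_lit 9, nat_lit 8, nat_lit 2, nat_lit 10,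 nat_lit 9])) (.more (.fuse [nat_lit 6] [] (.leaf (nat_lit 1) [])) .one))) (.more (.fuse [nat_lit 8] [] (.fuse [nat_lit 6] [] (.leaf (nat_lit 1) [nat_lit 0, nat_lit 1, nat_lit 3, nat_lit 5, nat_lit 8, nat_lit 9, nat_lit 10, nat_lit 9, nat_lit 8, nat_lit 2, nat_lit 3]))) .one))) .one))) (.more (.fuse [nat_lit 9] [nat_lit 0] (.split (.more (.fuse [nat_lit 6] [] (.fuse [nat_lit 6, nat_lit 7] [] (.leaf (nat_lit 0) [nat_lit 0, nat_lit 1, nat_lit 2, nat_lit 6, nat_lit 0, nat_lit 1, nat_lit 2, nat_lit 8, nat_lit 0, nat_lit 9, nat_lit 8, nat_lit 0, nat_lit 1, nat_lit 10, nat_lit 9, nat_lit 8]))) (.more (.fuse [nat_lit 6] [] (.split (.more (.leaf (nat_lit 0) [nat_lit 7, nat_lit 5, nat_lit 6, nat_lit 2, nat_lit 6, nat_lit 7, nat_lit 6, nat_lit 0, nat_lit 10, nat_lit 9, nat_lit 8, nat_lit 2, nat_lit 3, nat_lit 9]) (.more (.leaf (nat_lit 1) [nat_lit 0, nat_lit 1, nat_lit 4, nat_lit 7, nat_lit 6, nat_lit 2, nat_lit 8, nat_lit 9,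 nat_lit 10, nat_lit 9, nat_lit 8, nat_lit 2, nat_lit 5, nat_lit 2]) .one)))) .one)))) .one))) (.more (.fuse [nat_lit 8] [nat_lit 2] (.fuse [nat_lit 7] [nat_lit 2] (.fuse [nat_lit 6] [] (.split (.more (.split (.more (.leaf (nat_lit 0) [nat_lit 7, nat_lit 0, nat_lit 4, nat_lit 6, nat_lit 8, nat_lit 1, nat_lit 6, nat_lit 9, nat_lit 8, nat_lit 1, nat_lit 2, nat_lit 6, nat_lit 7]) (.more (.leaf (nat_lit 1) [nat_lit 7, nat_lit 0, nat_lit 5, nat_lit 6, nat_lit 2, nat_lit 8, nat_lit 9, nat_lit 10, nat_lit 9, nat_lit 8, nat_lit 1, nat_lit 6, nat_lit 5]) .one))) (.more (.fuse [nat_lit 9] [] (.leaf (nat_lit 0) [nat_lit 10, nat_lit 1, nat_lit 2, nat_lit 6, nat_lit 5, nat_lit 8, nat_lit 0, nat_lit 9, nat_lit 8, nat_lit 2, nat_lit 10, nat_lit 6])) .one)))))) .one))) (.more (.split (.more (.fuse [nat_lit 8] [nat_lit 2] (.fuse [nat_lit 7] [nat_lit 1] (.fuse [nat_lit 5] [] (.prune (nat_lit 2) (nat_lit 1) [])))) (.more (.split (.more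 (.split (.more (.fuse [nat_lit 5] [] (.fuse [nat_lit 4] [] (.fuse [nat_lit 3] [] (.leaf (nat_lit 0) [nat_lit 2, nat_lit 6, nat_lit 1, nat_lit 4, nat_lit 1, nat_lit 7, nat_lit 6, nat_lit 3, nat_lit 8, nat_lit 0, nat_lit 1, nat_lit 4])))) (.more (.fuse [nat_lit 5] [] (.fuse [nat_lit 4] [] (.fuse [nat_lit 3] [] (.prune (nat_lit 0) (nat_lit 1) [])))) .one))) (.more (.fuse [nat_lit 9] [nat_lit 0] (.fuse [nat_lit 5] [] (.fuse [nat_lit 4] [] (.prune (nat_lit 1) (nat_lit 1) [])))) .one))) .one))) .one))) (.more (.split (.more (.split (.more (.fuse [nat_lit 8] [nat_lit 1, nat_lit 2] (.fuse [nat_lit 5] [nat_lit 2] (.prune (nat_lit 3) (nat_lit 1) [nat_lit 1, nat_lit 2]))) (.more (.split (.more (.fuse [nat_lit 5] [nat_lit 2] (.fuse [nat_lit 5, nat_lit 9] [] (.fuse [nat_lit 4] [nat_lit 0] (.prune (nat_lit 1) (nat_lit 1) [])))) (.more (.fuse [nat_lit 5] [nat_lit 2] (.split (.more (.fuse [nat_lit 4] [nat_lit 0] (.fuse [nat_lit 2]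 [] (.prune (nat_lit 0) (nat_lit 1) []))) (.more (.fuse [nat_lit 4] [nat_lit 0] (.fuse [nat_lit 2] [] (.leaf (nat_lit 1) [nat_lit 1, nat_lit 5, nat_lit 6, nat_lit 7, nat_lit 8, nat_lit 9, nat_lit 10, nat_lit 9, nat_lit 8, nat_lit 2, nat_lit 3]))) .one)))) .one))) .one))) (.more (.split (.more (.split (.more (.fuse [nat_lit 5] [nat_lit 0] (.split (.more (.fuse [nat_lit 5, nat_lit 6] [nat_lit 0] (.fuse [nat_lit 2] [] (.leaf (nat_lit 1) [nat_lit 4, nat_lit 1, nat_lit 2, nat_lit 3, nat_lit 5, nat_lit 6, nat_lit 2, nat_lit 7, nat_lit 6, nat_lit 8, nat_lit 9, nat_lit 8, nat_lit 1, nat_lit 2, nat_lit 8]))) (.more (.fuse [nat_lit 5, nat_lit 6] [nat_lit 0] (.fuse [nat_lit 2] [] (.prune (nat_lit 0) (nat_lit 1) []))) .one)))) (.more (.fuse [nat_lit 5] [nat_lit 0] (.split (.more (.fuse [nat_lit 8] [] (.fuse [nat_lit 2] [] (.prune (nat_lit 0) (nat_lit 1) []))) (.more (.split (.more (.fuse [nat_lit 2] [] (.leaf (nat_lit 0) [nat_lit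 6, nat_lit 4, nat_lit 7, nat_lit 6, nat_lit 9, nat_lit 8, nat_lit 0, nat_lit 1, nat_lit 10, nat_lit 9, nat_lit 8, nat_lit 1, nat_lit 6, nat_lit 5])) (.more (.fuse [nat_lit 2] [] (.leaf (nat_lit 1) [nat_lit 3, nat_lit 6, nat_lit 0, nat_lit 1, nat_lit 2, nat_lit 8, nat_lit 9, nat_lit 10, nat_lit 9, nat_lit 8, nat_lit 0, nat_lit 1, nat_lit 5])) .one))) .one)))) .one))) (.more (.fuse [nat_lit 8] [nat_lit 2] (.fuse [nat_lit 5] [nat_lit 0] (.prune (nat_lit 3) (nat_lit 1) [nat_lit 0]))) .one))) .one))) .one))) (.more (.fuse [nat_lit 9] [nat_lit 0, nat_lit 2, nat_lit 3, nat_lit 4, nat_lit 6] (.split (.more (.split (.more (.fuse [nat_lit 5] [nat_lit 2] (.split (.more (.split (.more (.fuse [nat_lit 2] [] (.split (.more (.leaf (nat_lit 0) [nat_lit 6, nat_lit 0, nat_lit 5, nat_lit 6, nat_lit 2, nat_lit 7, nat_lit 6, nat_lit 0, nat_lit 8, nat_lit 1, nat_lit 6, nat_lit 5, nat_lit 10, nat_lit 9, nat_lit 8]) (.more (.leaf (nat_lit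 1) [nat_lit 4, nat_lit 6, nat_lit 3, nat_lit 4, nat_lit 7, nat_lit 6, nat_lit 8, nat_lit 9, nat_lit 10, nat_lit 9, nat_lit 8, nat_lit 0, nat_lit 1]) .one)))) (.more (.fuse [nat_lit 2] [] (.prune (nat_lit 1) (nat_lit 1) [])) .one))) (.more (.split (.more (.fuse [nat_lit 2] [] (.fuse [nat_lit 5, nat_lit 6] [] (.leaf (nat_lit 1) [nat_lit 1, nat_lit 10, nat_lit 3, nat_lit 5, nat_lit 6, nat_lit 2, nat_lit 6, nat_lit 5, nat_lit 7, nat_lit 6, nat_lit 3, nat_lit 8, nat_lit 9, nat_lit 8, nat_lit 1, nat_lit 6, nat_lit 10]))) (.more (.fuse [nat_lit 2] [] (.prune (nat_lit 1) (nat_lit 1) [])) .one))) .one)))) (.more (.fuse [nat_lit 5] [nat_lit 2] (.prune (nat_lit 4) (nat_lit 1) [nat_lit 2])) .one))) (.more (.split (.more (.fuse [nat_lit 5] [nat_lit 1] (.prune (nat_lit 4) (nat_lit 1) [nat_lit 1])) (.more (.fuse [nat_lit 5] [nat_lit 1] (.split (.more (.split (.more (.fuse [nat_lit 2] [] (.fuse [nat_lit 3] [] (.leaf (nat_lit 0) [nat_lit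 0, nat_lit 2, nat_lit 3, nat_lit 5, nat_lit 6, nat_lit 1, nat_lit 4, nat_lit 7, nat_lit 8, nat_lit 1, nat_lit 2, nat_lit 10, nat_lit 9, nat_lit 8, nat_lit 3, nat_lit 10]))) (.more (.fuse [nat_lit 2] [] (.prune (nat_lit 1) (nat_lit 1) [])) .one))) (.more (.split (.more (.fuse [nat_lit 2] [] (.fuse [nat_lit 3] [] (.prune (nat_lit 0) (nat_lit 1) []))) (.more (.fuse [nat_lit 2] [] (.prune (nat_lit 1) (nat_lit 1) [nat_lit 0])) .one))) .one)))) .one))) .one)))) .one))) (.more (.split (.more (.fuse [nat_lit 8] [nat_lit 0, nat_lit 2, nat_lit 3, nat_lit 4, nat_lit 6] (.split (.more (.split (.more (.split (.more (.fuse [nat_lit 4] [nat_lit 0] (.split (.more (.split (.more (.fuse [nat_lit 1] [] (.leaf (nat_lit 0) [nat_lit 1, nat_lit 4, nat_lit 6, nat_lit 0, nat_lit 7, nat_lit 6, nat_lit 3, nat_lit 4, nat_lit 9, nat_lit 8, nat_lit 10, nat_lit 9, nat_lit 8])) (.more (.fuse [nat_lit 1] [] (.prune (nat_lit 0) (nat_lit 1) [])) .one)))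 (.more (.split (.more (.fuse [nat_lit 1] [] (.leaf (nat_lit 1) [nat_lit 0, nat_lit 3, nat_lit 6, nat_lit 4, nat_lit 7, nat_lit 8, nat_lit 2, nat_lit 3, nat_lit 9, nat_lit 10, nat_lit 9, nat_lit 8, nat_lit 0, nat_lit 3])) (.more (.fuse [nat_lit 1] [] (.prune (nat_lit 0) (nat_lit 1) [])) .one))) .one)))) (.more (.fuse [nat_lit 4] [nat_lit 0] (.prune (nat_lit 3) (nat_lit 1) [nat_lit 0])) .one))) (.more (.split (.more (.fuse [nat_lit 4] [nat_lit 0] (.fuse [nat_lit 6] [] (.split (.more (.fuse [nat_lit 1] [] (.leaf (nat_lit 1) [nat_lit 4, nat_lit 3, nat_lit 6, nat_lit 7, nat_lit 6, nat_lit 0, nat_lit 1, nat_lit 2, nat_lit 8, nat_lit 0, nat_lit 9, nat_lit 10, nat_lit 9, nat_lit 8, nat_lit 0, nat_lit 3])) (.more (.fuse [nat_lit 1] [] (.prune (nat_lit 0) (nat_lit 1) [])) .one))))) (.more (.fuse [nat_lit 4] [nat_lit 0] (.prune (nat_lit 3) (nat_lit 1) [nat_lit 0])) .one))) .one))) (.more (.split (.more (.split (.more (.fuse [nat_lit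 4] [nat_lit 1] (.fuse [nat_lit 5] [] (.prune (nat_lit 2) (nat_lit 1) []))) (.more (.fuse [nat_lit 4] [nat_lit 1] (.prune (nat_lit 3) (nat_lit 1) [nat_lit 1, nat_lit 2])) .one))) (.more (.split (.more (.fuse [nat_lit 4] [nat_lit 1] (.fuse [nat_lit 5] [] (.split (.more (.fuse [nat_lit 1] [] (.leaf (nat_lit 1) [nat_lit 0, nat_lit 1, nat_lit 3, nat_lit 6, nat_lit 8, nat_lit 1, nat_lit 6, nat_lit 9, nat_lit 8, nat_lit 10, nat_lit 9, nat_lit 8, nat_lit 0, nat_lit 7, nat_lit 9, nat_lit 5])) (.more (.fuse [nat_lit 1] [] (.prune (nat_lit 0) (nat_lit 1) [])) .one))))) (.more (.fuse [nat_lit 4] [nat_lit 1] (.prune (nat_lit 3) (nat_lit 1) [nat_lit 1])) .one))) .one))) .one)))) (.more (.fuse [nat_lit 8] [nat_lit 0, nat_lit 2, nat_lit 3, nat_lit 4, nat_lit 6] (.prune (nat_lit 7) (nat_lit 1) [nat_lit 0, nat_lit 2, nat_lit 3, nat_lit 4, nat_lit 6])) .one))) .one)))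
noncomputable def el_W : List (List ℕ) := [[nat_lit 2, nat_lit 6, nat_lit 2, nat_lit 7, nat_lit 6, nat_lit 4, nat_lit 9, nat_lit 8, nat_lit 2, nat_lit 10]]
noncomputable def el_P : ℕ → ℕ → ℕ := wdsP H15.MM24.P el_W
noncomputable def cex_W : List (List ℕ) := [[nat_lit 2, nat_lit 6, nat_lit 2, nat_lit 7, nat_lit 6, nat_lit 4, nat_lit 9, nat_lit 8, nat_lit 2, nat_lit 10]]
noncomputable def cex_P : ℕ → ℕ → ℕ := wdsP H15.MM24.P cex_W
noncomputable def ceth_W : List (List ℕ) := [[nat_lit 0, nat_lit 5, nat_lit 6, nat_lit 3, nat_lit 7, nat_lit 8, nat_lit 0, nat_lit 3, nat_lit 6, nat_lit 10, nat_lit 9, nat_lit 8, nat_lit 1, nat_lit 6, nat_lit 5, nat_lit 2, nat_lit 10, nat_lit 0],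
  [nat_lit 7, nat_lit 6, nat_lit 5, nat_lit 8, nat_lit 1, nat_lit 4, nat_lit 9, nat_lit 10, nat_lit 9, nat_lit 8, nat_lit 1, nat_lit 3],
  [nat_lit 1, nat_lit 3, nat_lit 5, nat_lit 6, nat_lit 1, nat_lit 7, nat_lit 8, nat_lit 9, nat_lit 10, nat_lit 9, nat_lit 8, nat_lit 0, nat_lit 3, nat_lit 6],
  [nat_lit 0, nat_lit 7, nat_lit 6, nat_lit 0, nat_lit 8, nat_lit 9, nat_lit 10, nat_lit 9, nat_lit 8, nat_lit 1, nat_lit 6, nat_lit 8],
  [nat_lit 8],
  [nat_lit 6],
  [nat_lit 0],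
  [nat_lit 1],
  [nat_lit 2],
  [nat_lit 3],
  [nat_lit 4],
  [nat_lit 5],
  [nat_lit 7],
  [nat_lit 9],
  [nat_lit 10]]
noncomputable def ceth_P : ℕ → ℕ → ℕ := wdsP H15.MM24.P ceth_W
noncomputable def cetl0Dd : ℕ := nat_lit 0xf565b8a90f7d2e53442050214112401036353433130e0d00
noncomputable def cetl0D (u : ℕ) : ℕ := Nat.land (Nat.shiftRight cetl0Dd (Nat.mul u (nat_lit 8))) (nat_lit 255)
noncomputable def cetl0Pd : ℕ := nat_lit 0x1a0a995614b45c69894d3ade465c20
noncomputable def cetl0P (u : ℕ) : ℕ := Nat.land (Nat.shiftRight cetl0Pd (Nat.mul u (nat_lit 5))) (nat_lit 31)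
noncomputable def cetl0Qd : ℕ := nat_lit 0x13e505cdd12b503326963b2a4ba820
noncomputable def cetl0Q (u : ℕ) : ℕ := Nat.land (Nat.shiftRight cetl0Qd (Nat.mul u (nat_lit 5))) (nat_lit 31)
noncomputable def cetl0 : Lev := ⟨24, 15, cetl0D, cetl0P, cetl0Q⟩
noncomputable def cetl1Dd : ℕ := nat_lit 0x1d1bc7615523163915382b1f1e12110c0b0a0908070600
noncomputable def cetl1D (u : ℕ) : ℕ := Nat.land (Nat.shiftRight cetl1Dd (Nat.mul u (nat_lit 8))) (nat_lit 255)
noncomputable def cetl1Pd : ℕ := nat_lit 0x5c519a9a9810a11b8f57a246652cb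
noncomputable def cetl1P (u : ℕ) : ℕ := Nat.land (Nat.shiftRight cetl1Pd (Nat.mul u (nat_lit 5))) (nat_lit 31)
noncomputable def cetl1Qd : ℕ := nat_lit 0xb05029968f3aa2304a06491ae5d580
noncomputable def cetl1Q (u : ℕ) : ℕ := Nat.land (Nat.shiftRight cetl1Qd (Nat.mul u (nat_lit 5))) (nat_lit 31)
noncomputable def cetl1 : Lev := ⟨23, 13, cetl1D, cetl1P, cetl1Q⟩
noncomputable def cetl2Dd : ℕ := nat_lit 0x1e2740849198ee9a281c8879d38204872228280
noncomputable def cetl2D (u : ℕ) : ℕ := Nat.land (Nat.shiftRight cetl2Dd (Nat.mul u (nat_lit 7))) (nat_lit 127)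
noncomputable def cetl2Pd : ℕ := nat_lit 0x4cbb82fa22641c24932a256d6c7
noncomputable def cetl2P (u : ℕ) : ℕ := Nat.land (Nat.shiftRight cetl2Pd (Nat.mul u (nat_lit 5))) (nat_lit 31)
noncomputable def cetl2Qd : ℕ := nat_lit 0x9844f6a4aa848740190e01c8c5d620
noncomputable def cetl2Q (u : ℕ) : ℕ := Nat.land (Nat.shiftRight cetl2Qd (Nat.mul u (nat_lit 5))) (nat_lit 31)
noncomputable def cetl2 : Lev := ⟨22, 6, cetl2D, cetl2P, cetl2Q⟩
noncomputable def cetl3Dd : ℕ := nat_lit 0x4261153243e28a901a2d11826147071018200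
noncomputable def cetl3D (u : ℕ) : ℕ := Nat.land (Nat.shiftRight cetl3Dd (Nat.mul u (nat_lit 7))) (nat_lit 127)
noncomputable def cetl3Pd : ℕ := nat_lit 0xfb984d98cb04c6950ba5662144
noncomputable def cetl3P (u : ℕ) : ℕ := Nat.land (Nat.shiftRight cetl3Pd (Nat.mul u (nat_lit 5))) (nat_lit 31)
noncomputable def cetl3Qd : ℕ := nat_lit 0x991097954ca1a0300562049a0744e0
noncomputable def cetl3Q (u : ℕ) : ℕ := Nat.land (Nat.shiftRight cetl3Qd (Nat.mul u (nat_lit 5))) (nat_lit 31)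
noncomputable def cetl3 : Lev := ⟨21, 5, cetl3D, cetl3P, cetl3Q⟩
noncomputable def cetl4Dd : ℕ := nat_lit 0xce6beb9da74c4ce44a3c91061c50c0
noncomputable def cetl4D (u : ℕ) : ℕ := Nat.land (Nat.shiftRight cetl4Dd (Nat.mul u (nat_lit 6))) (nat_lit 63)
noncomputable def cetl4Pd : ℕ := nat_lit 0x6be412d850ab277a286e4c506
noncomputable def cetl4P (u : ℕ) : ℕ := Nat.land (Nat.shiftRight cetl4Pd (Nat.mul u (nat_lit 5))) (nat_lit 31)
noncomputable def cetl4Qd : ℕ := nat_lit 0x439674c44c9126a01861001e02b600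
noncomputable def cetl4Q (u : ℕ) : ℕ := Nat.land (Nat.shiftRight cetl4Qd (Nat.mul u (nat_lit 5))) (nat_lit 31)
noncomputable def cetl4 : Lev := ⟨20, 4, cetl4D, cetl4P, cetl4Q⟩
noncomputable def cetl5Dd : ℕ := nat_lit 0xde2b44c60d598e520820
noncomputable def cetl5D (u : ℕ) : ℕ := Nat.land (Nat.shiftRight cetl5Dd (Nat.mul u (nat_lit 5))) (nat_lit 31)
noncomputable def cetl5Pd : ℕ := nat_lit 0xa0c57ab1c88452a2cecf
noncomputable def cetl5P (u : ℕ) : ℕ := Nat.land (Nat.shiftRight cetl5Pd (Nat.mul u (nat_lit 5))) (nat_lit 31)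
noncomputable def cetl5Qd : ℕ := nat_lit 0xc1bf2067090a04580030ed00
noncomputable def cetl5Q (u : ℕ) : ℕ := Nat.land (Nat.shiftRight cetl5Qd (Nat.mul u (nat_lit 4))) (nat_lit 15)
noncomputable def cetl5 : Lev := ⟨16, 3, cetl5D, cetl5P, cetl5Q⟩
noncomputable def cetl6Dd : ℕ := nat_lit 4
noncomputable def cetl6D (u : ℕ) : ℕ := Nat.land (Nat.shiftRight cetl6Dd (Nat.mul u (nat_lit 1))) (nat_lit 1)
noncomputable def cetl6Pd : ℕ := nat_lit 0x4122
noncomputable def cetl6P (u : ℕ) : ℕ := Nat.land (Nat.shiftRight cetl6Pd (Nat.mul u (nat_lit 5))) (nat_lit 31)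
noncomputable def cetl6Qd : ℕ := nat_lit 0x200040000
noncomputable def cetl6Q (u : ℕ) : ℕ := Nat.land (Nat.shiftRight cetl6Qd (Nat.mul u (nat_lit 2))) (nat_lit 3)
noncomputable def cetl6 : Lev := ⟨3, 1, cetl6D, cetl6P, cetl6Q⟩
noncomputable def cece_W : List (List ℕ) := [[nat_lit 2, nat_lit 6, nat_lit 2, nat_lit 7, nat_lit 6, nat_lit 4, nat_lit 9, nat_lit 8, nat_lit 2, nat_lit 10]]
noncomputable def cece_P : ℕ → ℕ → ℕ := wdsP H15.MM24.P cece_W
noncomputable def cecc0Dd : ℕ := nat_lit 0x98765432100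
noncomputable def cecc0D (u : ℕ) : ℕ := Nat.land (Nat.shiftRight cecc0Dd (Nat.mul u (nat_lit 4))) (nat_lit 15)
noncomputable def cecc0Pd : ℕ := nat_lit 0x2ce433c56606e0
noncomputable def cecc0P (u : ℕ) : ℕ := Nat.land (Nat.shiftRight cecc0Pd (Nat.mul u (nat_lit 5))) (nat_lit 31)
noncomputable def cecc0Qd : ℕ := nat_lit 0x140000006003a00097080520
noncomputable def cecc0Q (u : ℕ) : ℕ := Nat.land (Nat.shiftRight cecc0Qd (Nat.mul u (nat_lit 4))) (nat_lit 15)
noncomputable def cecc0 : Lev := ⟨11, 1, cecc0D, cecc0P, cecc0Q⟩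
noncomputable def cetn0Fd : ℕ := nat_lit 0x730323204101200a01410000000000
noncomputable def cetn0F (u : ℕ) : ℕ := Nat.land (Nat.shiftRight cetn0Fd (Nat.mul u (nat_lit 5))) (nat_lit 31)
noncomputable def cetn0 : Nd := ⟨cetn0F, (nat_lit 2), (nat_lit 1), [[nat_lit 0]], [((nat_lit 0), []), ((nat_lit 0), [nat_lit 0]), ((nat_lit 0), [nat_lit 0, nat_lit 0]), ((nat_lit 0), [nat_lit 0, nat_lit 0, nat_lit 0]), ((nat_lit 0), [nat_lit 0, nat_lit 0, nat_lit 0, nat_lit 0]), ((nat_lit 0), [nat_lit 0, nat_lit 0, nat_lit 0, nat_lit 0, nat_lit 0]), ((nat_lit 0), [nat_lit 0, nat_lit 0, nat_lit 0, nat_lit 0, nat_lit 0, nat_lit 0])], []⟩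
noncomputable def ia_W : List (List ℕ) := [[nat_lit 0]]
noncomputable def ia_P : ℕ → ℕ → ℕ := wdsP A0.P ia_W
noncomputable def cfx_W : List (List ℕ) := [[nat_lit 0]]
noncomputable def cfx_P : ℕ → ℕ → ℕ := wdsP A0.P cfx_W
noncomputable def cfth_W : List (List ℕ) := [[nat_lit 6, nat_lit 1, nat_lit 2, nat_lit 3, nat_lit 7, nat_lit 6],
  [nat_lit 6, nat_lit 1, nat_lit 2, nat_lit 3, nat_lit 7, nat_lit 6],
  [nat_lit 1, nat_lit 4, nat_lit 7],
  [nat_lit 2, nat_lit 4, nat_lit 6, nat_lit 7, nat_lit 6, nat_lit 1, nat_lit 5],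
  [nat_lit 5, nat_lit 6, nat_lit 2, nat_lit 7, nat_lit 6, nat_lit 4],
  [nat_lit 2, nat_lit 3, nat_lit 6, nat_lit 3, nat_lit 6, nat_lit 7, nat_lit 6, nat_lit 8, nat_lit 7, nat_lit 6, nat_lit 2],
  [nat_lit 3, nat_lit 2, nat_lit 8, nat_lit 0, nat_lit 6, nat_lit 7, nat_lit 6, nat_lit 2, nat_lit 7, nat_lit 8],
  [nat_lit 1, nat_lit 2, nat_lit 5, nat_lit 7, nat_lit 6, nat_lit 1, nat_lit 8],
  [nat_lit 0],
  [nat_lit 1],
  [nat_lit 2],
  [nat_lit 3],
  [nat_lit 4],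
  [nat_lit 5],
  [nat_lit 6],
  [nat_lit 7],
  [nat_lit 8],
  [nat_lit 11],
  [nat_lit 12]]
noncomputable def cfth_P : ℕ → ℕ → ℕ := wdsP A0.P cfth_W
noncomputable def cftl0Dd : ℕ := nat_lit 0x220
noncomputable def cftl0D (u : ℕ) : ℕ := Nat.land (Nat.shiftRight cftl0Dd (Nat.mul u (nat_lit 5))) (nat_lit 31)
noncomputable def cftl0Pd : ℕ := nat_lit 0x2e0
noncomputable def cftl0P (u : ℕ) : ℕ := Nat.land (Nat.shiftRight cftl0Pd (Nat.mul u (nat_lit 5))) (nat_lit 31)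
noncomputable def cftl0Qd : ℕ := nat_lit 0x800000
noncomputable def cftl0Q (u : ℕ) : ℕ := Nat.land (Nat.shiftRight cftl0Qd (Nat.mul u (nat_lit 1))) (nat_lit 1)
noncomputable def cftl0 : Lev := ⟨2, 19, cftl0D, cftl0P, cftl0Q⟩
noncomputable def cftl1Dd : ℕ := nat_lit 0x8d993a6e2947303e2d1d57441b1a46350e0b0a090800
noncomputable def cftl1D (u : ℕ) : ℕ := Nat.land (Nat.shiftRight cftl1Dd (Nat.mul u (nat_lit 8))) (nat_lit 255)
noncomputable def cftl1Pd : ℕ := nat_lit 0x233b62242eaa2da6ca3dd091924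
noncomputable def cftl1P (u : ℕ) : ℕ := Nat.land (Nat.shiftRight cftl1Pd (Nat.mul u (nat_lit 5))) (nat_lit 31)
noncomputable def cftl1Qd : ℕ := nat_lit 0x29a748e24316487302f98960a42a0
noncomputable def cftl1Q (u : ℕ) : ℕ := Nat.land (Nat.shiftRight cftl1Qd (Nat.mul u (nat_lit 5))) (nat_lit 31)
noncomputable def cftl1 : Lev := ⟨22, 17, cftl1D, cftl1P, cftl1Q⟩
noncomputable def cftl2Dd : ℕ := nat_lit 0x6f9694eb42c8cb9b384ca0e1e4058c1028380
noncomputable def cftl2D (u : ℕ) : ℕ := Nat.land (Nat.shiftRight cftl2Dd (Nat.mul u (nat_lit 7))) (nat_lit 127)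
noncomputable def cftl2Pd : ℕ := nat_lit 0xc82ecd8d0ae9bc4132243a9d49
noncomputable def cftl2P (u : ℕ) : ℕ := Nat.land (Nat.shiftRight cftl2Pd (Nat.mul u (nat_lit 5))) (nat_lit 31)
noncomputable def cftl2Qd : ℕ := nat_lit 0x446e595f3532149040611da022500
noncomputable def cftl2Q (u : ℕ) : ℕ := Nat.land (Nat.shiftRight cftl2Qd (Nat.mul u (nat_lit 5))) (nat_lit 31)
noncomputable def cftl2 : Lev := ⟨21, 8, cftl2D, cftl2P, cftl2Q⟩
noncomputable def cftl3Dd : ℕ := nat_lit 0xc3154bf62ba09f30646121a3850b0e24300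
noncomputable def cftl3D (u : ℕ) : ℕ := Nat.land (Nat.shiftRight cftl3Dd (Nat.mul u (nat_lit 7))) (nat_lit 127)
noncomputable def cftl3Pd : ℕ := nat_lit 0x885951c8e813d4e9d1a582ec6
noncomputable def cftl3P (u : ℕ) : ℕ := Nat.land (Nat.shiftRight cftl3Pd (Nat.mul u (nat_lit 5))) (nat_lit 31)
noncomputable def cftl3Qd : ℕ := nat_lit 0x6063ba63520b11240c680807ae40
noncomputable def cftl3Q (u : ℕ) : ℕ := Nat.land (Nat.shiftRight cftl3Qd (Nat.mul u (nat_lit 5))) (nat_lit 31)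
noncomputable def cftl3 : Lev := ⟨20, 7, cftl3D, cftl3P, cftl3Q⟩
noncomputable def cftl4Dd : ℕ := nat_lit 0xb50
noncomputable def cftl4D (u : ℕ) : ℕ := Nat.land (Nat.shiftRight cftl4Dd (Nat.mul u (nat_lit 4))) (nat_lit 15)
noncomputable def cftl4Pd : ℕ := nat_lit 0x442c
noncomputable def cftl4P (u : ℕ) : ℕ := Nat.land (Nat.shiftRight cftl4Pd (Nat.mul u (nat_lit 5))) (nat_lit 31)
noncomputable def cftl4Qd : ℕ := nat_lit 0x800000004
noncomputable def cftl4Q (u : ℕ) : ℕ := Nat.land (Nat.shiftRight cftl4Qd (Nat.mul u (nat_lit 2))) (nat_lit 3)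
noncomputable def cftl4 : Lev := ⟨3, 6, cftl4D, cftl4P, cftl4Q⟩
noncomputable def cftl5Dd : ℕ := nat_lit 0xeab85c75234e209143100080
noncomputable def cftl5D (u : ℕ) : ℕ := Nat.land (Nat.shiftRight cftl5Dd (Nat.mul u (nat_lit 6))) (nat_lit 63)
noncomputable def cftl5Pd : ℕ := nat_lit 0x5da8e9c0ad90eaf12147
noncomputable def cftl5P (u : ℕ) : ℕ := Nat.land (Nat.shiftRight cftl5Pd (Nat.mul u (nat_lit 5))) (nat_lit 31)
noncomputable def cftl5Qd : ℕ := nat_lit 0xe5db70a4c80f10200906300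
noncomputable def cftl5Q (u : ℕ) : ℕ := Nat.land (Nat.shiftRight cftl5Qd (Nat.mul u (nat_lit 4))) (nat_lit 15)
noncomputable def cftl5 : Lev := ⟨16, 5, cftl5D, cftl5P, cftl5Q⟩
noncomputable def cfce_W : List (List ℕ) := [[nat_lit 1, nat_lit 4, nat_lit 7],
  [nat_lit 1, nat_lit 4, nat_lit 7],
  [nat_lit 1, nat_lit 4, nat_lit 7],
  [nat_lit 1, nat_lit 4, nat_lit 7],
  [nat_lit 1, nat_lit 4, nat_lit 7],
  [nat_lit 1, nat_lit 4, nat_lit 6, nat_lit 3, nat_lit 6, nat_lit 7, nat_lit 6, nat_lit 3, nat_lit 6, nat_lit 5],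
  [nat_lit 7, nat_lit 0, nat_lit 5, nat_lit 6, nat_lit 5, nat_lit 8, nat_lit 6],
  [nat_lit 2, nat_lit 3, nat_lit 4, nat_lit 7],
  [nat_lit 11, nat_lit 6, nat_lit 1, nat_lit 7, nat_lit 6, nat_lit 3, nat_lit 6, nat_lit 5, nat_lit 8, nat_lit 7, nat_lit 6, nat_lit 4]]
noncomputable def cfce_P : ℕ → ℕ → ℕ := wdsP A0.P cfce_W
noncomputable def cfcc5Dd : ℕ := nat_lit 0xb500
noncomputable def cfcc5D (u : ℕ) : ℕ := Nat.land (Nat.shiftRight cfcc5Dd (Nat.mul u (nat_lit 4))) (nat_lit 15)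
noncomputable def cfcc5Pd : ℕ := nat_lit 0xb2d47
noncomputable def cfcc5P (u : ℕ) : ℕ := Nat.land (Nat.shiftRight cfcc5Pd (Nat.mul u (nat_lit 5))) (nat_lit 31)
noncomputable def cfcc5Qd : ℕ := nat_lit 0x300000900000
noncomputable def cfcc5Q (u : ℕ) : ℕ := Nat.land (Nat.shiftRight cfcc5Qd (Nat.mul u (nat_lit 2))) (nat_lit 3)
noncomputable def cfcc5 : Lev := ⟨4, 6, cfcc5D, cfcc5P, cfcc5Q⟩
noncomputable def cftn0Fd : ℕ := nat_lit 0x16b5c631318c108400
noncomputable def cftn0F (u : ℕ) : ℕ := Nat.land (Nat.shiftRight cftn0Fd (Nat.mul u (nat_lit 5))) (nat_lit 31)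
noncomputable def cftn0 : Nd := ⟨cftn0F, (nat_lit 6), (nat_lit 6), [[nat_lit 0]], [((nat_lit 0), []), ((nat_lit 1), [nat_lit 0])], []⟩
noncomputable def cfcc3Dd : ℕ := nat_lit 0x26c69cc0
noncomputable def cfcc3D (u : ℕ) : ℕ := Nat.land (Nat.shiftRight cfcc3Dd (Nat.mul u (nat_lit 5))) (nat_lit 31)
noncomputable def cfcc3Pd : ℕ := nat_lit 0x290622a6
noncomputable def cfcc3P (u : ℕ) : ℕ := Nat.land (Nat.shiftRight cfcc3Pd (Nat.mul u (nat_lit 5))) (nat_lit 31)
noncomputable def cfcc3Qd : ℕ := nat_lit 0xd004003002000000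
noncomputable def cfcc3Q (u : ℕ) : ℕ := Nat.land (Nat.shiftRight cfcc3Qd (Nat.mul u (nat_lit 3))) (nat_lit 7)
noncomputable def cfcc3 : Lev := ⟨6, 7, cfcc3D, cfcc3P, cfcc3Q⟩
noncomputable def cftn1Fd : ℕ := nat_lit 0xa6c00652609d187681c101c20
noncomputable def cftn1F (u : ℕ) : ℕ := Nat.land (Nat.shiftRight cftn1Fd (Nat.mul u (nat_lit 5))) (nat_lit 31)
noncomputable def cftn1 : Nd := ⟨cftn1F, (nat_lit 7), (nat_lit 7), [[nat_lit 0]], [((nat_lit 0), []), ((nat_lit 0), [nat_lit 0])], []⟩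
noncomputable def cfcc1Dd : ℕ := nat_lit 0x7eba4375e9939e2a8068e1e20380
noncomputable def cfcc1D (u : ℕ) : ℕ := Nat.land (Nat.shiftRight cfcc1Dd (Nat.mul u (nat_lit 7))) (nat_lit 127)
noncomputable def cfcc1Pd : ℕ := nat_lit 0x4ce95336085bed261d44
noncomputable def cfcc1P (u : ℕ) : ℕ := Nat.land (Nat.shiftRight cfcc1Pd (Nat.mul u (nat_lit 5))) (nat_lit 31)
noncomputable def cfcc1Qd : ℕ := nat_lit 0x5cde40960a371f82b000000
noncomputable def cfcc1Q (u : ℕ) : ℕ := Nat.land (Nat.shiftRight cfcc1Qd (Nat.mul u (nat_lit 4))) (nat_lit 15)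
noncomputable def cfcc1 : Lev := ⟨16, 8, cfcc1D, cfcc1P, cfcc1Q⟩
noncomputable def cftn2Fd : ℕ := nat_lit 0x2d5003cd00000400000002000000
noncomputable def cftn2F (u : ℕ) : ℕ := Nat.land (Nat.shiftRight cftn2Fd (Nat.mul u (nat_lit 5))) (nat_lit 31)
noncomputable def cftn2 : Nd := ⟨cftn2F, (nat_lit 8), (nat_lit 8), [[nat_lit 0]], [((nat_lit 0), [])], []⟩
noncomputable def cfcc0Dd : ℕ := nat_lit 0x80
noncomputable def cfcc0D (u : ℕ) : ℕ := Nat.land (Nat.shiftRight cfcc0Dd (Nat.mul u (nat_lit 4))) (nat_lit 15)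
noncomputable def cfcc0Pd : ℕ := nat_lit 0x2e0
noncomputable def cfcc0P (u : ℕ) : ℕ := Nat.land (Nat.shiftRight cfcc0Pd (Nat.mul u (nat_lit 5))) (nat_lit 31)
noncomputable def cfcc0Qd : ℕ := nat_lit 0x800000
noncomputable def cfcc0Q (u : ℕ) : ℕ := Nat.land (Nat.shiftRight cfcc0Qd (Nat.mul u (nat_lit 1))) (nat_lit 1)
noncomputable def cfcc0 : Lev := ⟨2, 9, cfcc0D, cfcc0P, cfcc0Q⟩
noncomputable def cftn3Fd : ℕ := nat_lit 0
noncomputable def cftn3F (u : ℕ) : ℕ := Nat.land (Nat.shiftRight cftn3Fd (Nat.mul u (nat_lit 1))) (nat_lit 1)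
noncomputable def cftn3 : Nd := ⟨cftn3F, (nat_lit 9), (nat_lit 9), [], [((nat_lit 0), [])], []⟩
/-- `X` acts on `V` as the word `W` -/
def muC (X W : List ℕ) : Prop := ltAll 11 W = 0 ∧ ∀ i < 11, eqH 10 0 (nth [] VW i ++ X) (X ++ vw (apW PX W (2 ^ i))) = 0
noncomputable instance (X W : List ℕ) : Decidable (muC X W) := inferInstanceAs (Decidable (_ ∧ _))
def XR : List ℕ := [3928, 2782]
def XA : List (List ℕ) := [[5], [3]]
noncomputable def fT : List ℕ := [nat_lit 0x7a17e172e76e6b86f86376775d95995565164c048044f40f3ae3ee3213612b72f72382781d61961591190cf08f0400007a17e172e76e6b86f86376775d95995565164c048044f40f3ae3ee3213612b72f72382781d61961591190cf08f04000003e03f03c03d03b03a03903803703603503403203303003102f02e02d02c02a02b02802902602702402502302202102001e01f01c01d01b01a01901801701601501401201301001100f00e00d00c00a00b008009006007004005003002001000, nat_lit 0x7897c870d74c68f6ce60b64a5bf5fe53b57a4b94f843d47c3f53b43713302f32b22772361c31821471060c50840410007897c870d74c68f6ce60b64a5bf5fe53b57a4b94f843d47c3f53b43713302f32b22772361c31821471060c508404100003e03f03c03d03a03b03803903703603503403303203103002e02f02c02d02a02b02802902702602502402302202102001e01f01c01d01a01b01801901701601501401301201101000e00f00c00d00a00b008009007006005004003002001000]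
def fC : List (List ℕ) := [[1, 2, 5, 9, 17, 32, 64, 143, 281, 632, 1039, 0], [1, 2, 4, 9, 16, 32, 65, 132, 262, 566, 1148, 0]]
noncomputable def fR (r a : ℕ) : ℕ := ht (nth (nat_lit 0) fT r) a
def W7 : List ℕ := [4, 2, 6, 7, 8, 3, 10, 9, 8, 0, 2]
def C7 : List ℕ := [23, 1217, 490, 1372, 1348, 27, 21, 849, 213, 1303, 1957, 0]
noncomputable def T7 : ℕ := nat_lit 0x1231362722671f61e32a72b24344217657704e14f47b07a56866935d75c26536465025173913840c00d53443510150001231362722671f61e32a72b24344217657704e14f47b07a56866935d75c26536465025173913840c00d534435101500053f5281fe1e94d54c20140030630744a24b518919e54855f07b06c4ba4ad1911865505475275301e61f14cd4da00c01b5245331e51f24ce4d900f01807806f4b94ae1921855535440600774a14b618a19d54b55c53c52b1fd1ea4d64c1017000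
def FB : List ℕ := [1, 2, 12, 20, 32, 64, 1152]
def FI : List ℕ := [1, 2, 0, 4, 8, 16, 32, 0, 0, 0, 64]
/-- the code of `x_r v_a` -/
noncomputable def xq (r a : ℕ) : ℕ := qf (nth (nat_lit 0) XR r) (vq a)
noncomputable def st7 (u i a : ℕ) : ℕ := Nat.rec (motive := fun _ => ℕ) a (fun _ b => force b fun b => Nat.xor u (ht T7 b)) i
noncomputable def zbd : List ℕ := [nat_lit 0x102200500a100000000000000000708e0000000000000000000000000000000000180304000000000000000000000000000000000000000000000000000000000000000000000000000000000000000000000000000000000000000000000000000000000000000000000000000000000000000000000000000000000000000000000000080104308600000000000000000010021000000000000000000000000000000000002000,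
  nat_lit 0xb1160204400a114024448000000000000000000000000000000000000000000000000000000000000000000000000000000000000000000000000000000000000000d11a0384700c11803c478000000000000000000000000000000000000000000000410801c4380510a0184300000000000000000000000000000000000000000000000000000000000000000000000000000000000000000000000000000000000000002104004408031060004000]
noncomputable def zb (k u : ℕ) : ℕ := Nat.land (Nat.shiftRight (nth (nat_lit 0) zbd k) (Nat.mul u (nat_lit 11))) (nat_lit 2047)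
noncomputable def wjd : List ℕ := [nat_lit 0x1001000040000000040000008008000040000000040000200040000001000000008000200040000008000000001000000000000000000000000000000000000000000000000000000000000000000000000000000000000000000000000000000000000000000000000000000000000000000000000000000000000000000000000000000000000000000000000000000000000000000000000000000000000000000000000000000000000000000000000000000000000000000000000000000000000000000000000000000000000000000000000000000000000000000000000000000000000000000000000000000000000000000000000000000000000000000000000000000000000000000000000000000000000000000000000000000000000000000000000000000000000000000000000000000000000000000000000000000000000000000000000000000000000000000000000000000000000000000000000000000000000000000000000000000000000000000000000000000000000000000000000000000000000000000000000000000000000000000000000000000000000000000000000000000d80036000000036036036036036d80000000000000d80d80000000000000d80036000db6000db6db6000000000,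
  nat_lit 0xd80036000000036036036036036d80000000000000d80d80000000000000d80036000db6000dbfdb6000000000]
noncomputable def wj (k u : ℕ) : ℕ := Nat.land (Nat.shiftRight (nth (nat_lit 0) wjd k) (Nat.mul u (nat_lit 3))) (nat_lit 7)
noncomputable def wbd0 : BT := (.node (.node (.leaf (nat_lit 0x183000c00006000000000000000c000060c000060000000000000000000000000000000000000000000000000000000000000000000000000000000000000000000000000000000000000000000000000000000c003000018006000000000000000c003000c0030000000000000000000000000000000000000000000000000000000000000000000000000000000000000000000000000000000000000000002400012240001200000000000000000000000000002400012004890000480122400900000000000000000000000000000000480120048012000000000000000000000000000000000000000000000000000000000018300001830000183000c0000600000000000000000000000000000000000000000000000000000000000000000000000000000000000000000000000000000000000000000c0030000180060018006001800600000000000000448800000000810000000000000000000810001122000091200000810000081244800000000000000000000000000000000c18000020400000000000000000000000000000000c18000000008100000000c19122000000002040814488306000000000000000000000))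 (.leaf (nat_lit 0x480000000000000000000480000000000004800000480000000000000000000009000000900000000000000120000000000000000000122400000000000000000000048000000000000480002400000000000000000000000900000001200000000000900000000000000000000012000000000180000000006000000000000060000000000000000180000000300000000000000000c0000000000000018000000000600000000c00000000000000000000000006000000000000060c00000000000000000000000300001800000000000c00000000000000000000000006000000000000060000006000000000180000000000000000000180000000000000030000003000000000001800000000000000000001800000000000c0000000180000000000000000600000000000000000030000000000c00000001800000000000000300000000000000000000006000000600000000000000001800000000000000006001800000000000000300000000000000000c00000000000000000060018000000000000000000c0000000000060000000001800000000000000000000030000000000c00000000000600000000c00000000000000000000000006))) (.node (.leaf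 (nat_lit 0x600000000c0000000000000018000000000000003000000000000000000180000000000000000600000000000006000000000180000c00000000000000000060000000000000600000000c0000000000000000000000030000000000c00000000000000180000000000000000600000001000000000000000000080000000100000000000000000008000000010000000000000000040000000001000000000000000004000000000002000000000000000400000000010000000000000000000800000000020000000000000000080000000100000000000000000400001800000000000c00000000000000000060000000000030000000000018000000000000180000000000000000600000000000006000000000000000c0000000000000018000000000000000060000000000030000000000c0000000000000c00000000000000000060000000000000600000000000400000000000000080000000000040000000000000008100000000000001000000000000010000000000000100000000000000020000000000010000000000000100000000000000020000000000000000000000008000000000000080000000000040000000000000400)) (.leaf (nat_lit 0x40000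000000000000000000800004000000000000000000000080000000000000800000080000000000000000004000000400000000000000000000400000040000000000000000000040000004000000000000040000000000000000000000800000080000000000000000004000c000000000000000000000000060c0000000000000000000000000600000060000000000000000180000000300000000000000000c000000000300000000000000000c000000000300000000000000000c000000c00000000000000000000000006001800000000000000000000030000000000000008100000000000000000000002000000004000000000000040000000000000000100000000200000000000000000000000080000000000000800200000000000000000000200000000008000000000000080000000000000010000001000000000000000000000000008000000000180000c000000000000000000000000060000300000000000000000000300000030000000000000000001800000180000000000000000600000000000000000000600180000000000000000000180000018000000000000000000c000000000300000000000000000000006))))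
noncomputable def wbd1 : BT := (.node (.node (.leaf (nat_lit 0x2040010000080000000000000010000081000008000000000000000000000000000000000000000000000000000000000000000000000000000000000000000000000000000000000000000000000000000000100040000200080000000000000010004001000400000000000000000000000000000000000000000000000000000000000000000000000000000000000000000000000000000000000000000004000020400002000000000000000000000000000004000020008100000800204001000000000000000000000000000000000800200080020000000000000000000000000000000000000000000000000000000000081000008100000810004000020000000000000000000000000000000000000000000000000000000000000000000000000000000000000000000000000000000000000000040010000080020008002000800200000000000000040800000001020000000000000000004080000102000008100000810000081020400000000000000000000000000000000204000020400000000000000000000000000000000204000000008100000000408408000000004080811020102000000000000000000000))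 (.leaf (nat_lit 0x80000000000000000000080000000000000800000080000000000000000000001000000100000000000000020000000000000000000020400000000000000000000008000000000000080000400000000000000000000000100000000200000000000100000000000000000000002000000000400000000010000000000000100000000000000000400000000800000000000000002000000000000000400000000010000000020000000000000000000000000100000000000001020000000000000000000000008000040000000000020000000000000000000000000100000000000000800000080000000002000000000000000000002000000000000000400000040000000000020000000000000000000020000000000010000000020000000000000000080000000000000000004000000000100000000200000000000000040000000000000000000000800000020000000000000000080000000000000000200080000000000000010000000000000000040000000000000000002000800000000000000000040000000000020000000000800000000000000000000010000000000400000000000200000000400000000000000000000000002))) (.node (.leaf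 (nat_lit 0x20000000040000000000000008000000000000001000000000000000000080000000000000000200000000000002000000000080000400000000000000000020000000000000200000000400000000000000000000000100000000004000000000000000800000000000000002000000080000000000000000004000000008000000000000000000400000000800000000000000002000000000080000000000000000200000000000100000000000000020000000000800000000000000000040000000001000000000000000004000000008000000000000000020000020000000000010000000000000000000800000000000400000000000200000000000002000000000000000008000000000000080000000000000010000000000000002000000000000000008000000000004000000000100000000000001000000000000000000080000000000000800000000000100000000000000020000000000010000000000000002040000000000000400000000000004000000000000040000000000000008000000000004000000000000040000000000000008000000000000000000000002000000000000020000000000010000000000000100)) (.leaf (nat_lit 0x40000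00000000000000000080000400000000000000000000008000000000000080000008000000000000000000400000040000000000000000000040000004000000000000000000004000000400000000000004000000000000000000000080000008000000000000000000400040000000000000000000000000204000000000000000000000000020000002000000000000000008000000010000000000000000040000000001000000000000000004000000000100000000000000000400000040000000000000000000000000200080000000000000000000001000000000000000204000000000000000000000080000000100000000000001000000000000000004000000008000000000000000000000002000000000000020008000000000000000000008000000000200000000000002000000000000000400000040000000000000000000000000200000000040000200000000000000000000000001000008000000000000000000008000000800000000000000000040000004000000000000000010000000000000000000010004000000000000000000004000000400000000000000000020000000000800000000000000000000010))))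
noncomputable def wbd : List BT := [wbd0, wbd1]
noncomputable def wb (k u : ℕ) : ℕ := force (Nat.shiftRight u (nat_lit 9)) fun j => Nat.land (Nat.shiftRight ((nth (BT.leaf (nat_lit 0)) wbd k).get j) (Nat.mul (Nat.land u (nat_lit 511)) (nat_lit 7))) (nat_lit 127)
def DL : List ℕ := [1, 2, 3, 20, 21, 22, 23, 28, 29, 30, 31, 42, 43, 44, 45, 50, 51, 54, 55, 80, 81, 94, 95, 104, 105, 108, 109, 122, 123, 124, 125, 129, 131, 140, 142, 209, 210, 220, 223, 264, 266, 268, 270, 272, 274, 277, 279, 296, 299, 301, 302, 304, 307, 308, 311, 393, 395, 397, 399, 409, 411, 412, 414, 488, 491, 492, 495, 505, 506, 508, 511, 517, 525, 532, 540, 547, 554, 562, 571, 579, 587, 595, 603, 613, 620, 629, 636, 644, 652, 663, 671, 676, 685, 695, 702, 704, 712, 722, 730, 736, 745, 754, 763, 775, 781, 790, 796, 807, 812, 822, 829, 839, 845, 855, 861, 871, 876, 887, 892, 902, 908, 917, 927, 928, 939, 947, 952, 964, 974, 982, 988, 994, 1001, 1008,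 1019, 1027, 1036, 1047, 1048, 1058, 1069, 1079, 1080, 1092, 1098, 1105, 1119, 1124, 1130, 1136, 1150, 1153, 1164, 1175, 1178, 1184, 1197, 1207, 1210, 1283, 1292, 1301, 1306, 1316, 1323, 1331, 1340, 1350, 1352, 1361, 1375, 1376, 1390, 1398, 1400, 1409, 1420, 1429, 1432, 1446, 1451, 1459, 1470, 1537, 1548, 1554, 1567, 1636, 1641, 1654, 1659, 1667, 1676, 1680, 1695, 1702, 1704, 1716, 1722, 1730, 1740, 1745, 1759, 1766, 1769, 1780, 1787, 1794, 1805, 1811, 1820, 1825, 1839, 1841, 1855, 1857, 1871, 1872, 1886, 1891, 1900, 1907, 1916, 1920, 1933, 1937, 1948, 2017, 2028, 2033, 2044]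
def CW : List (List ℕ) := [[3472], [1000], [3942], [2469], [4850], [4871], [11, 7, 3, 4, 6, 7, 6, 0, 8, 7, 6, 1, 0, 7, 9, 8070], [11, 1, 4, 6, 7, 8, 7, 6, 5, 1, 5137], [8, 3, 4, 6, 4, 2, 7, 6, 0, 1, 8, 3530], [8, 7, 6, 5, 7, 8, 7, 6, 5, 7, 10]]
def CS : List (List ℕ) := [[], [], [], [], [], [], [2], [1, 2, 3], [], []]
def CC : List (List (List ℕ)) := [[], [[0]], [[0], [1]], [[0], [1], [2]], [[0], [1], [2], [3]], [[0], [1], [2], [3], [4]], [[0], [1], [2], [0, 3], [1, 4], [2, 5]], [[0], [1], [0, 2], [0, 3], [0, 1, 4], [2, 3, 5], [1, 3, 6]], [[0], [1], [1, 2], [3], [1, 4], [2, 4, 5], [2, 4, 6], [1, 2, 4, 7]], [[0], [0, 1], [2], [3], [0, 3, 4], [5], [6], [3, 7], [0, 2, 3, 4, 6, 7, 8]]]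
def AW : List (List ℕ) := [[2, 3], [0, 2, 3], [1, 2, 3], [0, 1, 3], [5, 1, 5], [0, 2, 5], [6, 0, 6], [1, 2, 7], [0, 2, 5, 7, 6, 1, 2, 8, 1, 2, 6, 7], [], [], [3, 6, 0, 7, 6, 2, 8, 0, 1, 5, 10], [3, 6, 0, 7, 6, 2, 8, 0, 1, 5, 10]]

theorem sat_lt : allL (ltAll 11) sat_W = true := by decide +kernel
theorem sa_r_a : allZ2 (resEnt sat_P saP saE saI (nat_lit 24) (nat_lit 24)) (nat_lit 10) (nat_lit 24) = true := by decide +kernel
theorem sa_b : neL H15.MM24.B (saB.map saE) = 0 ∧ ltAll 24 saB = 0 := by decide +kernel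
theorem sa_p : allZ2 (pcEnt saP (nat_lit 2) saB saC) 10 10 = true := by decide +kernel
theorem sa_e : allL (ltAll 10) sae = true := by decide +kernel
theorem sal0_e_0 : allZ (dent sal0 (wdsP saP sae) (nat_lit 24)) (nat_lit 0) (nat_lit 15) = true := by decide +kernel
theorem sal0_h : 0 < sal0.n ∧ 0 < sal0.K ∧ sal0.Pt 0 < 24 ∧ sal0.Q (sal0.Pt 0) = 0 := by decide +kernel
theorem sal1_e_0 : allZ (dent sal1 (wdsP saP sae) (nat_lit 24)) (nat_lit 0) (nat_lit 1) = true := by decide +kernel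
theorem sal1_h : 0 < sal1.n ∧ 0 < sal1.K ∧ sal1.Pt 0 < 24 ∧ sal1.Q (sal1.Pt 0) = 0 := by decide +kernel
theorem sal2_e_0 : allZ (dent sal2 (wdsP saP sae) (nat_lit 24)) (nat_lit 0) (nat_lit 7) = true := by decide +kernel
theorem sal2_h : 0 < sal2.n ∧ 0 < sal2.K ∧ sal2.Pt 0 < 24 ∧ sal2.Q (sal2.Pt 0) = 0 := by decide +kernel
theorem sal3_e_0 : allZ (dent sal3 (wdsP saP sae) (nat_lit 24)) (nat_lit 0) (nat_lit 3) = true := by decide +kernel
theorem sal3_h : 0 < sal3.n ∧ 0 < sal3.K ∧ sal3.Pt 0 < 24 ∧ sal3.Q (sal3.Pt 0) = 0 := by decide +kernel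
theorem sa_f3 : (Nat.ble sal3.K 39 && Nat.ble (topK []) sal3.K && fixLetters (wdsP saP sae) (topK []) (sal3.Pt 0)) = true := by decide +kernel
theorem sa_f2 : (Nat.ble sal2.K 39 && Nat.ble (topK [sal3]) sal2.K && fixLetters (wdsP saP sae) (topK [sal3]) (sal2.Pt 0)) = true := by decide +kernel
theorem sa_f1 : (Nat.ble sal1.K 39 && Nat.ble (topK [sal2, sal3]) sal1.K && fixLetters (wdsP saP sae) (topK [sal2, sal3]) (sal1.Pt 0)) = true := by decide +kernel
theorem sa_f0 : (Nat.ble sal0.K 39 && Nat.ble (topK [sal1, sal2, sal3]) sal0.K && fixLetters (wdsP saP sae) (topK [sal1, sal2, sal3]) (sal0.Pt 0)) = true := by decide +kernel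
theorem sa_c : chainCard [sal0, sal1, sal2, sal3] = 2 ^ 10 ∧ ¬ 2 ^ (10 + 1) ∣ 244823040 := by decide +kernel
theorem svr_lt : allL (ltAll 11) svr_W = true := by decide +kernel
theorem sv_c0 : (Nat.ble 10 10 && Nat.beq (ltAll 10 []) 0 && Nat.beq (svT0.chk H15.MM24.P saP svr_P saE 11 10 2 2 2 saB 10 [] 0) 0) = true := by decide +kernel
theorem el_lt : allL (ltAll 11) el_W = true := by decide +kernel
theorem cex_lt : allL (ltAll 11) cex_W = true := by decide +kernel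
theorem ceth_lt : allL (ltAll 11) ceth_W = true := by decide +kernel
theorem cetl0_e_0 : allZ (dent cetl0 ceth_P (nat_lit 24)) (nat_lit 0) (nat_lit 23) = true := by decide +kernel
theorem cetl0_h : 0 < cetl0.n ∧ 0 < cetl0.K ∧ cetl0.Pt 0 < 24 ∧ cetl0.Q (cetl0.Pt 0) = 0 := by decide +kernel
theorem cetl1_e_0 : allZ (dent cetl1 ceth_P (nat_lit 24)) (nat_lit 0) (nat_lit 22) = true := by decide +kernel
theorem cetl1_h : 0 < cetl1.n ∧ 0 < cetl1.K ∧ cetl1.Pt 0 < 24 ∧ cetl1.Q (cetl1.Pt 0) = 0 := by decide +kernel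
theorem cetl2_e_0 : allZ (dent cetl2 ceth_P (nat_lit 24)) (nat_lit 0) (nat_lit 21) = true := by decide +kernel
theorem cetl2_h : 0 < cetl2.n ∧ 0 < cetl2.K ∧ cetl2.Pt 0 < 24 ∧ cetl2.Q (cetl2.Pt 0) = 0 := by decide +kernel
theorem cetl3_e_0 : allZ (dent cetl3 ceth_P (nat_lit 24)) (nat_lit 0) (nat_lit 20) = true := by decide +kernel
theorem cetl3_h : 0 < cetl3.n ∧ 0 < cetl3.K ∧ cetl3.Pt 0 < 24 ∧ cetl3.Q (cetl3.Pt 0) = 0 := by decide +kernel
theorem cetl4_e_0 : allZ (dent cetl4 ceth_P (nat_lit 24)) (nat_lit 0) (nat_lit 19) = true := by decide +kernel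
theorem cetl4_h : 0 < cetl4.n ∧ 0 < cetl4.K ∧ cetl4.Pt 0 < 24 ∧ cetl4.Q (cetl4.Pt 0) = 0 := by decide +kernel
theorem cetl5_e_0 : allZ (dent cetl5 ceth_P (nat_lit 24)) (nat_lit 0) (nat_lit 15) = true := by decide +kernel
theorem cetl5_h : 0 < cetl5.n ∧ 0 < cetl5.K ∧ cetl5.Pt 0 < 24 ∧ cetl5.Q (cetl5.Pt 0) = 0 := by decide +kernel
theorem cetl6_e_0 : allZ (dent cetl6 ceth_P (nat_lit 24)) (nat_lit 0) (nat_lit 2) = true := by decide +kernel
theorem cetl6_h : 0 < cetl6.n ∧ 0 < cetl6.K ∧ cetl6.Pt 0 < 24 ∧ cetl6.Q (cetl6.Pt 0) = 0 := by decide +kernel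
theorem cet_f6 : (Nat.ble cetl6.K 15 && Nat.ble (topK []) cetl6.K && fixLetters ceth_P (topK []) (cetl6.Pt 0)) = true := by decide +kernel
theorem cet_f5 : (Nat.ble cetl5.K 15 && Nat.ble (topK [cetl6]) cetl5.K && fixLetters ceth_P (topK [cetl6]) (cetl5.Pt 0)) = true := by decide +kernel
theorem cet_f4 : (Nat.ble cetl4.K 15 && Nat.ble (topK [cetl5, cetl6]) cetl4.K && fixLetters ceth_P (topK [cetl5, cetl6]) (cetl4.Pt 0)) = true := by decide +kernel
theorem cet_f3 : (Nat.ble cetl3.K 15 && Nat.ble (topK [cetl4, cetl5, cetl6]) cetl3.K && fixLetters ceth_P (topK [cetl4, cetl5, cetl6]) (cetl3.Pt 0)) = true := by decide +kernel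
theorem cet_f2 : (Nat.ble cetl2.K 15 && Nat.ble (topK [cetl3, cetl4, cetl5, cetl6]) cetl2.K && fixLetters ceth_P (topK [cetl3, cetl4, cetl5, cetl6]) (cetl2.Pt 0)) = true := by decide +kernel
theorem cet_f1 : (Nat.ble cetl1.K 15 && Nat.ble (topK [cetl2, cetl3, cetl4, cetl5, cetl6]) cetl1.K && fixLetters ceth_P (topK [cetl2, cetl3, cetl4, cetl5, cetl6]) (cetl1.Pt 0)) = true := by decide +kernel
theorem cet_f0 : (Nat.ble cetl0.K 15 && Nat.ble (topK [cetl1, cetl2, cetl3, cetl4, cetl5, cetl6]) cetl0.K && fixLetters ceth_P (topK [cetl1, cetl2, cetl3, cetl4, cetl5, cetl6]) (cetl0.Pt 0)) = true := by decide +kernel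
theorem cet_c : chainCard [cetl0, cetl1, cetl2, cetl3, cetl4, cetl5, cetl6] = 244823040 := by decide +kernel
theorem cece_lt : allL (ltAll 11) cece_W = true := by decide +kernel
theorem cec_f6 : (Nat.ble cetl6.K 15 && Nat.blt (nat_lit 0) 24 && fixLetters ceth_P cetl6.K (nat_lit 0) && Nat.beq (ltAll 1 [nat_lit 0, nat_lit 0, nat_lit 0, nat_lit 0, nat_lit 0, nat_lit 0]) 0 && Nat.beq (apW cex_P [nat_lit 0, nat_lit 0, nat_lit 0, nat_lit 0, nat_lit 0, nat_lit 0] (nat_lit 0)) (cetl6.Pt 0)) = true := by decide +kernel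
theorem cec_f5 : (Nat.ble cetl5.K 15 && Nat.blt (nat_lit 0) 24 && fixLetters ceth_P cetl5.K (nat_lit 0) && Nat.beq (ltAll 1 [nat_lit 0, nat_lit 0, nat_lit 0, nat_lit 0, nat_lit 0]) 0 && Nat.beq (apW cex_P [nat_lit 0, nat_lit 0, nat_lit 0, nat_lit 0, nat_lit 0] (nat_lit 0)) (cetl5.Pt 0)) = true := by decide +kernel
theorem cec_f4 : (Nat.ble cetl4.K 15 && Nat.blt (nat_lit 0) 24 && fixLetters ceth_P cetl4.K (nat_lit 0) && Nat.beq (ltAll 1 [nat_lit 0, nat_lit 0, nat_lit 0, nat_lit 0]) 0 && Nat.beq (apW cex_P [nat_lit 0, nat_lit 0, nat_lit 0, nat_lit 0] (nat_lit 0)) (cetl4.Pt 0)) = true := by decide +kernel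
theorem cec_f3 : (Nat.ble cetl3.K 15 && Nat.blt (nat_lit 0) 24 && fixLetters ceth_P cetl3.K (nat_lit 0) && Nat.beq (ltAll 1 [nat_lit 0, nat_lit 0, nat_lit 0]) 0 && Nat.beq (apW cex_P [nat_lit 0, nat_lit 0, nat_lit 0] (nat_lit 0)) (cetl3.Pt 0)) = true := by decide +kernel
theorem cec_f2 : (Nat.ble cetl2.K 15 && Nat.blt (nat_lit 0) 24 && fixLetters ceth_P cetl2.K (nat_lit 0) && Nat.beq (ltAll 1 [nat_lit 0, nat_lit 0]) 0 && Nat.beq (apW cex_P [nat_lit 0, nat_lit 0] (nat_lit 0)) (cetl2.Pt 0)) = true := by decide +kernel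
theorem cec_f1 : (Nat.ble cetl1.K 15 && Nat.blt (nat_lit 0) 24 && fixLetters ceth_P cetl1.K (nat_lit 0) && Nat.beq (ltAll 1 [nat_lit 0]) 0 && Nat.beq (apW cex_P [nat_lit 0] (nat_lit 0)) (cetl1.Pt 0)) = true := by decide +kernel
theorem cecc0_e_0 : allZ (dent cecc0 cece_P (nat_lit 24)) (nat_lit 0) (nat_lit 10) = true := by decide +kernel
theorem cecc0_h : 0 < cecc0.n ∧ 0 < cecc0.K ∧ cecc0.Pt 0 < 24 ∧ cecc0.Q (cecc0.Pt 0) = 0 := by decide +kernel
theorem cetn0_0 : (Nat.ble cetl0.K 15 && Nat.beq (ltAll 24 []) 0 && kChk cece_P cex_P cetn0.Kn 1 H15.MM24.B [] && allL (ltAll 1) cetn0.pre && planOK ceth_P cex_P 1 (cetl0.Pt 0) cetn0.plan [cetl0, cetl1, cetl2, cetl3, cetl4, cetl5, cetl6]) = true := by decide +kernel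
theorem cetn0_1_0 : allZ (cetn0.ent H15.MM24.P ceth_P cex_P cex_P cece_P (nat_lit 11) (nat_lit 1) H15.MM24.B cetl0 [cetl1, cetl2, cetl3, cetl4, cetl5, cetl6] (memO cecc0)) (nat_lit 0) (nat_lit 24) = true := by decide +kernel
theorem cec_f0 : (Nat.ble cecc0.K 1 && Nat.ble (topK []) cecc0.K && Nat.beq (cecc0.Pt 0) (cetl0.Pt 0) && Nat.beq (ltAll 24 []) 0 && kChk cece_P cex_P cecc0.K 1 H15.MM24.B []) = true := by decide +kernel
theorem cec_c : chainCard [cecc0] = 11 ∧ topK [cecc0] = 1 := by decide +kernel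
theorem ia_lt : allL (ltAll 13) ia_W = true := by decide +kernel
theorem cfx_lt : allL (ltAll 13) cfx_W = true := by decide +kernel
theorem cfth_lt : allL (ltAll 13) cfth_W = true := by decide +kernel
theorem cftl0_e_0 : allZ (dent cftl0 cfth_P (nat_lit 24)) (nat_lit 0) (nat_lit 1) = true := by decide +kernel
theorem cftl0_h : 0 < cftl0.n ∧ 0 < cftl0.K ∧ cftl0.Pt 0 < 24 ∧ cftl0.Q (cftl0.Pt 0) = 0 := by decide +kernel
theorem cftl1_e_0 : allZ (dent cftl1 cfth_P (nat_lit 24)) (nat_lit 0) (nat_lit 21) = true := by decide +kernel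
theorem cftl1_h : 0 < cftl1.n ∧ 0 < cftl1.K ∧ cftl1.Pt 0 < 24 ∧ cftl1.Q (cftl1.Pt 0) = 0 := by decide +kernel
theorem cftl2_e_0 : allZ (dent cftl2 cfth_P (nat_lit 24)) (nat_lit 0) (nat_lit 20) = true := by decide +kernel
theorem cftl2_h : 0 < cftl2.n ∧ 0 < cftl2.K ∧ cftl2.Pt 0 < 24 ∧ cftl2.Q (cftl2.Pt 0) = 0 := by decide +kernel
theorem cftl3_e_0 : allZ (dent cftl3 cfth_P (nat_lit 24)) (nat_lit 0) (nat_lit 19) = true := by decide +kernel
theorem cftl3_h : 0 < cftl3.n ∧ 0 < cftl3.K ∧ cftl3.Pt 0 < 24 ∧ cftl3.Q (cftl3.Pt 0) = 0 := by decide +kernel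
theorem cftl4_e_0 : allZ (dent cftl4 cfth_P (nat_lit 24)) (nat_lit 0) (nat_lit 2) = true := by decide +kernel
theorem cftl4_h : 0 < cftl4.n ∧ 0 < cftl4.K ∧ cftl4.Pt 0 < 24 ∧ cftl4.Q (cftl4.Pt 0) = 0 := by decide +kernel
theorem cftl5_e_0 : allZ (dent cftl5 cfth_P (nat_lit 24)) (nat_lit 0) (nat_lit 15) = true := by decide +kernel
theorem cftl5_h : 0 < cftl5.n ∧ 0 < cftl5.K ∧ cftl5.Pt 0 < 24 ∧ cftl5.Q (cftl5.Pt 0) = 0 := by decide +kernel
theorem cft_f5 : (Nat.ble cftl5.K 19 && Nat.ble (topK []) cftl5.K && fixLetters cfth_P (topK []) (cftl5.Pt 0)) = true := by decide +kernel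
theorem cft_f4 : (Nat.ble cftl4.K 19 && Nat.ble (topK [cftl5]) cftl4.K && fixLetters cfth_P (topK [cftl5]) (cftl4.Pt 0)) = true := by decide +kernel
theorem cft_f3 : (Nat.ble cftl3.K 19 && Nat.ble (topK [cftl4, cftl5]) cftl3.K && fixLetters cfth_P (topK [cftl4, cftl5]) (cftl3.Pt 0)) = true := by decide +kernel
theorem cft_f2 : (Nat.ble cftl2.K 19 && Nat.ble (topK [cftl3, cftl4, cftl5]) cftl2.K && fixLetters cfth_P (topK [cftl3, cftl4, cftl5]) (cftl2.Pt 0)) = true := by decide +kernel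
theorem cft_f1 : (Nat.ble cftl1.K 19 && Nat.ble (topK [cftl2, cftl3, cftl4, cftl5]) cftl1.K && fixLetters cfth_P (topK [cftl2, cftl3, cftl4, cftl5]) (cftl1.Pt 0)) = true := by decide +kernel
theorem cft_f0 : (Nat.ble cftl0.K 19 && Nat.ble (topK [cftl1, cftl2, cftl3, cftl4, cftl5]) cftl0.K && fixLetters cfth_P (topK [cftl1, cftl2, cftl3, cftl4, cftl5]) (cftl0.Pt 0)) = true := by decide +kernel
theorem cft_c : chainCard [cftl0, cftl1, cftl2, cftl3, cftl4, cftl5] = 887040 := by decide +kernel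
theorem cfce_lt : allL (ltAll 13) cfce_W = true := by decide +kernel
theorem cfcc5_e_0 : allZ (dent cfcc5 cfce_P (nat_lit 24)) (nat_lit 0) (nat_lit 3) = true := by decide +kernel
theorem cfcc5_h : 0 < cfcc5.n ∧ 0 < cfcc5.K ∧ cfcc5.Pt 0 < 24 ∧ cfcc5.Q (cfcc5.Pt 0) = 0 := by decide +kernel
theorem cftn0_0 : (Nat.ble cftl5.K 19 && Nat.beq (ltAll 24 [cftl4.Pt 0, cftl3.Pt 0, cftl2.Pt 0, cftl1.Pt 0, cftl0.Pt 0]) 0 && kChk cfce_P cfx_P cftn0.Kn 1 A0.B [cftl4.Pt 0, cftl3.Pt 0, cftl2.Pt 0, cftl1.Pt 0, cftl0.Pt 0] && allL (ltAll 1) cftn0.pre && planOK cfth_P cfx_P 1 (cftl5.Pt 0) cftn0.plan [cftl5]) = true := by decide +kernel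
theorem cftn0_1_0 : allZ (cftn0.ent A0.P cfth_P cfx_P cfx_P cfce_P (nat_lit 13) (nat_lit 1) A0.B cftl5 [] (memO cfcc5)) (nat_lit 0) (nat_lit 16) = true := by decide +kernel
theorem cfc_f5 : (Nat.ble cfcc5.K 9 && Nat.ble (topK []) cfcc5.K && Nat.beq (cfcc5.Pt 0) (cftl5.Pt 0) && Nat.beq (ltAll 24 [cftl4.Pt 0, cftl3.Pt 0, cftl2.Pt 0, cftl1.Pt 0, cftl0.Pt 0]) 0 && kChk cfce_P cfx_P cfcc5.K 1 A0.B [cftl4.Pt 0, cftl3.Pt 0, cftl2.Pt 0, cftl1.Pt 0, cftl0.Pt 0]) = true := by decide +kernel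
theorem cfc_f4 : (Nat.ble cftl4.K 19 && Nat.blt (nat_lit 6) 24 && fixLetters cfth_P cftl4.K (nat_lit 6) && Nat.beq (ltAll 1 [nat_lit 0]) 0 && Nat.beq (apW cfx_P [nat_lit 0] (nat_lit 6)) (cftl4.Pt 0)) = true := by decide +kernel
theorem cfcc3_e_0 : allZ (dent cfcc3 cfce_P (nat_lit 24)) (nat_lit 0) (nat_lit 5) = true := by decide +kernel
theorem cfcc3_h : 0 < cfcc3.n ∧ 0 < cfcc3.K ∧ cfcc3.Pt 0 < 24 ∧ cfcc3.Q (cfcc3.Pt 0) = 0 := by decide +kernel
theorem cftn1_0 : (Nat.ble cftl3.K 19 && Nat.beq (ltAll 24 [cftl2.Pt 0, cftl1.Pt 0, cftl0.Pt 0]) 0 && kChk cfce_P cfx_P cftn1.Kn 1 A0.B [cftl2.Pt 0, cftl1.Pt 0, cftl0.Pt 0] && allL (ltAll 1) cftn1.pre && planOK cfth_P cfx_P 1 (cftl3.Pt 0) cftn1.plan [cftl3, cftl4, cftl5]) = true := by decide +kernel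
theorem cftn1_1_0 : allZ (cftn1.ent A0.P cfth_P cfx_P cfx_P cfce_P (nat_lit 13) (nat_lit 1) A0.B cftl3 [cftl4, cftl5] (memO cfcc3)) (nat_lit 0) (nat_lit 20) = true := by decide +kernel
theorem cfc_f3 : (Nat.ble cfcc3.K 9 && Nat.ble (topK [cfcc5]) cfcc3.K && Nat.beq (cfcc3.Pt 0) (cftl3.Pt 0) && Nat.beq (ltAll 24 [cftl2.Pt 0, cftl1.Pt 0, cftl0.Pt 0]) 0 && kChk cfce_P cfx_P cfcc3.K 1 A0.B [cftl2.Pt 0, cftl1.Pt 0, cftl0.Pt 0]) = true := by decide +kernel
theorem cfc_f2 : (Nat.ble cftl2.K 19 && Nat.blt (nat_lit 4) 24 && fixLetters cfth_P cftl2.K (nat_lit 4) && Nat.beq (ltAll 1 [nat_lit 0]) 0 && Nat.beq (apW cfx_P [nat_lit 0] (nat_lit 4)) (cftl2.Pt 0)) = true := by decide +kernel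
theorem cfcc1_e_0 : allZ (dent cfcc1 cfce_P (nat_lit 24)) (nat_lit 0) (nat_lit 15) = true := by decide +kernel
theorem cfcc1_h : 0 < cfcc1.n ∧ 0 < cfcc1.K ∧ cfcc1.Pt 0 < 24 ∧ cfcc1.Q (cfcc1.Pt 0) = 0 := by decide +kernel
theorem cftn2_0 : (Nat.ble cftl1.K 19 && Nat.beq (ltAll 24 [cftl0.Pt 0]) 0 && kChk cfce_P cfx_P cftn2.Kn 1 A0.B [cftl0.Pt 0] && allL (ltAll 1) cftn2.pre && planOK cfth_P cfx_P 1 (cftl1.Pt 0) cftn2.plan [cftl1, cftl2, cftl3, cftl4, cftl5]) = true := by decide +kernel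
theorem cftn2_1_0 : allZ (cftn2.ent A0.P cfth_P cfx_P cfx_P cfce_P (nat_lit 13) (nat_lit 1) A0.B cftl1 [cftl2, cftl3, cftl4, cftl5] (memO cfcc1)) (nat_lit 0) (nat_lit 22) = true := by decide +kernel
theorem cfc_f1 : (Nat.ble cfcc1.K 9 && Nat.ble (topK [cfcc3, cfcc5]) cfcc1.K && Nat.beq (cfcc1.Pt 0) (cftl1.Pt 0) && Nat.beq (ltAll 24 [cftl0.Pt 0]) 0 && kChk cfce_P cfx_P cfcc1.K 1 A0.B [cftl0.Pt 0]) = true := by decide +kernel
theorem cfcc0_e_0 : allZ (dent cfcc0 cfce_P (nat_lit 24)) (nat_lit 0) (nat_lit 1) = true := by decide +kernel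
theorem cfcc0_h : 0 < cfcc0.n ∧ 0 < cfcc0.K ∧ cfcc0.Pt 0 < 24 ∧ cfcc0.Q (cfcc0.Pt 0) = 0 := by decide +kernel
theorem cftn3_0 : (Nat.ble cftl0.K 19 && Nat.beq (ltAll 24 []) 0 && kChk cfce_P cfx_P cftn3.Kn 1 A0.B [] && allL (ltAll 1) cftn3.pre && planOK cfth_P cfx_P 1 (cftl0.Pt 0) cftn3.plan [cftl0, cftl1, cftl2, cftl3, cftl4, cftl5]) = true := by decide +kernel
theorem cftn3_1_0 : allZ (cftn3.ent A0.P cfth_P cfx_P cfx_P cfce_P (nat_lit 13) (nat_lit 1) A0.B cftl0 [cftl1, cftl2, cftl3, cftl4, cftl5] (memO cfcc0)) (nat_lit 0) (nat_lit 2) = true := by decide +kernel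
theorem cfc_f0 : (Nat.ble cfcc0.K 9 && Nat.ble (topK [cfcc1, cfcc3, cfcc5]) cfcc0.K && Nat.beq (cfcc0.Pt 0) (cftl0.Pt 0) && Nat.beq (ltAll 24 []) 0 && kChk cfce_P cfx_P cfcc0.K 1 A0.B []) = true := by decide +kernel
theorem cfc_c : chainCard [cfcc0, cfcc1, cfcc3, cfcc5] = 768 ∧ topK [cfcc0, cfcc1, cfcc3, cfcc5] = 9 := by decide +kernel
theorem XR_ok : ∀ r < 2, nth 0 XR r < 8192 ∧ muC [13 + nth 0 XR r] (nth [] svr_W r) ∧ ltAll 8205 (nth [] XA r) = 0 ∧ apW PD (nth [] XA r) 1 = nth 0 XR r := by decide +kernel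
theorem fC_ok : ∀ r < 2, htChk (nth 0 fT r) (nth [] fC r) = true ∧ ∀ i < 11, apW PX (nth [] svr_W r) (2 ^ i) = linL (nth [] fC r) (2 ^ i) := by decide +kernel
theorem W7_ok : eqL H15.MM24.P 11 H15.MM24.B (nth [] svr_W 0 ++ W7) (W7 ++ nth [] svr_W 0) = 0 ∧ htChk T7 C7 = true ∧ ∀ i < 11, apW PX W7 (2 ^ i) = linL C7 (2 ^ i) := by decide +kernel
theorem fix_ok : ∀ a < 2048, (fR 0 a = a → linL FI a < 128 ∧ linL FB (linL FI a) = a) ∧ (fR 1 a = a → a < 128) := by decide +kernel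
theorem st7_ok : ∀ j < 128, ∀ u ∈ [linL FB j], (∃ a < 128, clq (xq 0 a) = 1 ∧ ∃ i < 7, st7 u i a < 128 ∧ clq (xq 0 (st7 u i a)) = 2) ∨ ∀ k < 128, ∃ i < 7, st7 u i (linL FB k) < 128 := by decide +kernel
theorem zb_ok : ∀ r < 2, ∀ a < 128, fR r a = a → clq (xq r a) = 2 ∨ (clq (xq r a) = 1 ∧ zb r a < 2048 ∧ zb r a ^^^ fR r (zb r a) = a) := by decide +kernel
theorem sc_ok : ∀ r < 2, ∀ a < 2048, tyV a = 2 → wj r a < 12 ∧ wb r a < 8192 ∧ PD (13 + nth 0 XR r) (wb r a) = wb r a ∧ ∀ Y ∈ [wcj (nth [] XA r) (nth [] YY (wj r a))], apW PD (vw a ++ Y) (wb r a) ≠ apW PD (Y ++ vw a) (wb r a) := by decide +kernel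
theorem DL_ok : DL.length = 231 ∧ (∀ a < 2048, tyV a = 1 → tyV (a ^^^ 12) = 2 → a ∈ DL) ∧ ∀ a ∈ DL, ∀ b ∈ DL, a = b ∨ tyV (a ^^^ b) = 1 ∨ tyV (a ^^^ b ^^^ 12) = 1 := by decide +kernel
theorem ty_ok : ∀ a < 2048, (tyV a = 0 → a = 0) ∧ tyV a < 3 := by decide +kernel
theorem CW_lt : allL (ltAll 8205) CW = true := by decide +kernel
theorem CW_mu : ∀ k < 10, muC (nth [] CW k) (nth [] sat_W k) := by decide +kernel
theorem CW_ok : ∀ k < 10, ltAll k (nth [] CS k) = 0 ∧ eqH 10 0 (H0.PM.flat CW [k, k]) (H0.PM.flat CW (nth [] CS k)) = 0 ∧ ∀ j < k, ∀ U ∈ [nth [] (nth [] CC k) j], ltAll k U = 0 ∧ eqH 10 0 (H0.PM.flat CW [j, k]) (H0.PM.flat CW (k :: U)) = 0 := by decide +kernel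
theorem AW_ok : tyV 1250 = 2 ∧ ∀ k < 13, ltAll 11 (nth [] AW k) = 0 ∧ apW PX (nth [] AW k) 1250 = 1250 ∧ ∀ i < 24, apW H15.MM24.P (nth [] AW k) i = A0.P k i := by decide +kernel

theorem sat_act {G Ω : Type*} [Group G] [MulAction G Ω] {g : ℕ → G} {pt : ℕ → Ω}
    (M : Md g pt H15.MM24.P 24 11 H15.MM24.B 244823040) : Act (wds g sat_W) pt sat_P 24 10 :=
  M.wact sat_lt
theorem sa_r : ∀ k < 10, ∀ i < 24, (resEnt sat_P saP saE saI (nat_lit 24) (nat_lit 24)) k i = 0 := allZ2_sound sa_r_a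
theorem sa_sm {G Ω : Type*} [Group G] [MulAction G Ω] {g : ℕ → G} {pt : ℕ → Ω}
    (M : Md g pt H15.MM24.P 24 11 H15.MM24.B 244823040) : Sm (wds g sat_W) (fun i => pt (saE i)) saP 24 10 saB ∧ ∀ i < 24, saE i < 24 :=
  M.res (sat_act M) (by decide) sa_r sa_b
theorem sal0_e : ∀ i < 15, (dent sal0 (wdsP saP sae) (nat_lit 24)) i = 0 := allZ_sound0 sal0_e_0
theorem sal0_ok : DOK sal0 (wdsP saP sae) 24 := ⟨sal0_h, sal0_e⟩
theorem sal1_e : ∀ i < 1, (dent sal1 (wdsP saP sae) (nat_lit 24)) i = 0 := allZ_sound0 sal1_e_0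
theorem sal1_ok : DOK sal1 (wdsP saP sae) 24 := ⟨sal1_h, sal1_e⟩
theorem sal2_e : ∀ i < 7, (dent sal2 (wdsP saP sae) (nat_lit 24)) i = 0 := allZ_sound0 sal2_e_0
theorem sal2_ok : DOK sal2 (wdsP saP sae) 24 := ⟨sal2_h, sal2_e⟩
theorem sal3_e : ∀ i < 3, (dent sal3 (wdsP saP sae) (nat_lit 24)) i = 0 := allZ_sound0 sal3_e_0
theorem sal3_ok : DOK sal3 (wdsP saP sae) 24 := ⟨sal3_h, sal3_e⟩
theorem sa_low {G Ω : Type*} [Group G] [MulAction G Ω] {g : ℕ → G} {pt : ℕ → Ω}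
    (M : Md g pt H15.MM24.P 24 11 H15.MM24.B 244823040) : SLow (gi (wds (wds g sat_W) sae)) (fun i => pt (saE i)) 24 [sal0, sal1, sal2, sal3] :=
  ((((SLow.nil).cons sal3_ok ((sa_sm M).1.act.wds sa_e 39) sa_f3).cons sal2_ok ((sa_sm M).1.act.wds sa_e 39) sa_f2).cons sal1_ok ((sa_sm M).1.act.wds sa_e 39) sa_f1).cons sal0_ok ((sa_sm M).1.act.wds sa_e 39) sa_f0
theorem sa_pc {G Ω : Type*} [Group G] [MulAction G Ω] {g : ℕ → G} {pt : ℕ → Ω}
    (M : Md g pt H15.MM24.P 24 11 H15.MM24.B 244823040) : H0.TR.PC (wds g sat_W) 10 2 :=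
  have := M.fin
  ((sa_sm M).1.pc0 (by decide) sa_p).pc (sa_low M) (sa_sm M).1.inj
    (fun k => evA_mem_gen _ (nth_lt sa_e k)) M.card ⟨by decide, sa_c⟩
theorem svr_act {G Ω : Type*} [Group G] [MulAction G Ω] {g : ℕ → G} {pt : ℕ → Ω}
    (M : Md g pt H15.MM24.P 24 11 H15.MM24.B 244823040) : Act (wds g svr_W) pt svr_P 24 2 :=
  M.wact svr_lt
theorem sv_0 {G Ω : Type*} [Group G] [MulAction G Ω] {g : ℕ → G} {pt : ℕ → Ω}
    (M : Md g pt H15.MM24.P 24 11 H15.MM24.B 244823040) : Cov (wds g sat_W) (wds g svr_W) 2 2 10 (evA (wds g sat_W) []) :=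
  have := M.fin
  svT0.cov M (sa_sm M).1 (sa_sm M).2 (svr_act M) (sa_pc M) _ _ sv_c0
theorem sv {G Ω : Type*} [Group G] [MulAction G Ω] {g : ℕ → G} {pt : ℕ → Ω}
    (M : Md g pt H15.MM24.P 24 11 H15.MM24.B 244823040) {y : G} {e : ℕ} (hy : y ^ 2 ^ e = 1) (hq : y ^ 2 = 1) : Good (wds g svr_W) 2 y :=
  have := M.fin
  Cov.all (sa_pc M) (sv_0 M) hy hq
theorem el_act {G Ω : Type*} [Group G] [MulAction G Ω] {g : ℕ → G} {pt : ℕ → Ω}
    (M : Md g pt H15.MM24.P 24 11 H15.MM24.B 244823040) : Act (wds g el_W) pt el_P 24 1 :=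
  M.wact el_lt
theorem cex_act {G Ω : Type*} [Group G] [MulAction G Ω] {g : ℕ → G} {pt : ℕ → Ω}
    (M : Md g pt H15.MM24.P 24 11 H15.MM24.B 244823040) : Act (wds g cex_W) pt cex_P 24 1 :=
  M.wact cex_lt
theorem ceth_act {G Ω : Type*} [Group G] [MulAction G Ω] {g : ℕ → G} {pt : ℕ → Ω}
    (M : Md g pt H15.MM24.P 24 11 H15.MM24.B 244823040) : Act (wds g ceth_W) pt ceth_P 24 15 :=
  M.wact ceth_lt
theorem cetl0_e : ∀ i < 23, (dent cetl0 ceth_P (nat_lit 24)) i = 0 := allZ_sound0 cetl0_e_0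
theorem cetl0_ok : DOK cetl0 ceth_P 24 := ⟨cetl0_h, cetl0_e⟩
theorem cetl1_e : ∀ i < 22, (dent cetl1 ceth_P (nat_lit 24)) i = 0 := allZ_sound0 cetl1_e_0
theorem cetl1_ok : DOK cetl1 ceth_P 24 := ⟨cetl1_h, cetl1_e⟩
theorem cetl2_e : ∀ i < 21, (dent cetl2 ceth_P (nat_lit 24)) i = 0 := allZ_sound0 cetl2_e_0
theorem cetl2_ok : DOK cetl2 ceth_P 24 := ⟨cetl2_h, cetl2_e⟩
theorem cetl3_e : ∀ i < 20, (dent cetl3 ceth_P (nat_lit 24)) i = 0 := allZ_sound0 cetl3_e_0
theorem cetl3_ok : DOK cetl3 ceth_P 24 := ⟨cetl3_h, cetl3_e⟩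
theorem cetl4_e : ∀ i < 19, (dent cetl4 ceth_P (nat_lit 24)) i = 0 := allZ_sound0 cetl4_e_0
theorem cetl4_ok : DOK cetl4 ceth_P 24 := ⟨cetl4_h, cetl4_e⟩
theorem cetl5_e : ∀ i < 15, (dent cetl5 ceth_P (nat_lit 24)) i = 0 := allZ_sound0 cetl5_e_0
theorem cetl5_ok : DOK cetl5 ceth_P 24 := ⟨cetl5_h, cetl5_e⟩
theorem cetl6_e : ∀ i < 2, (dent cetl6 ceth_P (nat_lit 24)) i = 0 := allZ_sound0 cetl6_e_0
theorem cetl6_ok : DOK cetl6 ceth_P 24 := ⟨cetl6_h, cetl6_e⟩
theorem cet_low {G Ω : Type*} [Group G] [MulAction G Ω] {g : ℕ → G} {pt : ℕ → Ω}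
    (M : Md g pt H15.MM24.P 24 11 H15.MM24.B 244823040) : SLow (gi (wds g ceth_W)) pt 24 [cetl0, cetl1, cetl2, cetl3, cetl4, cetl5, cetl6] :=
  (((((((SLow.nil).cons cetl6_ok (ceth_act M) cet_f6).cons cetl5_ok (ceth_act M) cet_f5).cons cetl4_ok (ceth_act M) cet_f4).cons cetl3_ok (ceth_act M) cet_f3).cons cetl2_ok (ceth_act M) cet_f2).cons cetl1_ok (ceth_act M) cet_f1).cons cetl0_ok (ceth_act M) cet_f0
theorem cet_S0 {G Ω : Type*} [Group G] [MulAction G Ω] {g : ℕ → G} {pt : ℕ → Ω}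
    (M : Md g pt H15.MM24.P 24 11 H15.MM24.B 244823040) : Stage ⊤ (wds g ceth_W) pt 24 [cetl0, cetl1, cetl2, cetl3, cetl4, cetl5, cetl6] [] :=
  M.stage (cet_low M) cet_c
theorem cet_S1 {G Ω : Type*} [Group G] [MulAction G Ω] {g : ℕ → G} {pt : ℕ → Ω}
    (M : Md g pt H15.MM24.P 24 11 H15.MM24.B 244823040) : Stage ⊤ (wds g ceth_W) pt 24 [cetl1, cetl2, cetl3, cetl4, cetl5, cetl6] [cetl0.Pt 0] :=
  (cet_S0 M).next
theorem cet_S2 {G Ω : Type*} [Group G] [MulAction G Ω] {g : ℕ → G} {pt : ℕ → Ω}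
    (M : Md g pt H15.MM24.P 24 11 H15.MM24.B 244823040) : Stage ⊤ (wds g ceth_W) pt 24 [cetl2, cetl3, cetl4, cetl5, cetl6] [cetl1.Pt 0, cetl0.Pt 0] :=
  (cet_S1 M).next
theorem cet_S3 {G Ω : Type*} [Group G] [MulAction G Ω] {g : ℕ → G} {pt : ℕ → Ω}
    (M : Md g pt H15.MM24.P 24 11 H15.MM24.B 244823040) : Stage ⊤ (wds g ceth_W) pt 24 [cetl3, cetl4, cetl5, cetl6] [cetl2.Pt 0, cetl1.Pt 0, cetl0.Pt 0] :=
  (cet_S2 M).next
theorem cet_S4 {G Ω : Type*} [Group G] [MulAction G Ω] {g : ℕ → G} {pt : ℕ → Ω}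
    (M : Md g pt H15.MM24.P 24 11 H15.MM24.B 244823040) : Stage ⊤ (wds g ceth_W) pt 24 [cetl4, cetl5, cetl6] [cetl3.Pt 0, cetl2.Pt 0, cetl1.Pt 0, cetl0.Pt 0] :=
  (cet_S3 M).next
theorem cet_S5 {G Ω : Type*} [Group G] [MulAction G Ω] {g : ℕ → G} {pt : ℕ → Ω}
    (M : Md g pt H15.MM24.P 24 11 H15.MM24.B 244823040) : Stage ⊤ (wds g ceth_W) pt 24 [cetl5, cetl6] [cetl4.Pt 0, cetl3.Pt 0, cetl2.Pt 0, cetl1.Pt 0, cetl0.Pt 0] :=
  (cet_S4 M).next
theorem cet_S6 {G Ω : Type*} [Group G] [MulAction G Ω] {g : ℕ → G} {pt : ℕ → Ω}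
    (M : Md g pt H15.MM24.P 24 11 H15.MM24.B 244823040) : Stage ⊤ (wds g ceth_W) pt 24 [cetl6] [cetl5.Pt 0, cetl4.Pt 0, cetl3.Pt 0, cetl2.Pt 0, cetl1.Pt 0, cetl0.Pt 0] :=
  (cet_S5 M).next
theorem cet_S7 {G Ω : Type*} [Group G] [MulAction G Ω] {g : ℕ → G} {pt : ℕ → Ω}
    (M : Md g pt H15.MM24.P 24 11 H15.MM24.B 244823040) : Stage ⊤ (wds g ceth_W) pt 24 [] [cetl6.Pt 0, cetl5.Pt 0, cetl4.Pt 0, cetl3.Pt 0, cetl2.Pt 0, cetl1.Pt 0, cetl0.Pt 0] :=
  (cet_S6 M).next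
theorem cece_act {G Ω : Type*} [Group G] [MulAction G Ω] {g : ℕ → G} {pt : ℕ → Ω}
    (M : Md g pt H15.MM24.P 24 11 H15.MM24.B 244823040) : Act (wds g cece_W) pt cece_P 24 1 :=
  M.wact cece_lt
theorem cecc0_e : ∀ i < 10, (dent cecc0 cece_P (nat_lit 24)) i = 0 := allZ_sound0 cecc0_e_0
theorem cecc0_ok : DOK cecc0 cece_P 24 := ⟨cecc0_h, cecc0_e⟩
theorem cetn0_1 : ∀ i < 24, (cetn0.ent H15.MM24.P ceth_P cex_P cex_P cece_P (nat_lit 11) (nat_lit 1) H15.MM24.B cetl0 [cetl1, cetl2, cetl3, cetl4, cetl5, cetl6] (memO cecc0)) i = 0 := allZ_sound0 cetn0_1_0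
theorem cetn0_t {G Ω : Type*} [Group G] [MulAction G Ω] {g : ℕ → G} {pt : ℕ → Ω}
    (M : Md g pt H15.MM24.P 24 11 H15.MM24.B 244823040) : TrO (gen (wds g ceth_W) cetl0.K) (wds g cex_W) (wds g cex_W) 1 pt 24 (cetl0.Pt 0) (memO cecc0) :=
  node M (cet_S0 M) (ceth_act M) (cex_act M) (cex_act M) cetn0 ((cece_act M).mono (by decide)) (fun _ _ => trivial) cetn0_0 cetn0_1 (List.forall_mem_nil _)
theorem cec {G Ω : Type*} [Group G] [MulAction G Ω] {g : ℕ → G} {pt : ℕ → Ω}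
    (M : Md g pt H15.MM24.P 24 11 H15.MM24.B 244823040) : Cen ⊤ (wds g cex_W) 1 (wds g cece_W) pt 24 [cecc0] :=
  (cet_S0 M).top ▸ Cen.lev M (cet_S0 M) (Cen.triv (cet_S1 M) (Cen.triv (cet_S2 M) (Cen.triv (cet_S3 M) (Cen.triv (cet_S4 M) (Cen.triv (cet_S5 M) (Cen.triv (cet_S6 M) (Cen.bot) (forced (cet_S6 M) (ceth_act M) (cex_act M) _ _ cec_f6)) (forced (cet_S5 M) (ceth_act M) (cex_act M) _ _ cec_f5)) (forced (cet_S4 M) (ceth_act M) (cex_act M) _ _ cec_f4)) (forced (cet_S3 M) (ceth_act M) (cex_act M) _ _ cec_f3)) (forced (cet_S2 M) (ceth_act M) (cex_act M) _ _ cec_f2)) (forced (cet_S1 M) (ceth_act M) (cex_act M) _ _ cec_f1)) (cetn0_t M) (cex_act M) (cece_act M) (fun _ _ => trivial) cecc0_ok cec_f0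
theorem cec_card {G Ω : Type*} [Group G] [MulAction G Ω] {g : ℕ → G} {pt : ℕ → Ω}
    (M : Md g pt H15.MM24.P 24 11 H15.MM24.B 244823040) : Nat.card (Subgroup.centralizer {(wds g cex_W) 0}) = 11 :=
  (cec M).card_cent1 M.inj cec_c.1
theorem cec_eq {G Ω : Type*} [Group G] [MulAction G Ω] {g : ℕ → G} {pt : ℕ → Ω}
    (M : Md g pt H15.MM24.P 24 11 H15.MM24.B 244823040) : Subgroup.centralizer (gen (wds g cex_W) 1) = gen (wds g cece_W) 1 ∧ Nat.card (gen (wds g cece_W) 1) = 11 :=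
  cec_c.1 ▸ cec_c.2 ▸ ⟨(cec M).cent, (cec M).card M.inj⟩
theorem ce {G Ω : Type*} [Group G] [MulAction G Ω] {g : ℕ → G} {pt : ℕ → Ω}
    (M : Md g pt H15.MM24.P 24 11 H15.MM24.B 244823040) : Nat.card (Subgroup.centralizer {(wds g el_W) 0}) = 11 :=
  cec_card M
theorem ia_act {G Ω : Type*} [Group G] [MulAction G Ω] {g : ℕ → G} {pt : ℕ → Ω}
    (M : Md g pt A0.P 24 13 A0.B 887040) : Act (wds g ia_W) pt ia_P 24 1 :=
  M.wact ia_lt
theorem cfx_act {G Ω : Type*} [Group G] [MulAction G Ω] {g : ℕ → G} {pt : ℕ → Ω}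
    (M : Md g pt A0.P 24 13 A0.B 887040) : Act (wds g cfx_W) pt cfx_P 24 1 :=
  M.wact cfx_lt
theorem cfth_act {G Ω : Type*} [Group G] [MulAction G Ω] {g : ℕ → G} {pt : ℕ → Ω}
    (M : Md g pt A0.P 24 13 A0.B 887040) : Act (wds g cfth_W) pt cfth_P 24 19 :=
  M.wact cfth_lt
theorem cftl0_e : ∀ i < 1, (dent cftl0 cfth_P (nat_lit 24)) i = 0 := allZ_sound0 cftl0_e_0
theorem cftl0_ok : DOK cftl0 cfth_P 24 := ⟨cftl0_h, cftl0_e⟩
theorem cftl1_e : ∀ i < 21, (dent cftl1 cfth_P (nat_lit 24)) i = 0 := allZ_sound0 cftl1_e_0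
theorem cftl1_ok : DOK cftl1 cfth_P 24 := ⟨cftl1_h, cftl1_e⟩
theorem cftl2_e : ∀ i < 20, (dent cftl2 cfth_P (nat_lit 24)) i = 0 := allZ_sound0 cftl2_e_0
theorem cftl2_ok : DOK cftl2 cfth_P 24 := ⟨cftl2_h, cftl2_e⟩
theorem cftl3_e : ∀ i < 19, (dent cftl3 cfth_P (nat_lit 24)) i = 0 := allZ_sound0 cftl3_e_0
theorem cftl3_ok : DOK cftl3 cfth_P 24 := ⟨cftl3_h, cftl3_e⟩
theorem cftl4_e : ∀ i < 2, (dent cftl4 cfth_P (nat_lit 24)) i = 0 := allZ_sound0 cftl4_e_0
theorem cftl4_ok : DOK cftl4 cfth_P 24 := ⟨cftl4_h, cftl4_e⟩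
theorem cftl5_e : ∀ i < 15, (dent cftl5 cfth_P (nat_lit 24)) i = 0 := allZ_sound0 cftl5_e_0
theorem cftl5_ok : DOK cftl5 cfth_P 24 := ⟨cftl5_h, cftl5_e⟩
theorem cft_low {G Ω : Type*} [Group G] [MulAction G Ω] {g : ℕ → G} {pt : ℕ → Ω}
    (M : Md g pt A0.P 24 13 A0.B 887040) : SLow (gi (wds g cfth_W)) pt 24 [cftl0, cftl1, cftl2, cftl3, cftl4, cftl5] :=
  ((((((SLow.nil).cons cftl5_ok (cfth_act M) cft_f5).cons cftl4_ok (cfth_act M) cft_f4).cons cftl3_ok (cfth_act M) cft_f3).cons cftl2_ok (cfth_act M) cft_f2).cons cftl1_ok (cfth_act M) cft_f1).cons cftl0_ok (cfth_act M) cft_f0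
theorem cft_S0 {G Ω : Type*} [Group G] [MulAction G Ω] {g : ℕ → G} {pt : ℕ → Ω}
    (M : Md g pt A0.P 24 13 A0.B 887040) : Stage ⊤ (wds g cfth_W) pt 24 [cftl0, cftl1, cftl2, cftl3, cftl4, cftl5] [] :=
  M.stage (cft_low M) cft_c
theorem cft_S1 {G Ω : Type*} [Group G] [MulAction G Ω] {g : ℕ → G} {pt : ℕ → Ω}
    (M : Md g pt A0.P 24 13 A0.B 887040) : Stage ⊤ (wds g cfth_W) pt 24 [cftl1, cftl2, cftl3, cftl4, cftl5] [cftl0.Pt 0] :=
  (cft_S0 M).next
theorem cft_S2 {G Ω : Type*} [Group G] [MulAction G Ω] {g : ℕ → G} {pt : ℕ → Ω}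
    (M : Md g pt A0.P 24 13 A0.B 887040) : Stage ⊤ (wds g cfth_W) pt 24 [cftl2, cftl3, cftl4, cftl5] [cftl1.Pt 0, cftl0.Pt 0] :=
  (cft_S1 M).next
theorem cft_S3 {G Ω : Type*} [Group G] [MulAction G Ω] {g : ℕ → G} {pt : ℕ → Ω}
    (M : Md g pt A0.P 24 13 A0.B 887040) : Stage ⊤ (wds g cfth_W) pt 24 [cftl3, cftl4, cftl5] [cftl2.Pt 0, cftl1.Pt 0, cftl0.Pt 0] :=
  (cft_S2 M).next
theorem cft_S4 {G Ω : Type*} [Group G] [MulAction G Ω] {g : ℕ → G} {pt : ℕ → Ω}
    (M : Md g pt A0.P 24 13 A0.B 887040) : Stage ⊤ (wds g cfth_W) pt 24 [cftl4, cftl5] [cftl3.Pt 0, cftl2.Pt 0, cftl1.Pt 0, cftl0.Pt 0] :=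
  (cft_S3 M).next
theorem cft_S5 {G Ω : Type*} [Group G] [MulAction G Ω] {g : ℕ → G} {pt : ℕ → Ω}
    (M : Md g pt A0.P 24 13 A0.B 887040) : Stage ⊤ (wds g cfth_W) pt 24 [cftl5] [cftl4.Pt 0, cftl3.Pt 0, cftl2.Pt 0, cftl1.Pt 0, cftl0.Pt 0] :=
  (cft_S4 M).next
theorem cft_S6 {G Ω : Type*} [Group G] [MulAction G Ω] {g : ℕ → G} {pt : ℕ → Ω}
    (M : Md g pt A0.P 24 13 A0.B 887040) : Stage ⊤ (wds g cfth_W) pt 24 [] [cftl5.Pt 0, cftl4.Pt 0, cftl3.Pt 0, cftl2.Pt 0, cftl1.Pt 0, cftl0.Pt 0] :=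
  (cft_S5 M).next
theorem cfce_act {G Ω : Type*} [Group G] [MulAction G Ω] {g : ℕ → G} {pt : ℕ → Ω}
    (M : Md g pt A0.P 24 13 A0.B 887040) : Act (wds g cfce_W) pt cfce_P 24 9 :=
  M.wact cfce_lt
theorem cfcc5_e : ∀ i < 3, (dent cfcc5 cfce_P (nat_lit 24)) i = 0 := allZ_sound0 cfcc5_e_0
theorem cfcc5_ok : DOK cfcc5 cfce_P 24 := ⟨cfcc5_h, cfcc5_e⟩
theorem cftn0_1 : ∀ i < 16, (cftn0.ent A0.P cfth_P cfx_P cfx_P cfce_P (nat_lit 13) (nat_lit 1) A0.B cftl5 [] (memO cfcc5)) i = 0 := allZ_sound0 cftn0_1_0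
theorem cftn0_t {G Ω : Type*} [Group G] [MulAction G Ω] {g : ℕ → G} {pt : ℕ → Ω}
    (M : Md g pt A0.P 24 13 A0.B 887040) : TrO (gen (wds g cfth_W) cftl5.K) (wds g cfx_W) (wds g cfx_W) 1 pt 24 (cftl5.Pt 0) (memO cfcc5) :=
  node M (cft_S5 M) (cfth_act M) (cfx_act M) (cfx_act M) cftn0 ((cfce_act M).mono (by decide)) (fun _ _ => trivial) cftn0_0 cftn0_1 (List.forall_mem_nil _)
theorem cfcc3_e : ∀ i < 5, (dent cfcc3 cfce_P (nat_lit 24)) i = 0 := allZ_sound0 cfcc3_e_0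
theorem cfcc3_ok : DOK cfcc3 cfce_P 24 := ⟨cfcc3_h, cfcc3_e⟩
theorem cftn1_1 : ∀ i < 20, (cftn1.ent A0.P cfth_P cfx_P cfx_P cfce_P (nat_lit 13) (nat_lit 1) A0.B cftl3 [cftl4, cftl5] (memO cfcc3)) i = 0 := allZ_sound0 cftn1_1_0
theorem cftn1_t {G Ω : Type*} [Group G] [MulAction G Ω] {g : ℕ → G} {pt : ℕ → Ω}
    (M : Md g pt A0.P 24 13 A0.B 887040) : TrO (gen (wds g cfth_W) cftl3.K) (wds g cfx_W) (wds g cfx_W) 1 pt 24 (cftl3.Pt 0) (memO cfcc3) :=
  node M (cft_S3 M) (cfth_act M) (cfx_act M) (cfx_act M) cftn1 ((cfce_act M).mono (by decide)) (fun _ _ => trivial) cftn1_0 cftn1_1 (List.forall_mem_nil _)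
theorem cfcc1_e : ∀ i < 15, (dent cfcc1 cfce_P (nat_lit 24)) i = 0 := allZ_sound0 cfcc1_e_0
theorem cfcc1_ok : DOK cfcc1 cfce_P 24 := ⟨cfcc1_h, cfcc1_e⟩
theorem cftn2_1 : ∀ i < 22, (cftn2.ent A0.P cfth_P cfx_P cfx_P cfce_P (nat_lit 13) (nat_lit 1) A0.B cftl1 [cftl2, cftl3, cftl4, cftl5] (memO cfcc1)) i = 0 := allZ_sound0 cftn2_1_0
theorem cftn2_t {G Ω : Type*} [Group G] [MulAction G Ω] {g : ℕ → G} {pt : ℕ → Ω}
    (M : Md g pt A0.P 24 13 A0.B 887040) : TrO (gen (wds g cfth_W) cftl1.K) (wds g cfx_W) (wds g cfx_W) 1 pt 24 (cftl1.Pt 0) (memO cfcc1) :=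
  node M (cft_S1 M) (cfth_act M) (cfx_act M) (cfx_act M) cftn2 ((cfce_act M).mono (by decide)) (fun _ _ => trivial) cftn2_0 cftn2_1 (List.forall_mem_nil _)
theorem cfcc0_e : ∀ i < 1, (dent cfcc0 cfce_P (nat_lit 24)) i = 0 := allZ_sound0 cfcc0_e_0
theorem cfcc0_ok : DOK cfcc0 cfce_P 24 := ⟨cfcc0_h, cfcc0_e⟩
theorem cftn3_1 : ∀ i < 2, (cftn3.ent A0.P cfth_P cfx_P cfx_P cfce_P (nat_lit 13) (nat_lit 1) A0.B cftl0 [cftl1, cftl2, cftl3, cftl4, cftl5] (memO cfcc0)) i = 0 := allZ_sound0 cftn3_1_0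
theorem cftn3_t {G Ω : Type*} [Group G] [MulAction G Ω] {g : ℕ → G} {pt : ℕ → Ω}
    (M : Md g pt A0.P 24 13 A0.B 887040) : TrO (gen (wds g cfth_W) cftl0.K) (wds g cfx_W) (wds g cfx_W) 1 pt 24 (cftl0.Pt 0) (memO cfcc0) :=
  node M (cft_S0 M) (cfth_act M) (cfx_act M) (cfx_act M) cftn3 ((cfce_act M).mono (by decide)) (fun _ _ => trivial) cftn3_0 cftn3_1 (List.forall_mem_nil _)
theorem cfc {G Ω : Type*} [Group G] [MulAction G Ω] {g : ℕ → G} {pt : ℕ → Ω}
    (M : Md g pt A0.P 24 13 A0.B 887040) : Cen ⊤ (wds g cfx_W) 1 (wds g cfce_W) pt 24 [cfcc0, cfcc1, cfcc3, cfcc5] :=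
  (cft_S0 M).top ▸ Cen.lev M (cft_S0 M) (Cen.lev M (cft_S1 M) (Cen.triv (cft_S2 M) (Cen.lev M (cft_S3 M) (Cen.triv (cft_S4 M) (Cen.lev M (cft_S5 M) (Cen.bot) (cftn0_t M) (cfx_act M) (cfce_act M) (fun _ _ => trivial) cfcc5_ok cfc_f5) (forced (cft_S4 M) (cfth_act M) (cfx_act M) _ _ cfc_f4)) (cftn1_t M) (cfx_act M) (cfce_act M) (fun _ _ => trivial) cfcc3_ok cfc_f3) (forced (cft_S2 M) (cfth_act M) (cfx_act M) _ _ cfc_f2)) (cftn2_t M) (cfx_act M) (cfce_act M) (fun _ _ => trivial) cfcc1_ok cfc_f1) (cftn3_t M) (cfx_act M) (cfce_act M) (fun _ _ => trivial) cfcc0_ok cfc_f0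
theorem cfc_card {G Ω : Type*} [Group G] [MulAction G Ω] {g : ℕ → G} {pt : ℕ → Ω}
    (M : Md g pt A0.P 24 13 A0.B 887040) : Nat.card (Subgroup.centralizer {(wds g cfx_W) 0}) = 768 :=
  (cfc M).card_cent1 M.inj cfc_c.1
theorem cfc_eq {G Ω : Type*} [Group G] [MulAction G Ω] {g : ℕ → G} {pt : ℕ → Ω}
    (M : Md g pt A0.P 24 13 A0.B 887040) : Subgroup.centralizer (gen (wds g cfx_W) 1) = gen (wds g cfce_W) 9 ∧ Nat.card (gen (wds g cfce_W) 9) = 768 :=
  cfc_c.1 ▸ cfc_c.2 ▸ ⟨(cfc M).cent, (cfc M).card M.inj⟩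
theorem cf {G Ω : Type*} [Group G] [MulAction G Ω] {g : ℕ → G} {pt : ℕ → Ω}
    (M : Md g pt A0.P 24 13 A0.B 887040) : Nat.card (Subgroup.centralizer {(wds g ia_W) 0}) = 768 :=
  cfc_card M

end H20.J4
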