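import Cfsg.Agent.H20.J4.TB

/-! Generated by tools/h0/tr.py. -/

set_option maxRecDepth 100000
set_option maxHeartbeats 0

namespace H20.J4
open H16 H0.TR

def KV : List (List ℕ) := [Wp, [1, 2, 6, 7, 6, 3, 8, 9, 8, 2, 4, 10, 9, 8, 1, 6, 3], [2, 7, 6, 4, 8, 9, 8, 1, 2, 6, 10, 9, 8, 1, 3, 9, 7]]
def KZ : List (List ℕ) := [[9, 9, 9, 9], [7, 6, 2, 7], [11, 1, 3, 15]]
def KH (e : ℕ) : List (List ℕ) := [[9, 9, 9, 9], [7, 6, 2, 7], [11, 1, 7, 3, 6, 2, 7, 6, 4849] ++ List.replicate e 4109]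
noncomputable def AT : List ℕ := [nat_lit 0x7ea78076a7006ea68066a6005ea58056a5004ea48046a4003ea38036a3002ea28026a2001ea18016a1000ea08006a0007ea78076a7006ea68066a6005ea58056a5004ea48046a4003ea38036a3002ea28026a2001ea18016a1000ea08006a00002702602302202102002502407907807d07c07f07e07b07a04704604304204104004504401901801d01c01f01e01b01a03d03c03903803b03a03f03e06306206706606506406106005d05c05905805b05a05f05e003002007006005004001000, nat_lit 0x7787003783004f84800f80806f86802f82805785001781006786002782005f85801f81807f87803f83804784000780007787003783004f84800f80806f86802f82805785001781006786002782005f85801f81807f87803f838047840007800001301205b05a02702606f06e07507403d03c04104000900800300204b04a03703607f07e06506402d02c05105001901800b00a04304203f03e07707606d06c02502405905801101001b01a05305202f02e06706607d07c035034049048001000, nat_lit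 0x4954a012a11f38a3bf6356007a579021a22f0ba08f5055301a519041a42f6ba68f3053302952a072a71f58a5bf0350004954a012a11f38a3bf6356007a579021a22f0ba08f5055301a519041a42f6ba68f3053302952a072a71f58a5bf03500001101002302205c05d06e06f05005106206301d01c02f02e03103000300207c07d04e04f07007104204303d03c00f00e01f01e02d02c05205306006105e05f06c06d01301202102003f03e00d00c07207304004107e07f04c04d033032001000]
def AC : List (List ℕ) := [[1, 4, 6, 94, 96, 26, 106, 128, 256, 512, 1024, 0], [1, 72, 52, 102, 16, 24, 120, 1024, 896, 384, 256, 0], [1, 50, 77, 65, 32, 14, 53, 1471, 1823, 816, 1328, 0]]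
noncomputable def A1 (k a : ℕ) : ℕ := ht (nth (nat_lit 0) AT k) a
/-- the code of a twisted word -/
noncomputable def twv (A : ℕ → ℕ → ℕ) (d : ℕ → ℕ) (W : List ℕ) : ℕ → ℕ :=
  List.rec (motive := fun _ => ℕ → ℕ) (fun c => c) (fun k _ ih c => force (Nat.xor (d k) (A k c)) ih) W
noncomputable abbrev eM (U V : List ℕ) : ℕ := eqL H15.MM24.P 11 H15.MM24.B U V
def KR : List (List ℕ × ℕ) := [([0, 0, 0], 0), ([1, 1, 1, 1, 1], 0), ([0, 1, 0, 0, 1, 1, 1, 1], 0), ([2, 2, 2, 2], 1567), ([0, 2, 0, 2, 0, 2, 0, 2], 1636), ([0, 1, 2, 2, 0, 1, 2, 2, 0, 1, 2, 2, 0, 1, 2, 2, 0, 1, 2, 2], 27), ([0, 0, 1, 2, 0, 0, 1, 2, 0, 0, 1, 2, 0, 0, 1, 2, 0, 0, 1, 2, 0, 0, 1, 2], 0), ([1, 1, 1, 2, 1, 1, 1, 2, 1, 1, 1, 2, 1, 1, 1, 2, 1, 1, 1, 2, 1, 1, 1, 2], 63)]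
def dl : List ℕ := [0, 0, 0, 0, 1806, 550, 1921, 1806, 1793, 0, 1806]
def t0 : List ℕ := [8, 6, 3, 7, 6, 1, 5, 8, 7, 6]
def TU : List (List ℕ) := [[0], [2, 2, 1, 2], [1, 1, 2, 1, 1, 1]]
def TV : List (List ℕ) := [[9, 8, 1, 2, 6, 1, 7, 8, 1, 4, 9, 8, 2, 10, 9, 8, 2, 5], [8, 2, 9, 1, 6, 0, 7, 6, 3, 4, 8, 1, 9, 10, 9, 8], [3, 5, 6, 2, 7, 6, 1, 4, 8, 3, 9, 8, 2, 10, 9, 8, 2, 5], [9, 8, 2, 5, 6, 3, 4, 7, 8, 9, 8, 0]]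
def Ur : List ℕ := [0, 0, 2, 1, 1, 2, 1, 1]
def NU : List (List ℕ) := [[0, 1, 1, 1, 1, 2, 0, 0, 2, 1], [0, 0, 1, 2, 1, 1, 2, 1, 1, 2, 1]]
def NJ : List ℕ := [2, 2]
def g1w : List ℕ := [11, 1, 3, 6, 7, 6, 1, 2, 8, 7, 9, 168]
noncomputable abbrev kh (e : ℕ) (U : List ℕ) : List ℕ := H0.PM.flat (KH e) U
noncomputable abbrev kw (U : List ℕ) : List ℕ := H0.PM.flat KV U
noncomputable def nw_W : List (List ℕ) := [[nat_lit 3, nat_lit 6, nat_lit 7, nat_lit 6, nat_lit 0, nat_lit 2, nat_lit 8, nat_lit 1, nat_lit 6, nat_lit 5, nat_lit 9, nat_lit 8, nat_lit 2, nat_lit 10, nat_lit 9, nat_lit 8, nat_lit 1, nat_lit 4, nat_lit 10],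
  [nat_lit 4, nat_lit 2, nat_lit 5, nat_lit 6, nat_lit 4, nat_lit 8, nat_lit 3, nat_lit 9, nat_lit 10, nat_lit 9, nat_lit 8, nat_lit 2, nat_lit 5]]
noncomputable def nw_P : ℕ → ℕ → ℕ := wdsP H15.MM24.P nw_W
noncomputable def cnh_W : List (List ℕ) := [[nat_lit 7, nat_lit 6, nat_lit 0, nat_lit 1, nat_lit 9, nat_lit 8, nat_lit 0, nat_lit 10, nat_lit 9, nat_lit 8, nat_lit 1, nat_lit 4, nat_lit 1],
  [nat_lit 6, nat_lit 1, nat_lit 4, nat_lit 1, nat_lit 8, nat_lit 0, nat_lit 1, nat_lit 5, nat_lit 9, nat_lit 8, nat_lit 10, nat_lit 9, nat_lit 0, nat_lit 8],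
  [nat_lit 1, nat_lit 2, nat_lit 6, nat_lit 0, nat_lit 2, nat_lit 7, nat_lit 6, nat_lit 4, nat_lit 8, nat_lit 1, nat_lit 2, nat_lit 6, nat_lit 10, nat_lit 9, nat_lit 8, nat_lit 3, nat_lit 10],
  [nat_lit 0, nat_lit 1, nat_lit 4, nat_lit 6, nat_lit 0, nat_lit 3, nat_lit 7, nat_lit 8, nat_lit 0, nat_lit 9, nat_lit 8, nat_lit 1, nat_lit 4, nat_lit 10, nat_lit 9],
  [nat_lit 9, nat_lit 6, nat_lit 5, nat_lit 1, nat_lit 7, nat_lit 8, nat_lit 1, nat_lit 9, nat_lit 8, nat_lit 1, nat_lit 10, nat_lit 9, nat_lit 8, nat_lit 3, nat_lit 2, nat_lit 5],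
  [nat_lit 1, nat_lit 3, nat_lit 6, nat_lit 5, nat_lit 7, nat_lit 6, nat_lit 3, nat_lit 4, nat_lit 8, nat_lit 1, nat_lit 3, nat_lit 9, nat_lit 8, nat_lit 1, nat_lit 2, nat_lit 10, nat_lit 9, nat_lit 8],
  [nat_lit 0, nat_lit 3, nat_lit 7, nat_lit 6, nat_lit 0, nat_lit 3, nat_lit 8, nat_lit 2, nat_lit 3, nat_lit 9],
  [nat_lit 0],
  [nat_lit 1],
  [nat_lit 2],
  [nat_lit 3],
  [nat_lit 4],
  [nat_lit 5],
  [nat_lit 6],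
  [nat_lit 7],
  [nat_lit 8],
  [nat_lit 9],
  [nat_lit 10]]
noncomputable def cnh_P : ℕ → ℕ → ℕ := wdsP H15.MM24.P cnh_W
noncomputable def cnl0Dd : ℕ := nat_lit 0xb14b275b9a241221311f62401e2e1d2d1a0d0b0a09080700
noncomputable def cnl0D (u : ℕ) : ℕ := Nat.land (Nat.shiftRight cnl0Dd (Nat.mul u (nat_lit 8))) (nat_lit 255)
noncomputable def cnl0Pd : ℕ := nat_lit 0x8840555c4e38d88326045b5f29da95
noncomputable def cnl0P (u : ℕ) : ℕ := Nat.land (Nat.shiftRight cnl0Pd (Nat.mul u (nat_lit 5))) (nat_lit 31)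
noncomputable def cnl0Qd : ℕ := nat_lit 0x90801192e92c0cd3cd4c7ae88746d5
noncomputable def cnl0Q (u : ℕ) : ℕ := Nat.land (Nat.shiftRight cnl0Qd (Nat.mul u (nat_lit 5))) (nat_lit 31)
noncomputable def cnl0 : Lev := ⟨24, 18, cnl0D, cnl0P, cnl0Q⟩
noncomputable def cnl1Dd : ℕ := nat_lit 0x17e2ad409092a20a4c112c6c70c16245081a1c300
noncomputable def cnl1D (u : ℕ) : ℕ := Nat.land (Nat.shiftRight cnl1Dd (Nat.mul u (nat_lit 7))) (nat_lit 127)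
noncomputable def cnl1Pd : ℕ := nat_lit 0x22560066d61a2a49065bbe0b70a87
noncomputable def cnl1P (u : ℕ) : ℕ := Nat.land (Nat.shiftRight cnl1Pd (Nat.mul u (nat_lit 5))) (nat_lit 31)
noncomputable def cnl1Qd : ℕ := nat_lit 0x3d0018d5a530e0f231760390a48a53
noncomputable def cnl1Q (u : ℕ) : ℕ := Nat.land (Nat.shiftRight cnl1Qd (Nat.mul u (nat_lit 5))) (nat_lit 31)
noncomputable def cnl1 : Lev := ⟨23, 7, cnl1D, cnl1P, cnl1Q⟩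
noncomputable def cnl2Dd : ℕ := nat_lit 0x28ac508d1243e58a1e2a4c90d182c5090e18280
noncomputable def cnl2D (u : ℕ) : ℕ := Nat.land (Nat.shiftRight cnl2Dd (Nat.mul u (nat_lit 7))) (nat_lit 127)
noncomputable def cnl2Pd : ℕ := nat_lit 0x4b6228d01071bcad373d4909606
noncomputable def cnl2P (u : ℕ) : ℕ := Nat.land (Nat.shiftRight cnl2Pd (Nat.mul u (nat_lit 5))) (nat_lit 31)
noncomputable def cnl2Qd : ℕ := nat_lit 0x5a4114298131e13a14920004e6d46f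
noncomputable def cnl2Q (u : ℕ) : ℕ := Nat.land (Nat.shiftRight cnl2Qd (Nat.mul u (nat_lit 5))) (nat_lit 31)
noncomputable def cnl2 : Lev := ⟨22, 6, cnl2D, cnl2P, cnl2Q⟩
noncomputable def cnl3Dd : ℕ := nat_lit 0x4178cd41d4260b133430a0d1e243880c14200
noncomputable def cnl3D (u : ℕ) : ℕ := Nat.land (Nat.shiftRight cnl3Dd (Nat.mul u (nat_lit 7))) (nat_lit 127)
noncomputable def cnl3Pd : ℕ := nat_lit 0x2b8c0a232960adb19260f9b8a8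
noncomputable def cnl3P (u : ℕ) : ℕ := Nat.land (Nat.shiftRight cnl3Pd (Nat.mul u (nat_lit 5))) (nat_lit 31)
noncomputable def cnl3Qd : ℕ := nat_lit 0x9b00d19d052092e540c00002f95171
noncomputable def cnl3Q (u : ℕ) : ℕ := Nat.land (Nat.shiftRight cnl3Qd (Nat.mul u (nat_lit 5))) (nat_lit 31)
noncomputable def cnl3 : Lev := ⟨21, 5, cnl3D, cnl3P, cnl3Q⟩
noncomputable def cnl4Dd : ℕ := nat_lit 0xf7c7605d344f50a34c2481871440c0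
noncomputable def cnl4D (u : ℕ) : ℕ := Nat.land (Nat.shiftRight cnl4Dd (Nat.mul u (nat_lit 6))) (nat_lit 63)
noncomputable def cnl4Pd : ℕ := nat_lit 0x44b65416e1a5a17c854bcd84
noncomputable def cnl4P (u : ℕ) : ℕ := Nat.land (Nat.shiftRight cnl4Pd (Nat.mul u (nat_lit 5))) (nat_lit 31)
noncomputable def cnl4Qd : ℕ := nat_lit 0x1c00411a4e3b1216bd400022059513
noncomputable def cnl4Q (u : ℕ) : ℕ := Nat.land (Nat.shiftRight cnl4Qd (Nat.mul u (nat_lit 5))) (nat_lit 31)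
noncomputable def cnl4 : Lev := ⟨20, 4, cnl4D, cnl4P, cnl4Q⟩
noncomputable def cnl5Dd : ℕ := nat_lit 0xf6ef483d6c49ca618820
noncomputable def cnl5D (u : ℕ) : ℕ := Nat.land (Nat.shiftRight cnl5Dd (Nat.mul u (nat_lit 5))) (nat_lit 31)
noncomputable def cnl5Pd : ℕ := nat_lit 0xbb593959e512430a386b
noncomputable def cnl5P (u : ℕ) : ℕ := Nat.land (Nat.shiftRight cnl5Pd (Nat.mul u (nat_lit 5))) (nat_lit 31)
noncomputable def cnl5Qd : ℕ := nat_lit 0xfa03cb0492ed006000801750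
noncomputable def cnl5Q (u : ℕ) : ℕ := Nat.land (Nat.shiftRight cnl5Qd (Nat.mul u (nat_lit 4))) (nat_lit 15)
noncomputable def cnl5 : Lev := ⟨16, 3, cnl5D, cnl5P, cnl5Q⟩
noncomputable def cnl6Dd : ℕ := nat_lit 4
noncomputable def cnl6D (u : ℕ) : ℕ := Nat.land (Nat.shiftRight cnl6Dd (Nat.mul u (nat_lit 1))) (nat_lit 1)
noncomputable def cnl6Pd : ℕ := nat_lit 0x160e
noncomputable def cnl6P (u : ℕ) : ℕ := Nat.land (Nat.shiftRight cnl6Pd (Nat.mul u (nat_lit 5))) (nat_lit 31)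
noncomputable def cnl6Qd : ℕ := nat_lit 0x100000800
noncomputable def cnl6Q (u : ℕ) : ℕ := Nat.land (Nat.shiftRight cnl6Qd (Nat.mul u (nat_lit 2))) (nat_lit 3)
noncomputable def cnl6 : Lev := ⟨3, 1, cnl6D, cnl6P, cnl6Q⟩
noncomputable def cnce_W : List (List ℕ) := []
noncomputable def cnce_P : ℕ → ℕ → ℕ := wdsP H15.MM24.P cnce_W
noncomputable def cnn0Fd : ℕ := nat_lit 0xfffffe
noncomputable def cnn0F (u : ℕ) : ℕ := Nat.land (Nat.shiftRight cnn0Fd (Nat.mul u (nat_lit 1))) (nat_lit 1)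
noncomputable def cnn0 : Nd := ⟨cnn0F, (nat_lit 2), (nat_lit 0), [[nat_lit 1],
  [nat_lit 0, nat_lit 0]], [((nat_lit 0), []), ((nat_lit 0), [nat_lit 0]), ((nat_lit 0), [nat_lit 0, nat_lit 0]), ((nat_lit 0), [nat_lit 0, nat_lit 1]), ((nat_lit 0), [nat_lit 0, nat_lit 0, nat_lit 0])], []⟩
def Wt : List ℕ := [0, 3, 6, 10, 0]
def RC : List (List ℕ × List (List ℕ × List ℕ) × List ℕ) := [([9, 7, 6, 9], [([1, 1, 1], [3, 3, 2, 3, 1, 3, 1, 0, 1]), ([1, 1, 1], [3, 3, 2, 3, 1, 3, 1, 0, 1])], []), ([], [], []), ([], [], []), ([], [], []), ([], [], []), ([], [], []), ([], [], []), ([], [], []), ([], [], []), ([], [], []), ([], [], []), ([], [], []), ([], [], []), ([], [], []), ([], [], []), ([], [], []), ([], [], []), ([], [], []), ([], [], []), ([], [], []), ([], [], []), ([], [], []), ([], [], []), ([], [], []), ([], [], []), ([],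 [], []), ([], [], []), ([], [], []), ([], [], []), ([], [], []), ([], [], []), ([], [], []), ([], [], []), ([], [], []), ([], [], []), ([], [], []), ([], [], []), ([], [], []), ([], [], []), ([], [], []), ([], [], []), ([], [], []), ([], [], []), ([], [], []), ([], [], []), ([], [], []), ([], [], []), ([], [], []), ([], [], []), ([], [], []), ([], [], []), ([], [], []), ([], [], []), ([], [], []), ([], [], []), ([9, 7, 6, 9], [([1, 1, 1], [0, 2, 0, 2, 2, 3, 3]), ([1, 1, 1], [3, 3, 2, 3, 1, 3, 1, 0, 1])], []), ([9, 7, 6, 9], [([1, 1, 1], [2, 1, 2, 0, 1, 0, 2]), ([1, 1, 1], [3, 3, 2, 3, 1, 3, 1, 0, 1])], []), ([9, 7, 6, 9], [([1, 1, 1], [2, 1, 3, 2, 1, 0, 1, 0]), ([1, 1, 1], [3, 3, 2, 3, 1, 3, 1, 0, 1])], []), ([9, 7, 6, 9], [([1, 1, 1], [3, 0, 3, 1, 3, 0, 1]), ([1, 1, 1], [3, 3, 2, 3, 1, 3, 1, 0, 1])], []), ([9, 7, 6, 9],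 [([2, 1, 1, 2], [0, 1, 0, 2]), ([1, 1, 1], [3, 3, 2, 3, 1, 3, 1, 0, 1])], []), ([9, 7, 6, 9], [([1, 1, 1], [2, 0, 1, 3, 3, 2]), ([1, 1, 1], [3, 3, 2, 3, 1, 3, 1, 0, 1])], []), ([9, 7, 6, 9], [([1, 1, 1], [3, 3, 2, 0, 0, 3, 3]), ([1, 1, 1], [3, 3, 2, 3, 1, 3, 1, 0, 1])], [1, 2, 1, 2, 1, 2, 1, 2, 1, 2, 1, 2]), ([9, 7, 6, 9], [([1, 1, 1], [3, 3, 2, 3, 1, 3, 1, 0, 1]), ([1, 1, 1], [3, 3, 2, 3, 1, 3, 1, 0, 1])], []), ([6, 0, 7, 9, 6, 0], [([2, 2], [2, 2, 3, 1, 3]), ([], [1, 3, 0, 0, 1, 3, 2, 1, 3]), ([1, 1], [2, 0, 3, 0, 3, 3, 1, 0])], []), ([], [], []), ([7, 6, 1, 8, 0, 9, 8, 3, 6], [([1, 2], [0, 3, 1, 1, 3, 3, 0]), ([1, 2, 2], [0, 0, 3, 0, 0, 1, 0, 2, 0]), ([2, 2], [3, 2, 2, 1, 0, 0, 3])], [])]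
def strip (W : List ℕ) : List ℕ := W.filter (· < 11)
noncomputable def tH (e : ℕ) (h : List ℕ) : List ℕ := wcj (kh e h) t0
noncomputable def tkC (W : List ℕ) (c : List ℕ × List ℕ) : ℕ := ltAll 3 c.1 + ltAll 4 c.2 + eM W (H0.PM.flat TV c.2 ++ kw c.1)
noncomputable def rH (e : ℕ) (Wc W : List ℕ) : List (List ℕ × List ℕ) → List ℕ :=
  List.rec (motive := fun _ => List (List ℕ × List ℕ) → List ℕ) (fun _ => []) (fun k W ih cs => if k < 11 then ih cs else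
    if k = 11 then vw (apW PX (strip W ++ Wc) 676) ++ ih cs else tH e (cs.headD ([], [])).1 ++ ih cs.tail) W
noncomputable def rE (Wc W : List ℕ) : List (List ℕ × List ℕ) → ℕ :=
  List.rec (motive := fun _ => List (List ℕ × List ℕ) → ℕ) (fun _ => 0) (fun k W ih cs => if k < 12 then ih cs else
    tkC (Wt ++ (strip W ++ Wc)) (cs.headD ([], [])) + ih cs.tail) W
noncomputable def relC (e : ℕ) (W : List ℕ) (c : List ℕ × List (List ℕ × List ℕ) × List ℕ) : ℕ :=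
  ltAll 11 c.1 + rE c.1 W c.2.1 + ltAll 3 c.2.2 + eM (strip W ++ c.1) (c.1 ++ kw c.2.2) + eqH 10 0 (kh e c.2.2 ++ rH e c.1 W c.2.1) []
def RA : List (List ℕ) := [[12, 13], [0, 0], [1, 1], [2, 2], [3, 3], [4, 5], [5, 4], [6, 6], [7, 7], [8, 8], [9, 9], [10, 10], [11, 11], [2, 3, 2, 3], [1, 2, 1, 2], [1, 3, 1, 3], [0, 1, 0, 1], [0, 2, 0, 2], [0, 3, 0, 3], [4, 4, 4], [0, 5, 3, 4], [0, 3, 4, 3, 5], [0, 2, 4, 1, 5], [0, 1, 2, 5, 1, 4], [1, 6, 1, 6, 1, 6], [4, 6, 4, 6, 4, 6], [0, 6, 2, 4, 6, 3, 6], [1, 7, 2, 7], [4, 7, 4, 7], [6, 7, 6, 7, 6, 7], [4, 8, 4, 8], [7, 8, 7, 8], [3, 8, 3, 8, 3, 8], [2, 6, 2, 6, 8, 6, 8], [2, 9, 2, 9], [8, 9, 8, 9, 8, 9], [4, 9, 7, 9, 7], [0, 2, 6, 3, 5, 9, 6, 9], [2, 10, 2, 10], [4, 10, 4, 10], [8, 10, 8, 10], [6, 10, 6, 10], [7, 10, 7, 10], [9, 10, 9, 10, 9, 10], [11, 0, 11, 0], [11, 1, 11, 1], [11,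 2, 11, 2], [11, 3, 11, 3], [11, 4, 11, 5], [11, 6, 11, 6], [11, 9, 11, 9], [11, 10, 11, 10], [11, 7, 8, 6, 2, 1, 6, 8, 7, 11, 7, 8, 6, 1, 2, 6, 8, 7], [11, 7, 6, 8, 3, 9, 10, 8, 9, 3, 8, 6, 7, 11, 7, 6, 8, 3, 9, 8, 10, 9, 3, 8, 6, 7], [11, 8, 1, 6, 7, 11, 7, 6, 1, 8, 7, 0, 6, 2, 8, 7, 11, 7, 8, 2, 6, 0, 7], [4, 12, 5, 13], [8, 12, 8, 13], [10, 7, 12, 7, 10, 13], [0, 6, 9, 6, 0, 12, 0, 6, 9, 6, 0, 13], [1, 2, 8, 3, 2, 12, 2, 3, 8, 2, 1, 13], [6, 9, 6, 7, 6, 2, 12, 2, 6, 7, 6, 9, 6, 13], [10, 9, 8, 7, 11, 7, 8, 9, 10, 12, 11, 8, 3, 6, 9, 10, 0, 8, 2, 6, 1, 10, 11, 6, 9, 13], [12, 12], [12, 9, 12, 9, 8, 9, 12, 9, 8], [9, 6, 12, 6, 9, 12, 8, 9, 5, 6, 12, 6, 4, 9, 8, 12, 1, 5, 1, 6, 7, 8, 6, 9, 6, 8, 6, 9, 1, 6, 10, 9, 4, 8, 10, 6, 9, 0, 2], [8, 3, 9, 6, 0, 8, 1, 12, 1, 8, 0, 8, 3, 12, 3, 8, 6, 9, 3, 8, 0, 8, 3, 9, 6, 8, 3,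 12, 3, 8, 6, 9, 3, 8, 0, 11]]
noncomputable def yw_W : List (List ℕ) := [[nat_lit 2, nat_lit 6, nat_lit 2, nat_lit 7, nat_lit 6, nat_lit 2, nat_lit 8, nat_lit 2, nat_lit 3, nat_lit 9, nat_lit 8, nat_lit 1, nat_lit 10, nat_lit 9, nat_lit 8, nat_lit 3, nat_lit 10, nat_lit 5, nat_lit 9],
  [nat_lit 6, nat_lit 9, nat_lit 3, nat_lit 0, nat_lit 6, nat_lit 7, nat_lit 6, nat_lit 0, nat_lit 3, nat_lit 8, nat_lit 1, nat_lit 4, nat_lit 10, nat_lit 9, nat_lit 8, nat_lit 0]]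
noncomputable def yw_P : ℕ → ℕ → ℕ := wdsP H15.MM24.P yw_W
noncomputable def cyh_W : List (List ℕ) := [[nat_lit 4, nat_lit 6, nat_lit 3, nat_lit 7, nat_lit 6, nat_lit 1, nat_lit 4, nat_lit 1, nat_lit 8, nat_lit 1, nat_lit 3, nat_lit 9, nat_lit 8, nat_lit 0, nat_lit 1, nat_lit 4, nat_lit 10, nat_lit 9, nat_lit 8, nat_lit 1],
  [nat_lit 3, nat_lit 2, nat_lit 3, nat_lit 5, nat_lit 8, nat_lit 1, nat_lit 9, nat_lit 8, nat_lit 1, nat_lit 10, nat_lit 9, nat_lit 8, nat_lit 2, nat_lit 6],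
  [nat_lit 1, nat_lit 6, nat_lit 1, nat_lit 2, nat_lit 8, nat_lit 9, nat_lit 8, nat_lit 10, nat_lit 9, nat_lit 8, nat_lit 1, nat_lit 2, nat_lit 6],
  [nat_lit 2, nat_lit 6, nat_lit 2, nat_lit 7, nat_lit 6, nat_lit 5, nat_lit 8, nat_lit 1, nat_lit 2, nat_lit 6, nat_lit 9, nat_lit 8, nat_lit 3, nat_lit 10, nat_lit 9, nat_lit 8, nat_lit 1, nat_lit 2],
  [nat_lit 6, nat_lit 0, nat_lit 2, nat_lit 7, nat_lit 8, nat_lit 0, nat_lit 9, nat_lit 8, nat_lit 10, nat_lit 9, nat_lit 8, nat_lit 1, nat_lit 2, nat_lit 10],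
  [nat_lit 2, nat_lit 3, nat_lit 5, nat_lit 6, nat_lit 5, nat_lit 7, nat_lit 6, nat_lit 9, nat_lit 8, nat_lit 0, nat_lit 2, nat_lit 10, nat_lit 9, nat_lit 8, nat_lit 1, nat_lit 6, nat_lit 7],
  [nat_lit 0],
  [nat_lit 1],
  [nat_lit 2],
  [nat_lit 3],
  [nat_lit 4],
  [nat_lit 5],
  [nat_lit 6],
  [nat_lit 7],
  [nat_lit 8],
  [nat_lit 9],
  [nat_lit 10]]
noncomputable def cyh_P : ℕ → ℕ → ℕ := wdsP H15.MM24.P cyh_W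
noncomputable def cyl0Dd : ℕ := nat_lit 0x272214fa15b16f5e5d4e1f4d3e2e4c4b3c3b3a0e0c0b0a00
noncomputable def cyl0D (u : ℕ) : ℕ := Nat.land (Nat.shiftRight cyl0Dd (Nat.mul u (nat_lit 8))) (nat_lit 255)
noncomputable def cyl0Pd : ℕ := nat_lit 0xb88030b0954520b9bcedb2a464ba25
noncomputable def cyl0P (u : ℕ) : ℕ := Nat.land (Nat.shiftRight cyl0Pd (Nat.mul u (nat_lit 5))) (nat_lit 31)
noncomputable def cyl0Qd : ℕ := nat_lit 0xb9e0e5942d509126186f49011a5a75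
noncomputable def cyl0Q (u : ℕ) : ℕ := Nat.land (Nat.shiftRight cyl0Qd (Nat.mul u (nat_lit 5))) (nat_lit 31)
noncomputable def cyl0 : Lev := ⟨24, 17, cyl0D, cyl0P, cyl0Q⟩
noncomputable def cyl1Dd : ℕ := nat_lit 0x8d694a6547232c1f59453b3a271d1c1312110908070600
noncomputable def cyl1D (u : ℕ) : ℕ := Nat.land (Nat.shiftRight cyl1Dd (Nat.mul u (nat_lit 8))) (nat_lit 255)
noncomputable def cyl1Pd : ℕ := nat_lit 0x430de2e7cd94812a859db6548c9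
noncomputable def cyl1P (u : ℕ) : ℕ := Nat.land (Nat.shiftRight cyl1Pd (Nat.mul u (nat_lit 5))) (nat_lit 31)
noncomputable def cyl1Qd : ℕ := nat_lit 0x9112c70a2b7c0ad38c083040aa5676
noncomputable def cyl1Q (u : ℕ) : ℕ := Nat.land (Nat.shiftRight cyl1Qd (Nat.mul u (nat_lit 5))) (nat_lit 31)
noncomputable def cyl1 : Lev := ⟨23, 10, cyl1D, cyl1P, cyl1Q⟩
noncomputable def cyl2Dd : ℕ := nat_lit 0x26445c910a83a89297243cc9a202c30a0e20280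
noncomputable def cyl2D (u : ℕ) : ℕ := Nat.land (Nat.shiftRight cyl2Dd (Nat.mul u (nat_lit 7))) (nat_lit 127)
noncomputable def cyl2Pd : ℕ := nat_lit 0xeb75c6614540a4033b3ea4621b2
noncomputable def cyl2P (u : ℕ) : ℕ := Nat.land (Nat.shiftRight cyl2Pd (Nat.mul u (nat_lit 5))) (nat_lit 31)
noncomputable def cyl2Qd : ℕ := nat_lit 0x91cab401ca34c23a3402ac0048bd2c
noncomputable def cyl2Q (u : ℕ) : ℕ := Nat.land (Nat.shiftRight cyl2Qd (Nat.mul u (nat_lit 5))) (nat_lit 31)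
noncomputable def cyl2 : Lev := ⟨22, 6, cyl2D, cyl2P, cyl2Q⟩
noncomputable def cyl3Dd : ℕ := nat_lit 0x40589d09d2e7c920146cc1316144090c1c200
noncomputable def cyl3D (u : ℕ) : ℕ := Nat.land (Nat.shiftRight cyl3Dd (Nat.mul u (nat_lit 7))) (nat_lit 127)
noncomputable def cyl3Pd : ℕ := nat_lit 0x137116203e06a5c366a871432a7
noncomputable def cyl3P (u : ℕ) : ℕ := Nat.land (Nat.shiftRight cyl3Pd (Nat.mul u (nat_lit 5))) (nat_lit 31)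
noncomputable def cyl3Qd : ℕ := nat_lit 0x5202ba008d74ce289803030122c12f
noncomputable def cyl3Q (u : ℕ) : ℕ := Nat.land (Nat.shiftRight cyl3Qd (Nat.mul u (nat_lit 5))) (nat_lit 31)
noncomputable def cyl3 : Lev := ⟨21, 5, cyl3D, cyl3P, cyl3Q⟩
noncomputable def cyl4Dd : ℕ := nat_lit 0xca98237188547623c848b2471460c0
noncomputable def cyl4D (u : ℕ) : ℕ := Nat.land (Nat.shiftRight cyl4Dd (Nat.mul u (nat_lit 6))) (nat_lit 63)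
noncomputable def cyl4Pd : ℕ := nat_lit 0xa8d0e6c2ec7d2cb5088698411
noncomputable def cyl4P (u : ℕ) : ℕ := Nat.land (Nat.shiftRight cyl4Pd (Nat.mul u (nat_lit 5))) (nat_lit 31)
noncomputable def cyl4Qd : ℕ := nat_lit 0x6a66a1800e5c1ec41c110100591841
noncomputable def cyl4Q (u : ℕ) : ℕ := Nat.land (Nat.shiftRight cyl4Qd (Nat.mul u (nat_lit 5))) (nat_lit 31)
noncomputable def cyl4 : Lev := ⟨20, 4, cyl4D, cyl4P, cyl4Q⟩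
noncomputable def cyl5Dd : ℕ := nat_lit 0xaf2d79c22d4b8c320440
noncomputable def cyl5D (u : ℕ) : ℕ := Nat.land (Nat.shiftRight cyl5Dd (Nat.mul u (nat_lit 5))) (nat_lit 31)
noncomputable def cyl5Pd : ℕ := nat_lit 0xa8588a008b68e77519f6
noncomputable def cyl5P (u : ℕ) : ℕ := Nat.land (Nat.shiftRight cyl5Pd (Nat.mul u (nat_lit 5))) (nat_lit 31)
noncomputable def cyl5Qd : ℕ := nat_lit 0x40fb5000107d830c020960ea
noncomputable def cyl5Q (u : ℕ) : ℕ := Nat.land (Nat.shiftRight cyl5Qd (Nat.mul u (nat_lit 4))) (nat_lit 15)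
noncomputable def cyl5 : Lev := ⟨16, 3, cyl5D, cyl5P, cyl5Q⟩
noncomputable def cyl6Dd : ℕ := nat_lit 4
noncomputable def cyl6D (u : ℕ) : ℕ := Nat.land (Nat.shiftRight cyl6Dd (Nat.mul u (nat_lit 1))) (nat_lit 1)
noncomputable def cyl6Pd : ℕ := nat_lit 0xb18
noncomputable def cyl6P (u : ℕ) : ℕ := Nat.land (Nat.shiftRight cyl6Pd (Nat.mul u (nat_lit 4))) (nat_lit 15)
noncomputable def cyl6Qd : ℕ := nat_lit 0x800004
noncomputable def cyl6Q (u : ℕ) : ℕ := Nat.land (Nat.shiftRight cyl6Qd (Nat.mul u (nat_lit 2))) (nat_lit 3)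
noncomputable def cyl6 : Lev := ⟨3, 1, cyl6D, cyl6P, cyl6Q⟩
noncomputable def cyce_W : List (List ℕ) := [[nat_lit 4, nat_lit 2, nat_lit 6, nat_lit 5, nat_lit 7, nat_lit 6, nat_lit 3, nat_lit 4, nat_lit 8, nat_lit 2, nat_lit 10],
  [nat_lit 1, nat_lit 0, nat_lit 5, nat_lit 6, nat_lit 5, nat_lit 7, nat_lit 8, nat_lit 0, nat_lit 3, nat_lit 9, nat_lit 8, nat_lit 1, nat_lit 2, nat_lit 6, nat_lit 10, nat_lit 9, nat_lit 8, nat_lit 2, nat_lit 1, nat_lit 9]]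
noncomputable def cyce_P : ℕ → ℕ → ℕ := wdsP H15.MM24.P cyce_W
noncomputable def cycc0Dd : ℕ := nat_lit 0xd0
noncomputable def cycc0D (u : ℕ) : ℕ := Nat.land (Nat.shiftRight cycc0Dd (Nat.mul u (nat_lit 2))) (nat_lit 3)
noncomputable def cycc0Pd : ℕ := nat_lit 0x9f65
noncomputable def cycc0P (u : ℕ) : ℕ := Nat.land (Nat.shiftRight cycc0Pd (Nat.mul u (nat_lit 4))) (nat_lit 15)
noncomputable def cycc0Qd : ℕ := nat_lit 0x800c1000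
noncomputable def cycc0Q (u : ℕ) : ℕ := Nat.land (Nat.shiftRight cycc0Qd (Nat.mul u (nat_lit 2))) (nat_lit 3)
noncomputable def cycc0 : Lev := ⟨4, 2, cycc0D, cycc0P, cycc0Q⟩
noncomputable def cyn0Fd : ℕ := nat_lit 0x6ea4abae921aa88048
noncomputable def cyn0F (u : ℕ) : ℕ := Nat.land (Nat.shiftRight cyn0Fd (Nat.mul u (nat_lit 3))) (nat_lit 7)
noncomputable def cyn0 : Nd := ⟨cyn0F, (nat_lit 2), (nat_lit 2), [[nat_lit 1, nat_lit 1]], [((nat_lit 0), []), ((nat_lit 0), [nat_lit 1]), ((nat_lit 0), [nat_lit 0]), ((nat_lit 0), [nat_lit 0, nat_lit 1]), ((nat_lit 0), [nat_lit 0, nat_lit 0]), ((nat_lit 0), [nat_lit 1, nat_lit 0])], []⟩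
def PP : List (List ℕ) := [[9, 6], [6, 9], [8, 9, 5, 6], [6, 4, 9, 8], [1, 5, 1, 6, 7, 8, 6, 9, 6, 8, 6, 9, 1, 6, 10, 9, 4, 8, 10, 6, 9, 0, 2]]
def Wh : List ℕ := [3, 7, 6, 1]
def WA : List ℕ := [0, 3, 6, 10, 0, 1, 5, 1, 6, 7, 8, 6, 9, 6, 8, 6, 9, 1, 6, 10, 9, 4, 8, 10, 6, 9, 0, 2, 3, 7, 6, 1]
def g2w : List ℕ := [1, 7, 8, 7, 6, 2, 10, 6665]
def YD : List (List ℕ × List ℕ × ℕ) := [([0, 1, 2, 1, 2, 1, 2, 1, 2, 1, 2, 0, 1, 2], [1, 0, 3, 2, 0, 1, 0, 3], 0), ([0, 2, 1, 2, 0, 1, 1], [0, 2, 0, 1, 3, 3, 1, 1], 0), ([1, 1, 2, 2, 1, 1, 1], [0, 1, 0, 3, 0, 1, 1, 0, 3], 2)]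
noncomputable def yH (e i : ℕ) : List ℕ := wcj g2w (kh e (nth ([], [], 0) YD i).1 ++ vw (apW PX WA (nth ([], [], 0) YD i).2.2))
def GW : List (List ℕ) := [[2], [6], [11], [1, 3], [9], [10], [8, 6, 3, 7, 6, 1, 5, 8, 7, 6]]
def GC : List (List ℕ × ℕ) := [([0, 1, 2, 6, 1, 0, 1, 6, 2, 1], 0), ([0, 2, 1, 3, 6, 3, 6, 3, 1, 2, 3], 0), ([0], 0), ([0, 2, 1, 3, 6, 3, 6, 3, 1, 2], 0), ([1, 6, 0, 1, 6, 1, 0, 6, 3], 0), ([3, 6, 0, 1, 6, 1, 0, 6, 1], 0), ([1], 0), ([0, 2, 3, 2, 3, 2, 3, 2, 3], 4096), ([0, 6, 0, 6], 4096), ([4], 0), ([5], 0), ([2], 0), ([2], 0)]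

theorem KZ_ok : ∀ j < 3, muC (nth [] KZ j) (nth [] KV j) ∧ htChk (nth 0 AT j) (nth [] AC j) = true ∧ ∀ i < 11, apW PX (nth [] KV j) (2 ^ i) = linL (nth [] AC j) (2 ^ i) := by decide +kernel
theorem KR_ok : ∀ r ∈ KR, ltAll 3 r.1 = 0 ∧ r.2 < 2048 ∧ eM (H0.PM.flat KV r.1) [] = 0 ∧ eqH 10 0 (H0.PM.flat KZ r.1) (vw r.2) = 0 := by decide +kernel
theorem K1_ok : ∀ a < 2048, twv A1 (nth 0 [a]) [0, 0, 0] 0 = 0 → A1 0 a ^^^ A1 0 (A1 0 a) = a := by decide +kernel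
theorem K2_ok : ∀ a < 2048, twv A1 (nth 0 [0, a]) [1, 1, 1, 1, 1] 0 = 0 → twv A1 (nth 0 [0, a]) [0, 1, 0, 0, 1, 1, 1, 1] 0 = 0 → ∀ w ∈ [A1 1 a ^^^ A1 1 (A1 1 (A1 1 a))], A1 0 w = w ∧ w ^^^ A1 1 w = a := by decide +kernel
theorem K3_ok : ∀ a < 2048, (∀ r ∈ KR, twv A1 (nth 0 [0, 0, a]) r.1 0 = r.2) → ∃ e < 2, a = 1694 ^^^ e ∨ 800 ^^^ a = 1694 ^^^ e := by decide +kernel
theorem dl_ok : (∀ k < 11, nth 0 dl k < 2048) ∧ (∀ r ∈ H15.MM24.Rl, twv PX (nth 0 dl) r 0 = 0) ∧ ∀ j < 3, twv PX (nth 0 dl) (nth [] KV j) 0 = nth 0 [0, 0, 800] j := by decide +kernel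
theorem KY_ok : ∀ e < 2, allL (ltAll 8205) (KH e) = true ∧ eqH 10 0 (nth [] KZ 2 ++ vw (1694 ^^^ e)) (nth [] (KH e) 2) = 0 := by decide +kernel
theorem nw_lt : allL (ltAll 11) nw_W = true := by decide +kernel
theorem cnh_lt : allL (ltAll 11) cnh_W = true := by decide +kernel
theorem cnl0_e_0 : allZ (dent cnl0 cnh_P (nat_lit 24)) (nat_lit 0) (nat_lit 23) = true := by decide +kernel
theorem cnl0_h : 0 < cnl0.n ∧ 0 < cnl0.K ∧ cnl0.Pt 0 < 24 ∧ cnl0.Q (cnl0.Pt 0) = 0 := by decide +kernel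
theorem cnl1_e_0 : allZ (dent cnl1 cnh_P (nat_lit 24)) (nat_lit 0) (nat_lit 22) = true := by decide +kernel
theorem cnl1_h : 0 < cnl1.n ∧ 0 < cnl1.K ∧ cnl1.Pt 0 < 24 ∧ cnl1.Q (cnl1.Pt 0) = 0 := by decide +kernel
theorem cnl2_e_0 : allZ (dent cnl2 cnh_P (nat_lit 24)) (nat_lit 0) (nat_lit 21) = true := by decide +kernel
theorem cnl2_h : 0 < cnl2.n ∧ 0 < cnl2.K ∧ cnl2.Pt 0 < 24 ∧ cnl2.Q (cnl2.Pt 0) = 0 := by decide +kernel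
theorem cnl3_e_0 : allZ (dent cnl3 cnh_P (nat_lit 24)) (nat_lit 0) (nat_lit 20) = true := by decide +kernel
theorem cnl3_h : 0 < cnl3.n ∧ 0 < cnl3.K ∧ cnl3.Pt 0 < 24 ∧ cnl3.Q (cnl3.Pt 0) = 0 := by decide +kernel
theorem cnl4_e_0 : allZ (dent cnl4 cnh_P (nat_lit 24)) (nat_lit 0) (nat_lit 19) = true := by decide +kernel
theorem cnl4_h : 0 < cnl4.n ∧ 0 < cnl4.K ∧ cnl4.Pt 0 < 24 ∧ cnl4.Q (cnl4.Pt 0) = 0 := by decide +kernel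
theorem cnl5_e_0 : allZ (dent cnl5 cnh_P (nat_lit 24)) (nat_lit 0) (nat_lit 15) = true := by decide +kernel
theorem cnl5_h : 0 < cnl5.n ∧ 0 < cnl5.K ∧ cnl5.Pt 0 < 24 ∧ cnl5.Q (cnl5.Pt 0) = 0 := by decide +kernel
theorem cnl6_e_0 : allZ (dent cnl6 cnh_P (nat_lit 24)) (nat_lit 0) (nat_lit 2) = true := by decide +kernel
theorem cnl6_h : 0 < cnl6.n ∧ 0 < cnl6.K ∧ cnl6.Pt 0 < 24 ∧ cnl6.Q (cnl6.Pt 0) = 0 := by decide +kernel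
theorem cn_f6 : (Nat.ble cnl6.K 18 && Nat.ble (topK []) cnl6.K && fixLetters cnh_P (topK []) (cnl6.Pt 0)) = true := by decide +kernel
theorem cn_f5 : (Nat.ble cnl5.K 18 && Nat.ble (topK [cnl6]) cnl5.K && fixLetters cnh_P (topK [cnl6]) (cnl5.Pt 0)) = true := by decide +kernel
theorem cn_f4 : (Nat.ble cnl4.K 18 && Nat.ble (topK [cnl5, cnl6]) cnl4.K && fixLetters cnh_P (topK [cnl5, cnl6]) (cnl4.Pt 0)) = true := by decide +kernel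
theorem cn_f3 : (Nat.ble cnl3.K 18 && Nat.ble (topK [cnl4, cnl5, cnl6]) cnl3.K && fixLetters cnh_P (topK [cnl4, cnl5, cnl6]) (cnl3.Pt 0)) = true := by decide +kernel
theorem cn_f2 : (Nat.ble cnl2.K 18 && Nat.ble (topK [cnl3, cnl4, cnl5, cnl6]) cnl2.K && fixLetters cnh_P (topK [cnl3, cnl4, cnl5, cnl6]) (cnl2.Pt 0)) = true := by decide +kernel
theorem cn_f1 : (Nat.ble cnl1.K 18 && Nat.ble (topK [cnl2, cnl3, cnl4, cnl5, cnl6]) cnl1.K && fixLetters cnh_P (topK [cnl2, cnl3, cnl4, cnl5, cnl6]) (cnl1.Pt 0)) = true := by decide +kernel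
theorem cn_f0 : (Nat.ble cnl0.K 18 && Nat.ble (topK [cnl1, cnl2, cnl3, cnl4, cnl5, cnl6]) cnl0.K && fixLetters cnh_P (topK [cnl1, cnl2, cnl3, cnl4, cnl5, cnl6]) (cnl0.Pt 0)) = true := by decide +kernel
theorem cn_c : chainCard [cnl0, cnl1, cnl2, cnl3, cnl4, cnl5, cnl6] = 244823040 := by decide +kernel
theorem cnce_lt : allL (ltAll 11) cnce_W = true := by decide +kernel
theorem cnc_f6 : (Nat.ble cnl6.K 18 && Nat.blt (nat_lit 21) 24 && fixLetters cnh_P cnl6.K (nat_lit 21) && Nat.beq (ltAll 2 [nat_lit 0, nat_lit 0, nat_lit 1]) 0 && Nat.beq (apW nw_P [nat_lit 0, nat_lit 0, nat_lit 1] (nat_lit 21)) (cnl6.Pt 0)) = true := by decide +kernel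
theorem cnc_f5 : (Nat.ble cnl5.K 18 && Nat.blt (nat_lit 21) 24 && fixLetters cnh_P cnl5.K (nat_lit 21) && Nat.beq (ltAll 2 [nat_lit 0, nat_lit 1, nat_lit 0]) 0 && Nat.beq (apW nw_P [nat_lit 0, nat_lit 1, nat_lit 0] (nat_lit 21)) (cnl5.Pt 0)) = true := by decide +kernel
theorem cnc_f4 : (Nat.ble cnl4.K 18 && Nat.blt (nat_lit 21) 24 && fixLetters cnh_P cnl4.K (nat_lit 21) && Nat.beq (ltAll 2 [nat_lit 0, nat_lit 0, nat_lit 0]) 0 && Nat.beq (apW nw_P [nat_lit 0, nat_lit 0, nat_lit 0] (nat_lit 21)) (cnl4.Pt 0)) = true := by decide +kernel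
theorem cnc_f3 : (Nat.ble cnl3.K 18 && Nat.blt (nat_lit 21) 24 && fixLetters cnh_P cnl3.K (nat_lit 21) && Nat.beq (ltAll 2 [nat_lit 0, nat_lit 1]) 0 && Nat.beq (apW nw_P [nat_lit 0, nat_lit 1] (nat_lit 21)) (cnl3.Pt 0)) = true := by decide +kernel
theorem cnc_f2 : (Nat.ble cnl2.K 18 && Nat.blt (nat_lit 21) 24 && fixLetters cnh_P cnl2.K (nat_lit 21) && Nat.beq (ltAll 2 [nat_lit 0, nat_lit 0]) 0 && Nat.beq (apW nw_P [nat_lit 0, nat_lit 0] (nat_lit 21)) (cnl2.Pt 0)) = true := by decide +kernel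
theorem cnc_f1 : (Nat.ble cnl1.K 18 && Nat.blt (nat_lit 21) 24 && fixLetters cnh_P cnl1.K (nat_lit 21) && Nat.beq (ltAll 2 [nat_lit 0]) 0 && Nat.beq (apW nw_P [nat_lit 0] (nat_lit 21)) (cnl1.Pt 0)) = true := by decide +kernel
theorem cnn0_0 : (Nat.ble cnl0.K 18 && Nat.beq (ltAll 24 []) 0 && kChk cnce_P nw_P cnn0.Kn 2 H15.MM24.B [] && allL (ltAll 2) cnn0.pre && planOK cnh_P nw_P 2 (cnl0.Pt 0) cnn0.plan [cnl0, cnl1, cnl2, cnl3, cnl4, cnl5, cnl6]) = true := by decide +kernel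
theorem cnn0_1_0 : allZ (cnn0.ent H15.MM24.P cnh_P nw_P nw_P cnce_P (nat_lit 11) (nat_lit 2) H15.MM24.B cnl0 [cnl1, cnl2, cnl3, cnl4, cnl5, cnl6] (fun w => Nat.xor w (cnl0.Pt (nat_lit 0)))) (nat_lit 0) (nat_lit 24) = true := by decide +kernel
theorem cnc_c : chainCard [] = 1 ∧ topK [] = 0 := by decide +kernel
theorem TU_ok : allL (ltAll 11) TV = true ∧ ∀ e < 2, ∀ j < 3, ltAll 3 (nth [] TU j) = 0 ∧ eM (nth [] TV j) (kw (nth [] TU j)) = 0 ∧ eqH 10 0 (kh e (nth [] TU j) ++ t0) (t0 ++ kh e (nth [] TU j)) = 0 := by decide +kernel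
theorem Ur_ok : ltAll 3 Ur = 0 ∧ eM (kw Ur ++ nth [] TV 3) (nth [] TV 3 ++ kw Ur) = 0 ∧ apW PX (nth [] TV 3) 1 ≠ 1 ∧ eqH 10 0 (t0 ++ t0) [] = 0 ∧ ltAll 8205 g1w = 0 ∧ eqH 10 0 (wcj g1w t0) (vw 135) = 0 ∧ ∀ e < 2, eqH 10 0 (kh e Ur ++ kh e Ur ++ kh e Ur) [] = 0 ∧ apW PD (kh e Ur) 2 ≠ 2 ∧ eqH 10 0 (kh e Ur ++ t0) (t0 ++ kh e Ur) = 0 ∧ ∀ i < 2, ltAll 3 (nth [] NU i) = 0 ∧ eqH 10 0 (kh e Ur ++ kh e (nth [] NU i)) (kh e (nth [] NU i) ++ (List.replicate (nth 0 NJ i) (kh e Ur)).flatten) = 0 ∧ muC (wcj g1w (kh e (nth [] NU i))) (nth [] nw_W i) := by decide +kernel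
theorem fix_ok2 : tyV 134 = 2 ∧ ∀ a < 2048, apW PX (nth [] nw_W 0) a = a → apW PX (nth [] nw_W 1) a = a → tyV a = 1 → a = 1 ∨ a = 135 := by decide +kernel
theorem RC_ok : RA.length = 66 ∧ ltAll 11 Wt = 0 ∧ ∀ e < 2, ∀ i < 66, i ≠ 64 → relC e (nth [] RA i) (nth ([], [], []) RC i) = 0 := by decide +kernel
theorem yw_lt : allL (ltAll 11) yw_W = true := by decide +kernel
theorem cyh_lt : allL (ltAll 11) cyh_W = true := by decide +kernel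
theorem cyl0_e_0 : allZ (dent cyl0 cyh_P (nat_lit 24)) (nat_lit 0) (nat_lit 23) = true := by decide +kernel
theorem cyl0_h : 0 < cyl0.n ∧ 0 < cyl0.K ∧ cyl0.Pt 0 < 24 ∧ cyl0.Q (cyl0.Pt 0) = 0 := by decide +kernel
theorem cyl1_e_0 : allZ (dent cyl1 cyh_P (nat_lit 24)) (nat_lit 0) (nat_lit 22) = true := by decide +kernel
theorem cyl1_h : 0 < cyl1.n ∧ 0 < cyl1.K ∧ cyl1.Pt 0 < 24 ∧ cyl1.Q (cyl1.Pt 0) = 0 := by decide +kernel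
theorem cyl2_e_0 : allZ (dent cyl2 cyh_P (nat_lit 24)) (nat_lit 0) (nat_lit 21) = true := by decide +kernel
theorem cyl2_h : 0 < cyl2.n ∧ 0 < cyl2.K ∧ cyl2.Pt 0 < 24 ∧ cyl2.Q (cyl2.Pt 0) = 0 := by decide +kernel
theorem cyl3_e_0 : allZ (dent cyl3 cyh_P (nat_lit 24)) (nat_lit 0) (nat_lit 20) = true := by decide +kernel
theorem cyl3_h : 0 < cyl3.n ∧ 0 < cyl3.K ∧ cyl3.Pt 0 < 24 ∧ cyl3.Q (cyl3.Pt 0) = 0 := by decide +kernel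
theorem cyl4_e_0 : allZ (dent cyl4 cyh_P (nat_lit 24)) (nat_lit 0) (nat_lit 19) = true := by decide +kernel
theorem cyl4_h : 0 < cyl4.n ∧ 0 < cyl4.K ∧ cyl4.Pt 0 < 24 ∧ cyl4.Q (cyl4.Pt 0) = 0 := by decide +kernel
theorem cyl5_e_0 : allZ (dent cyl5 cyh_P (nat_lit 24)) (nat_lit 0) (nat_lit 15) = true := by decide +kernel
theorem cyl5_h : 0 < cyl5.n ∧ 0 < cyl5.K ∧ cyl5.Pt 0 < 24 ∧ cyl5.Q (cyl5.Pt 0) = 0 := by decide +kernel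
theorem cyl6_e_0 : allZ (dent cyl6 cyh_P (nat_lit 24)) (nat_lit 0) (nat_lit 2) = true := by decide +kernel
theorem cyl6_h : 0 < cyl6.n ∧ 0 < cyl6.K ∧ cyl6.Pt 0 < 24 ∧ cyl6.Q (cyl6.Pt 0) = 0 := by decide +kernel
theorem cy_f6 : (Nat.ble cyl6.K 17 && Nat.ble (topK []) cyl6.K && fixLetters cyh_P (topK []) (cyl6.Pt 0)) = true := by decide +kernel
theorem cy_f5 : (Nat.ble cyl5.K 17 && Nat.ble (topK [cyl6]) cyl5.K && fixLetters cyh_P (topK [cyl6]) (cyl5.Pt 0)) = true := by decide +kernel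
theorem cy_f4 : (Nat.ble cyl4.K 17 && Nat.ble (topK [cyl5, cyl6]) cyl4.K && fixLetters cyh_P (topK [cyl5, cyl6]) (cyl4.Pt 0)) = true := by decide +kernel
theorem cy_f3 : (Nat.ble cyl3.K 17 && Nat.ble (topK [cyl4, cyl5, cyl6]) cyl3.K && fixLetters cyh_P (topK [cyl4, cyl5, cyl6]) (cyl3.Pt 0)) = true := by decide +kernel
theorem cy_f2 : (Nat.ble cyl2.K 17 && Nat.ble (topK [cyl3, cyl4, cyl5, cyl6]) cyl2.K && fixLetters cyh_P (topK [cyl3, cyl4, cyl5, cyl6]) (cyl2.Pt 0)) = true := by decide +kernel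
theorem cy_f1 : (Nat.ble cyl1.K 17 && Nat.ble (topK [cyl2, cyl3, cyl4, cyl5, cyl6]) cyl1.K && fixLetters cyh_P (topK [cyl2, cyl3, cyl4, cyl5, cyl6]) (cyl1.Pt 0)) = true := by decide +kernel
theorem cy_f0 : (Nat.ble cyl0.K 17 && Nat.ble (topK [cyl1, cyl2, cyl3, cyl4, cyl5, cyl6]) cyl0.K && fixLetters cyh_P (topK [cyl1, cyl2, cyl3, cyl4, cyl5, cyl6]) (cyl0.Pt 0)) = true := by decide +kernel
theorem cy_c : chainCard [cyl0, cyl1, cyl2, cyl3, cyl4, cyl5, cyl6] = 244823040 := by decide +kernel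
theorem cyce_lt : allL (ltAll 11) cyce_W = true := by decide +kernel
theorem cyc_f6 : (Nat.ble cyl6.K 17 && Nat.blt (nat_lit 5) 24 && fixLetters cyh_P cyl6.K (nat_lit 5) && Nat.beq (ltAll 2 [nat_lit 1, nat_lit 0, nat_lit 0]) 0 && Nat.beq (apW yw_P [nat_lit 1, nat_lit 0, nat_lit 0] (nat_lit 5)) (cyl6.Pt 0)) = true := by decide +kernel
theorem cyc_f5 : (Nat.ble cyl5.K 17 && Nat.blt (nat_lit 5) 24 && fixLetters cyh_P cyl5.K (nat_lit 5) && Nat.beq (ltAll 2 [nat_lit 1, nat_lit 0]) 0 && Nat.beq (apW yw_P [nat_lit 1, nat_lit 0] (nat_lit 5)) (cyl5.Pt 0)) = true := by decide +kernel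
theorem cyc_f4 : (Nat.ble cyl4.K 17 && Nat.blt (nat_lit 5) 24 && fixLetters cyh_P cyl4.K (nat_lit 5) && Nat.beq (ltAll 2 [nat_lit 0, nat_lit 0]) 0 && Nat.beq (apW yw_P [nat_lit 0, nat_lit 0] (nat_lit 5)) (cyl4.Pt 0)) = true := by decide +kernel
theorem cyc_f3 : (Nat.ble cyl3.K 17 && Nat.blt (nat_lit 5) 24 && fixLetters cyh_P cyl3.K (nat_lit 5) && Nat.beq (ltAll 2 [nat_lit 0, nat_lit 1]) 0 && Nat.beq (apW yw_P [nat_lit 0, nat_lit 1] (nat_lit 5)) (cyl3.Pt 0)) = true := by decide +kernel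
theorem cyc_f2 : (Nat.ble cyl2.K 17 && Nat.blt (nat_lit 5) 24 && fixLetters cyh_P cyl2.K (nat_lit 5) && Nat.beq (ltAll 2 [nat_lit 0]) 0 && Nat.beq (apW yw_P [nat_lit 0] (nat_lit 5)) (cyl2.Pt 0)) = true := by decide +kernel
theorem cyc_f1 : (Nat.ble cyl1.K 17 && Nat.blt (nat_lit 5) 24 && fixLetters cyh_P cyl1.K (nat_lit 5) && Nat.beq (ltAll 2 [nat_lit 1]) 0 && Nat.beq (apW yw_P [nat_lit 1] (nat_lit 5)) (cyl1.Pt 0)) = true := by decide +kernel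
theorem cycc0_e_0 : allZ (dent cycc0 cyce_P (nat_lit 24)) (nat_lit 0) (nat_lit 3) = true := by decide +kernel
theorem cycc0_h : 0 < cycc0.n ∧ 0 < cycc0.K ∧ cycc0.Pt 0 < 24 ∧ cycc0.Q (cycc0.Pt 0) = 0 := by decide +kernel
theorem cyn0_0 : (Nat.ble cyl0.K 17 && Nat.beq (ltAll 24 []) 0 && kChk cyce_P yw_P cyn0.Kn 2 H15.MM24.B [] && allL (ltAll 2) cyn0.pre && planOK cyh_P yw_P 2 (cyl0.Pt 0) cyn0.plan [cyl0, cyl1, cyl2, cyl3, cyl4, cyl5, cyl6]) = true := by decide +kernel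
theorem cyn0_1_0 : allZ (cyn0.ent H15.MM24.P cyh_P yw_P yw_P cyce_P (nat_lit 11) (nat_lit 2) H15.MM24.B cyl0 [cyl1, cyl2, cyl3, cyl4, cyl5, cyl6] (memO cycc0)) (nat_lit 0) (nat_lit 24) = true := by decide +kernel
theorem cyc_f0 : (Nat.ble cycc0.K 2 && Nat.ble (topK []) cycc0.K && Nat.beq (cycc0.Pt 0) (cyl0.Pt 0) && Nat.beq (ltAll 24 []) 0 && kChk cyce_P yw_P cycc0.K 2 H15.MM24.B []) = true := by decide +kernel
theorem cyc_c : chainCard [cycc0] = 4 ∧ topK [cycc0] = 2 := by decide +kernel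
theorem hd_ok : nth [] RA 64 = nth [] PP 0 ++ 12 :: (nth [] PP 1 ++ 12 :: (nth [] PP 2 ++ 12 :: (nth [] PP 3 ++ 12 :: nth [] PP 4))) ∧ allL (ltAll 11) PP = true ∧ ltAll 11 Wh = 0 ∧ ltAll 8205 g2w = 0 ∧ WA = Wt ++ (nth [] PP 4 ++ Wh) ∧ tkC (Wt ++ (nth [] PP 3 ++ (nth [] PP 4 ++ Wh))) ([2, 2, 2, 1], [2, 3, 0, 1, 1, 0, 0]) = 0 ∧ eM (Wt ++ (nth [] PP 2 ++ (nth [] PP 3 ++ (nth [] PP 4 ++ Wh)))) (H0.PM.flat TV [] ++ WA) = 0 ∧ tkC (Wt ++ (nth [] PP 1 ++ (nth [] PP 2 ++ (nth [] PP 3 ++ (nth [] PP 4 ++ Wh))))) ([2, 1], [0, 2, 0, 1, 3, 3, 1, 0]) = 0 ∧ eM (nth [] PP 0 ++ (nth [] PP 1 ++ (nth [] PP 2 ++ (nth [] PP 3 ++ (nth [] PP 4 ++ Wh))))) (Wh ++ kw [1, 2, 0, 2, 0, 2, 2, 1, 1, 1, 1]) = 0 ∧ ∀ e < 2, eqH 10 0 (wcj g2w (tH e [2, 2, 2, 1])) (vw 1868) = 0 ∧ eqH 10 0 (wcj g2w (tH e [2, 1])) (vw 920) = 0 ∧ eqH 10 0 (wcj g2w (kh e [1, 2,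 0, 2, 0, 2, 2, 1, 1, 1, 1])) (vw 55) = 0 := by decide +kernel
theorem hy_ok : (∀ c ∈ YD, ltAll 3 c.1 = 0 ∧ ltAll 4 c.2.1 = 0 ∧ c.2.2 < 8 ∧ eM (WA ++ kw c.1) (H0.PM.flat TV c.2.1 ++ WA) = 0) ∧ (∀ a < 8, eqH 10 0 (vw a ++ t0) (t0 ++ vw a) = 0) ∧ tyV 83 = 2 ∧ ∀ e < 2, eqH 10 0 (yH e 0) (vw 83) = 0 ∧ ∀ i < 2, muC (yH e (i + 1)) (nth [] yw_W i) := by decide +kernel
theorem hn_ok : apW PX WA 259 = 1 ∧ apW PD (t0 ++ vw 259) 2 ≠ apW PD (vw 259 ++ t0) 2 ∧ ∀ b < 4, ∀ W ∈ [H0.PM.flat cyce_W (bw b 2)], apW PX W 83 ≠ 83 ∨ apW PX W 1 = 1 ∨ apW PX W 1868 = 920 ^^^ 55 := by decide +kernel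
theorem cy_pc : eM (H0.PM.flat cyce_W [0, 0]) [] = 0 ∧ eM (H0.PM.flat cyce_W [1, 1]) [] = 0 ∧ eM (H0.PM.flat cyce_W [0, 1]) (H0.PM.flat cyce_W [1, 0]) = 0 := by decide +kernel
theorem GC_ok : (∀ k < 13, ∀ c ∈ [nth ([], 0) GC k], ltAll 7 c.1 = 0 ∧ c.2 < 8192 ∧ eqH 10 c.2 [k] (H0.PM.flat GW c.1) = 0) ∧ (∀ k < 6, nth [] GW k = nth [] PW k) ∧ nth [] GW 6 = t0 ∧ apW PX [7, 6, 1, 8, 0, 9, 8, 3, 6] 676 = 1 ∧ ∀ i < 11, ∀ b ∈ [nth 0 [2, 1, 1, 1, 4, 2, 1, 1, 1, 2, 1] i], b < 2048 ∧ tyV b = 1 ∧ tyV (b ^^^ 2 ^ i) = 1 := by decide +kernel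

theorem nw_act {G Ω : Type*} [Group G] [MulAction G Ω] {g : ℕ → G} {pt : ℕ → Ω}
    (M : Md g pt H15.MM24.P 24 11 H15.MM24.B 244823040) : Act (wds g nw_W) pt nw_P 24 2 :=
  M.wact nw_lt
theorem cnh_act {G Ω : Type*} [Group G] [MulAction G Ω] {g : ℕ → G} {pt : ℕ → Ω}
    (M : Md g pt H15.MM24.P 24 11 H15.MM24.B 244823040) : Act (wds g cnh_W) pt cnh_P 24 18 :=
  M.wact cnh_lt
theorem cnl0_e : ∀ i < 23, (dent cnl0 cnh_P (nat_lit 24)) i = 0 := allZ_sound0 cnl0_e_0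
theorem cnl0_ok : DOK cnl0 cnh_P 24 := ⟨cnl0_h, cnl0_e⟩
theorem cnl1_e : ∀ i < 22, (dent cnl1 cnh_P (nat_lit 24)) i = 0 := allZ_sound0 cnl1_e_0
theorem cnl1_ok : DOK cnl1 cnh_P 24 := ⟨cnl1_h, cnl1_e⟩
theorem cnl2_e : ∀ i < 21, (dent cnl2 cnh_P (nat_lit 24)) i = 0 := allZ_sound0 cnl2_e_0
theorem cnl2_ok : DOK cnl2 cnh_P 24 := ⟨cnl2_h, cnl2_e⟩
theorem cnl3_e : ∀ i < 20, (dent cnl3 cnh_P (nat_lit 24)) i = 0 := allZ_sound0 cnl3_e_0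
theorem cnl3_ok : DOK cnl3 cnh_P 24 := ⟨cnl3_h, cnl3_e⟩
theorem cnl4_e : ∀ i < 19, (dent cnl4 cnh_P (nat_lit 24)) i = 0 := allZ_sound0 cnl4_e_0
theorem cnl4_ok : DOK cnl4 cnh_P 24 := ⟨cnl4_h, cnl4_e⟩
theorem cnl5_e : ∀ i < 15, (dent cnl5 cnh_P (nat_lit 24)) i = 0 := allZ_sound0 cnl5_e_0
theorem cnl5_ok : DOK cnl5 cnh_P 24 := ⟨cnl5_h, cnl5_e⟩
theorem cnl6_e : ∀ i < 2, (dent cnl6 cnh_P (nat_lit 24)) i = 0 := allZ_sound0 cnl6_e_0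
theorem cnl6_ok : DOK cnl6 cnh_P 24 := ⟨cnl6_h, cnl6_e⟩
theorem cn_low {G Ω : Type*} [Group G] [MulAction G Ω] {g : ℕ → G} {pt : ℕ → Ω}
    (M : Md g pt H15.MM24.P 24 11 H15.MM24.B 244823040) : SLow (gi (wds g cnh_W)) pt 24 [cnl0, cnl1, cnl2, cnl3, cnl4, cnl5, cnl6] :=
  (((((((SLow.nil).cons cnl6_ok (cnh_act M) cn_f6).cons cnl5_ok (cnh_act M) cn_f5).cons cnl4_ok (cnh_act M) cn_f4).cons cnl3_ok (cnh_act M) cn_f3).cons cnl2_ok (cnh_act M) cn_f2).cons cnl1_ok (cnh_act M) cn_f1).cons cnl0_ok (cnh_act M) cn_f0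
theorem cn_S0 {G Ω : Type*} [Group G] [MulAction G Ω] {g : ℕ → G} {pt : ℕ → Ω}
    (M : Md g pt H15.MM24.P 24 11 H15.MM24.B 244823040) : Stage ⊤ (wds g cnh_W) pt 24 [cnl0, cnl1, cnl2, cnl3, cnl4, cnl5, cnl6] [] :=
  M.stage (cn_low M) cn_c
theorem cn_S1 {G Ω : Type*} [Group G] [MulAction G Ω] {g : ℕ → G} {pt : ℕ → Ω}
    (M : Md g pt H15.MM24.P 24 11 H15.MM24.B 244823040) : Stage ⊤ (wds g cnh_W) pt 24 [cnl1, cnl2, cnl3, cnl4, cnl5, cnl6] [cnl0.Pt 0] :=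
  (cn_S0 M).next
theorem cn_S2 {G Ω : Type*} [Group G] [MulAction G Ω] {g : ℕ → G} {pt : ℕ → Ω}
    (M : Md g pt H15.MM24.P 24 11 H15.MM24.B 244823040) : Stage ⊤ (wds g cnh_W) pt 24 [cnl2, cnl3, cnl4, cnl5, cnl6] [cnl1.Pt 0, cnl0.Pt 0] :=
  (cn_S1 M).next
theorem cn_S3 {G Ω : Type*} [Group G] [MulAction G Ω] {g : ℕ → G} {pt : ℕ → Ω}
    (M : Md g pt H15.MM24.P 24 11 H15.MM24.B 244823040) : Stage ⊤ (wds g cnh_W) pt 24 [cnl3, cnl4, cnl5, cnl6] [cnl2.Pt 0, cnl1.Pt 0, cnl0.Pt 0] :=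
  (cn_S2 M).next
theorem cn_S4 {G Ω : Type*} [Group G] [MulAction G Ω] {g : ℕ → G} {pt : ℕ → Ω}
    (M : Md g pt H15.MM24.P 24 11 H15.MM24.B 244823040) : Stage ⊤ (wds g cnh_W) pt 24 [cnl4, cnl5, cnl6] [cnl3.Pt 0, cnl2.Pt 0, cnl1.Pt 0, cnl0.Pt 0] :=
  (cn_S3 M).next
theorem cn_S5 {G Ω : Type*} [Group G] [MulAction G Ω] {g : ℕ → G} {pt : ℕ → Ω}
    (M : Md g pt H15.MM24.P 24 11 H15.MM24.B 244823040) : Stage ⊤ (wds g cnh_W) pt 24 [cnl5, cnl6] [cnl4.Pt 0, cnl3.Pt 0, cnl2.Pt 0, cnl1.Pt 0, cnl0.Pt 0] :=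
  (cn_S4 M).next
theorem cn_S6 {G Ω : Type*} [Group G] [MulAction G Ω] {g : ℕ → G} {pt : ℕ → Ω}
    (M : Md g pt H15.MM24.P 24 11 H15.MM24.B 244823040) : Stage ⊤ (wds g cnh_W) pt 24 [cnl6] [cnl5.Pt 0, cnl4.Pt 0, cnl3.Pt 0, cnl2.Pt 0, cnl1.Pt 0, cnl0.Pt 0] :=
  (cn_S5 M).next
theorem cn_S7 {G Ω : Type*} [Group G] [MulAction G Ω] {g : ℕ → G} {pt : ℕ → Ω}
    (M : Md g pt H15.MM24.P 24 11 H15.MM24.B 244823040) : Stage ⊤ (wds g cnh_W) pt 24 [] [cnl6.Pt 0, cnl5.Pt 0, cnl4.Pt 0, cnl3.Pt 0, cnl2.Pt 0, cnl1.Pt 0, cnl0.Pt 0] :=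
  (cn_S6 M).next
theorem cnce_act {G Ω : Type*} [Group G] [MulAction G Ω] {g : ℕ → G} {pt : ℕ → Ω}
    (M : Md g pt H15.MM24.P 24 11 H15.MM24.B 244823040) : Act (wds g cnce_W) pt cnce_P 24 0 :=
  M.wact cnce_lt
theorem cnn0_1 : ∀ i < 24, (cnn0.ent H15.MM24.P cnh_P nw_P nw_P cnce_P (nat_lit 11) (nat_lit 2) H15.MM24.B cnl0 [cnl1, cnl2, cnl3, cnl4, cnl5, cnl6] (fun w => Nat.xor w (cnl0.Pt (nat_lit 0)))) i = 0 := allZ_sound0 cnn0_1_0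
theorem cnn0_t {G Ω : Type*} [Group G] [MulAction G Ω] {g : ℕ → G} {pt : ℕ → Ω}
    (M : Md g pt H15.MM24.P 24 11 H15.MM24.B 244823040) : TrO (gen (wds g cnh_W) cnl0.K) (wds g nw_W) (wds g nw_W) 2 pt 24 (cnl0.Pt 0) (fun w => Nat.xor w (cnl0.Pt (nat_lit 0))) :=
  node M (cn_S0 M) (cnh_act M) (nw_act M) (nw_act M) cnn0 ((cnce_act M).mono (by decide)) (fun _ _ => trivial) cnn0_0 cnn0_1 (List.forall_mem_nil _)
theorem cnc {G Ω : Type*} [Group G] [MulAction G Ω] {g : ℕ → G} {pt : ℕ → Ω}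
    (M : Md g pt H15.MM24.P 24 11 H15.MM24.B 244823040) : Cen ⊤ (wds g nw_W) 2 (wds g cnce_W) pt 24 [] :=
  (cn_S0 M).top ▸ Cen.triv (cn_S0 M) (Cen.triv (cn_S1 M) (Cen.triv (cn_S2 M) (Cen.triv (cn_S3 M) (Cen.triv (cn_S4 M) (Cen.triv (cn_S5 M) (Cen.triv (cn_S6 M) (Cen.bot) (forced (cn_S6 M) (cnh_act M) (nw_act M) _ _ cnc_f6)) (forced (cn_S5 M) (cnh_act M) (nw_act M) _ _ cnc_f5)) (forced (cn_S4 M) (cnh_act M) (nw_act M) _ _ cnc_f4)) (forced (cn_S3 M) (cnh_act M) (nw_act M) _ _ cnc_f3)) (forced (cn_S2 M) (cnh_act M) (nw_act M) _ _ cnc_f2)) (forced (cn_S1 M) (cnh_act M) (nw_act M) _ _ cnc_f1)) (cnn0_t M)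
theorem cnc_eq {G Ω : Type*} [Group G] [MulAction G Ω] {g : ℕ → G} {pt : ℕ → Ω}
    (M : Md g pt H15.MM24.P 24 11 H15.MM24.B 244823040) : Subgroup.centralizer (gen (wds g nw_W) 2) = gen (wds g cnce_W) 0 ∧ Nat.card (gen (wds g cnce_W) 0) = 1 :=
  cnc_c.1 ▸ cnc_c.2 ▸ ⟨(cnc M).cent, (cnc M).card M.inj⟩
theorem yw_act {G Ω : Type*} [Group G] [MulAction G Ω] {g : ℕ → G} {pt : ℕ → Ω}
    (M : Md g pt H15.MM24.P 24 11 H15.MM24.B 244823040) : Act (wds g yw_W) pt yw_P 24 2 :=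
  M.wact yw_lt
theorem cyh_act {G Ω : Type*} [Group G] [MulAction G Ω] {g : ℕ → G} {pt : ℕ → Ω}
    (M : Md g pt H15.MM24.P 24 11 H15.MM24.B 244823040) : Act (wds g cyh_W) pt cyh_P 24 17 :=
  M.wact cyh_lt
theorem cyl0_e : ∀ i < 23, (dent cyl0 cyh_P (nat_lit 24)) i = 0 := allZ_sound0 cyl0_e_0
theorem cyl0_ok : DOK cyl0 cyh_P 24 := ⟨cyl0_h, cyl0_e⟩
theorem cyl1_e : ∀ i < 22, (dent cyl1 cyh_P (nat_lit 24)) i = 0 := allZ_sound0 cyl1_e_0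
theorem cyl1_ok : DOK cyl1 cyh_P 24 := ⟨cyl1_h, cyl1_e⟩
theorem cyl2_e : ∀ i < 21, (dent cyl2 cyh_P (nat_lit 24)) i = 0 := allZ_sound0 cyl2_e_0
theorem cyl2_ok : DOK cyl2 cyh_P 24 := ⟨cyl2_h, cyl2_e⟩
theorem cyl3_e : ∀ i < 20, (dent cyl3 cyh_P (nat_lit 24)) i = 0 := allZ_sound0 cyl3_e_0
theorem cyl3_ok : DOK cyl3 cyh_P 24 := ⟨cyl3_h, cyl3_e⟩
theorem cyl4_e : ∀ i < 19, (dent cyl4 cyh_P (nat_lit 24)) i = 0 := allZ_sound0 cyl4_e_0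
theorem cyl4_ok : DOK cyl4 cyh_P 24 := ⟨cyl4_h, cyl4_e⟩
theorem cyl5_e : ∀ i < 15, (dent cyl5 cyh_P (nat_lit 24)) i = 0 := allZ_sound0 cyl5_e_0
theorem cyl5_ok : DOK cyl5 cyh_P 24 := ⟨cyl5_h, cyl5_e⟩
theorem cyl6_e : ∀ i < 2, (dent cyl6 cyh_P (nat_lit 24)) i = 0 := allZ_sound0 cyl6_e_0
theorem cyl6_ok : DOK cyl6 cyh_P 24 := ⟨cyl6_h, cyl6_e⟩
theorem cy_low {G Ω : Type*} [Group G] [MulAction G Ω] {g : ℕ → G} {pt : ℕ → Ω}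
    (M : Md g pt H15.MM24.P 24 11 H15.MM24.B 244823040) : SLow (gi (wds g cyh_W)) pt 24 [cyl0, cyl1, cyl2, cyl3, cyl4, cyl5, cyl6] :=
  (((((((SLow.nil).cons cyl6_ok (cyh_act M) cy_f6).cons cyl5_ok (cyh_act M) cy_f5).cons cyl4_ok (cyh_act M) cy_f4).cons cyl3_ok (cyh_act M) cy_f3).cons cyl2_ok (cyh_act M) cy_f2).cons cyl1_ok (cyh_act M) cy_f1).cons cyl0_ok (cyh_act M) cy_f0
theorem cy_S0 {G Ω : Type*} [Group G] [MulAction G Ω] {g : ℕ → G} {pt : ℕ → Ω}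
    (M : Md g pt H15.MM24.P 24 11 H15.MM24.B 244823040) : Stage ⊤ (wds g cyh_W) pt 24 [cyl0, cyl1, cyl2, cyl3, cyl4, cyl5, cyl6] [] :=
  M.stage (cy_low M) cy_c
theorem cy_S1 {G Ω : Type*} [Group G] [MulAction G Ω] {g : ℕ → G} {pt : ℕ → Ω}
    (M : Md g pt H15.MM24.P 24 11 H15.MM24.B 244823040) : Stage ⊤ (wds g cyh_W) pt 24 [cyl1, cyl2, cyl3, cyl4, cyl5, cyl6] [cyl0.Pt 0] :=
  (cy_S0 M).next
theorem cy_S2 {G Ω : Type*} [Group G] [MulAction G Ω] {g : ℕ → G} {pt : ℕ → Ω}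
    (M : Md g pt H15.MM24.P 24 11 H15.MM24.B 244823040) : Stage ⊤ (wds g cyh_W) pt 24 [cyl2, cyl3, cyl4, cyl5, cyl6] [cyl1.Pt 0, cyl0.Pt 0] :=
  (cy_S1 M).next
theorem cy_S3 {G Ω : Type*} [Group G] [MulAction G Ω] {g : ℕ → G} {pt : ℕ → Ω}
    (M : Md g pt H15.MM24.P 24 11 H15.MM24.B 244823040) : Stage ⊤ (wds g cyh_W) pt 24 [cyl3, cyl4, cyl5, cyl6] [cyl2.Pt 0, cyl1.Pt 0, cyl0.Pt 0] :=
  (cy_S2 M).next
theorem cy_S4 {G Ω : Type*} [Group G] [MulAction G Ω] {g : ℕ → G} {pt : ℕ → Ω}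
    (M : Md g pt H15.MM24.P 24 11 H15.MM24.B 244823040) : Stage ⊤ (wds g cyh_W) pt 24 [cyl4, cyl5, cyl6] [cyl3.Pt 0, cyl2.Pt 0, cyl1.Pt 0, cyl0.Pt 0] :=
  (cy_S3 M).next
theorem cy_S5 {G Ω : Type*} [Group G] [MulAction G Ω] {g : ℕ → G} {pt : ℕ → Ω}
    (M : Md g pt H15.MM24.P 24 11 H15.MM24.B 244823040) : Stage ⊤ (wds g cyh_W) pt 24 [cyl5, cyl6] [cyl4.Pt 0, cyl3.Pt 0, cyl2.Pt 0, cyl1.Pt 0, cyl0.Pt 0] :=
  (cy_S4 M).next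
theorem cy_S6 {G Ω : Type*} [Group G] [MulAction G Ω] {g : ℕ → G} {pt : ℕ → Ω}
    (M : Md g pt H15.MM24.P 24 11 H15.MM24.B 244823040) : Stage ⊤ (wds g cyh_W) pt 24 [cyl6] [cyl5.Pt 0, cyl4.Pt 0, cyl3.Pt 0, cyl2.Pt 0, cyl1.Pt 0, cyl0.Pt 0] :=
  (cy_S5 M).next
theorem cy_S7 {G Ω : Type*} [Group G] [MulAction G Ω] {g : ℕ → G} {pt : ℕ → Ω}
    (M : Md g pt H15.MM24.P 24 11 H15.MM24.B 244823040) : Stage ⊤ (wds g cyh_W) pt 24 [] [cyl6.Pt 0, cyl5.Pt 0, cyl4.Pt 0, cyl3.Pt 0, cyl2.Pt 0, cyl1.Pt 0, cyl0.Pt 0] :=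
  (cy_S6 M).next
theorem cyce_act {G Ω : Type*} [Group G] [MulAction G Ω] {g : ℕ → G} {pt : ℕ → Ω}
    (M : Md g pt H15.MM24.P 24 11 H15.MM24.B 244823040) : Act (wds g cyce_W) pt cyce_P 24 2 :=
  M.wact cyce_lt
theorem cycc0_e : ∀ i < 3, (dent cycc0 cyce_P (nat_lit 24)) i = 0 := allZ_sound0 cycc0_e_0
theorem cycc0_ok : DOK cycc0 cyce_P 24 := ⟨cycc0_h, cycc0_e⟩
theorem cyn0_1 : ∀ i < 24, (cyn0.ent H15.MM24.P cyh_P yw_P yw_P cyce_P (nat_lit 11) (nat_lit 2) H15.MM24.B cyl0 [cyl1, cyl2, cyl3, cyl4, cyl5, cyl6] (memO cycc0)) i = 0 := allZ_sound0 cyn0_1_0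
theorem cyn0_t {G Ω : Type*} [Group G] [MulAction G Ω] {g : ℕ → G} {pt : ℕ → Ω}
    (M : Md g pt H15.MM24.P 24 11 H15.MM24.B 244823040) : TrO (gen (wds g cyh_W) cyl0.K) (wds g yw_W) (wds g yw_W) 2 pt 24 (cyl0.Pt 0) (memO cycc0) :=
  node M (cy_S0 M) (cyh_act M) (yw_act M) (yw_act M) cyn0 ((cyce_act M).mono (by decide)) (fun _ _ => trivial) cyn0_0 cyn0_1 (List.forall_mem_nil _)
theorem cyc {G Ω : Type*} [Group G] [MulAction G Ω] {g : ℕ → G} {pt : ℕ → Ω}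
    (M : Md g pt H15.MM24.P 24 11 H15.MM24.B 244823040) : Cen ⊤ (wds g yw_W) 2 (wds g cyce_W) pt 24 [cycc0] :=
  (cy_S0 M).top ▸ Cen.lev M (cy_S0 M) (Cen.triv (cy_S1 M) (Cen.triv (cy_S2 M) (Cen.triv (cy_S3 M) (Cen.triv (cy_S4 M) (Cen.triv (cy_S5 M) (Cen.triv (cy_S6 M) (Cen.bot) (forced (cy_S6 M) (cyh_act M) (yw_act M) _ _ cyc_f6)) (forced (cy_S5 M) (cyh_act M) (yw_act M) _ _ cyc_f5)) (forced (cy_S4 M) (cyh_act M) (yw_act M) _ _ cyc_f4)) (forced (cy_S3 M) (cyh_act M) (yw_act M) _ _ cyc_f3)) (forced (cy_S2 M) (cyh_act M) (yw_act M) _ _ cyc_f2)) (forced (cy_S1 M) (cyh_act M) (yw_act M) _ _ cyc_f1)) (cyn0_t M) (yw_act M) (cyce_act M) (fun _ _ => trivial) cycc0_ok cyc_f0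
theorem cyc_eq {G Ω : Type*} [Group G] [MulAction G Ω] {g : ℕ → G} {pt : ℕ → Ω}
    (M : Md g pt H15.MM24.P 24 11 H15.MM24.B 244823040) : Subgroup.centralizer (gen (wds g yw_W) 2) = gen (wds g cyce_W) 2 ∧ Nat.card (gen (wds g cyce_W) 2) = 4 :=
  cyc_c.1 ▸ cyc_c.2 ▸ ⟨(cyc M).cent, (cyc M).card M.inj⟩

end H20.J4
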