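import Cfsg.Agent.H20.J4.LB
import Cfsg.Agent.H9.CoxA

/-! Centralizers of elements of orders `10`, `14` and `22`. -/

set_option autoImplicit false
set_option linter.unusedSectionVars false
set_option maxRecDepth 100000
open Subgroup H16 H19 H0 H0.TR
namespace H20.J4
variable {G : Type*} [Group G]

theorem zp_conj [Finite G] {S : Subgroup G} {l : ℕ} (hl : l.Prime) (h2 : ¬ l * l ∣ #S) {x y : G} (hx : x ∈ S)
    (hy : y ∈ S) (ox : orderOf x = l) (oy : orderOf y = l) : ∃ a ∈ S, cj a (zpowers x) = zpowers y := by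
  obtain ⟨m, e⟩ : l ∣ #S := ox ▸ orderOf_dvd_card' hx
  have k : ∀ {x : G}, x ∈ S → orderOf x = l → Syl l (zpowers x) S := fun hx ox =>
    syl_card (k := 1) (m := m) hl (zpowers_le.2 hx) (by rw [Nat.card_zpowers, ox, pow_one]) (by rw [e, pow_one])
      fun d => h2 (e ▸ Nat.mul_dvd_mul_left l d)
  exact (k hx ox).sconj (k hy oy)
theorem cent_conj {A : Subgroup G} {a x y : G} (ha : a ∈ N(A)) (e : cj a (zpowers x) = zpowers y) :
    #(A ⊓ C[x] : Subgroup G) = #(A ⊓ C[y] : Subgroup G) := by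
  rw [← card_cj a, cj_inf, cj_of_mem_norm ha, ← cent_zpowers, cj_cent, e, cent_zpowers]
theorem card_pts {pt : ℕ → G} {n : ℕ} (hp : PtInj pt n) {S : Subgroup G} (hS : ∀ x ∈ S, ∃ a < n, pt a = x)
    {f : ℕ → ℕ} (e : ∀ a < n, pt a ∈ S → f a = 0) : #S ≤ cntCls f 0 0 n := by
  rw [cntCls_eq, ← Set.ncard_coe_finset, ← Set.InjOn.ncard_image (f := pt)
    (fun a ha b hb => hp a (by simp at ha; exact ha.1) b (by simp at hb; exact hb.1))]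
  refine Set.ncard_le_ncard (s := (S : Set G)) (fun x hx => ?_) (Set.toFinite _)
  obtain ⟨a, ha, rfl⟩ := hS x hx
  exact ⟨a, by simpa [ha] using e a ha hx, rfl⟩
theorem semb2 [Finite G] {X Y : Subgroup G} (hY : Y ≤ X) (hc : ∀ c ∈ Y, c * c = 1 → c ≠ 1 → X ⊓ C[c] ≤ Y) {a b : G}
    (ha : a ∈ Y) (hb : b ∈ Y) (a2 : a * a = 1) (b2 : b * b = 1) (a1 : a ≠ 1) (b1 : b ≠ 1) (hab : b ∉ cl X a)
    {j : G} (hj : j ∈ X) (j2 : j * j = 1) : j ∈ Y := by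
  have k : ∀ i ∈ Y, i * i = 1 → i ≠ 1 → j ∈ cl X i ∨ j ∈ Y := fun i hi i2 i1 => by
    by_cases o : Odd (orderOf (j * i))
    · obtain ⟨n, e⟩ := H10.exists_zpow_conj_of_odd j2 i2 o
      exact .inl ⟨_, inv_mem (zpow_mem (mul_mem hj (hY hi)) n), by
        generalize (j * i) ^ n = u at e; rw [← e]; group⟩
    obtain ⟨c, c0, c2, c1, c3, c4, -⟩ := dih_even j2 i2 hj (hY hi) o
    exact .inr (hc c (hc i hi i2 i1 ⟨c0, c4⟩) c2 c1 ⟨hj, mem_cent1_symm.1 c3⟩)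
  obtain ⟨u, hu, e⟩ | e := k a ha a2 a1
  · obtain ⟨w, hw, e'⟩ | e' := k b hb b2 b1
    · exact absurd ⟨w⁻¹ * u, mul_mem (inv_mem hw) hu, by
        rw [show w⁻¹ * u * a * (w⁻¹ * u)⁻¹ = w⁻¹ * (u * a * u⁻¹) * w by group, e, ← e']; group⟩ hab
    · exact e'
  · exact e
theorem card_cl_cent {X : Subgroup G} {a b : G} (h : b ∈ cl X a) :
    #(X ⊓ C[b] : Subgroup G) = #(X ⊓ C[a] : Subgroup G) := by
  obtain ⟨u, hu, rfl⟩ := h
  exact (cent_conj (le_normalizer hu) (cj_zpowers u a)).symm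
theorem eq_of_card_lt [Finite G] {A B : Subgroup G} (h : A ≤ B) (c : #B < 2 * #A) : A = B := by
  obtain ⟨k, e⟩ := card_dvd h
  have := card_pos B
  refine eq_of_le_of_card_ge h ?_
  obtain rfl | rfl | hk : k = 0 ∨ k = 1 ∨ 2 ≤ k := by omega
  · omega
  · omega
  · nlinarith
theorem ord_rp {x : ℕ → G} {W : List ℕ} {l : ℕ} (hl : l.Prime) (h : evA x (rp l W) = evA x []) (h1 : evA x W ≠ 1) :
    orderOf (evA x W) = l :=
  haveI := Fact.mk hl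
  orderOf_eq_prime (by rwa [evA_flat_rep] at h) h1
theorem cntCls_all {f : ℕ → ℕ} {n : ℕ} (h : ∀ a < n, f a = 0) : cntCls f 0 0 n = n := by
  rw [cntCls_eq, Finset.filter_true_of_mem fun a ha => h a (by simpa using ha)]; simp
theorem cent_AA {W : List (List ℕ)} (hW : allL (ltAll 13) W = true) {l c i : ℕ} (hl : l.Prime) (h2 : ¬ l * l ∣ 887040)
    (h1 : eqL A0.P 13 A0.B (rp l (nth [] W 0)) [] = 0) (hi : i < 24) (h3 : apW A0.P (nth [] W 0) i ≠ i)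
    (hc : Nat.card (centralizer {wds (sub a0 13) W 0}) = c) {a : GPm} (ha : a ∈ AA) (o : orderOf a = l) :
    #(AA ⊓ C[a] : Subgroup GPm) = c := by
  have := (card_cent_sub _).symm.trans hc
  rw [sub_wds a0 hW] at this
  obtain ⟨b, hb, e⟩ := zp_conj hl (card_AA ▸ h2) ha (evA_mem _ fun k hk => mem_gen a0 (nth_lt hW 0 k hk)) o
    (ord_rp hl (a0_eq' h1) fun e => h3 (by
      obtain ⟨l, e1⟩ := actA.apW (nth_lt hW 0) hi
      rw [e, one_smul] at e1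
      exact (H15.pt_inj hi l e1).symm))
  exact (cent_conj (le_normalizer hb) e).trans this
theorem centA {l : ℕ} (hl : l ∈ [5, 7, 11]) {a : GPm} (ha : a ∈ AA) (o : orderOf a = l) :
    #(AA ⊓ C[a] : Subgroup GPm) ≤ nth 0 [10, 14, 11] (l / 3 - 1) := by
  simp only [List.mem_cons, List.not_mem_nil, or_false] at hl
  obtain rfl | rfl | rfl := hl
  · exact (cent_AA a5_lt (by norm_num) (by decide) a57_ok.1 (by decide) a57_ok.2.1 (c5 mdA) ha o).le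
  · exact (cent_AA a7_lt (by norm_num) (by decide) a57_ok.2.2.1 (by decide) a57_ok.2.2.2 (c7 mdA) ha o).le
  · exact (card_le (inf_le_inf_right _ AA_le)).trans (cent11 (AA_le ha) o).le
theorem Kp.gr [Finite G] {g cq κ : ℕ → G} {μ : G → GPm} (k : Kp g cq μ κ) : Gr m0 κ 11 :=
  Gr.of_card (((H15.MM24.bound.le (H0.PM.rels_pair H15.MM24.rels k.rel)).2).trans H15.MM24.card.ge)
theorem ord_map {x : G} {y : GPm} {l : ℕ} (hl : l.Prime) (h : y ^ l = 1) (h1 : y = 1 → x ^ (3 * 2 ^ 13) = 1)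
    (o : orderOf x = l) (h2 : ¬ l ∣ 3 * 2 ^ 13) : orderOf y = l :=
  haveI := Fact.mk hl
  orderOf_eq_prime h fun e => h2 (o ▸ orderOf_dvd_of_pow_eq_one (h1 e))

namespace SQ
variable [Finite G] {z p : G} {Q N : Subgroup G} {π : G → GPm} {g cq : ℕ → G} (h : SQ z p Q N π g cq)
include h
theorem qlin {W C : List ℕ} (hW : ∀ k ∈ W, k < 8205) (e : ∀ i < 13, apW PD W (2 ^ i) % 4096 = linL C (2 ^ i)) :
    ∀ a < 8192, apW PD W a % 4096 = linL C a := by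
  refine xor_ind (n := 13) (p := fun a => apW PD W a % 4096 = linL C a) ?_ e fun a ha b hb h1 h2 => ?_
  · obtain ⟨l, e⟩ := h.cjW hW (a := 0) (by decide)
    rw [h.c0, mul_one, mul_inv_cancel, ← h.c0] at e
    rw [← h.qc.inj _ (by decide) _ l e, linL_zero]
  have hc : a ^^^ b < 8192 := Nat.xor_lt_two_pow (n := 13) ha hb
  obtain ⟨d, hd, e1, e2⟩ := h.div_code ha hb
  obtain ⟨d', hd', e3, e4⟩ := h.div_code (h.cjW hW ha).1 (h.cjW hW hb).1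
  have e5 := (h.div_zp hc hd).2 e2.symm
  rw [linL_xor, ← h1, ← h2, show 4096 = 2 ^ 12 from rfl, ← Nat.xor_mod_two_pow]
  refine ((h.div_zp (h.cjW hW hc).1 hd').1 ?_).trans e4
  rw [← e3, ← (h.cjW hW hc).2, ← (h.cjW hW ha).2, ← (h.cjW hW hb).2, conj_inv, conj_mul, conj_inv, conj_mul, e1]
  exact conj_mem_of_norm (cent1_le_norm_zpowers z (h.evH W)) e5
theorem fQ_eq {k : ℕ} (hk : k < 7) {a : ℕ} (ha : a < 8192) :
    fQ k a = (apW PD (nth [] QW k) a ^^^ a) % 4096 := by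
  rw [fQ, ht_eq (QW_ok.2 k hk).1, ← h.qlin (nth_lt QW_ok.1 k) (QW_ok.2 k hk).2 a ha]
  exact (Nat.xor_mod_two_pow (n := 12) ..).symm
theorem stdQ {k l c : ℕ} (hd : (k, l, c) ∈ [(0, 5, 32), (1, 7, 2), (2, 11, 8)]) :
    #(Q ⊓ C[evA (hl g cq) (nth [] QW k)] : Subgroup G) ≤ c := by
  have hk : k < 7 := (by decide : ∀ d ∈ [(0, 5, 32), (1, 7, 2), (2, 11, 8)], d.1 < 7) _ hd
  refine (card_pts (S := Q ⊓ _) h.qc.inj (fun x hx => h.qc.surj x hx.1) fun a ha e => ?_).trans (std_H _ hd).2.le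
  rw [h.fQ_eq hk ha, (h.fix1 (nth_lt QW_ok.1 k) ha).1 (mem_cent1_symm.1 e.2), Nat.xor_self]
theorem bndH {x : G} (hx : x ∈ C[z]) :
    #(C[z] ⊓ C[x] : Subgroup G) ≤ 3 * #(Q ⊓ C[x] : Subgroup G) * #(AA ⊓ C[π x] : Subgroup GPm) := by
  rw [← h.card_img inf_le_left, mul_comm]
  refine Nat.mul_le_mul ?_ (card_le (le_inf (h.img_le _) fun y hy => ?_))
  · have e1 := card_mul_relIndex h.QN
    rw [h.cN, mul_comm 3] at e1
    rw [← card_inf_mul_relIndex Q, mul_comm, ← Nat.eq_of_mul_eq_mul_left (card_pos Q) e1]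
    exact Nat.mul_le_mul (relIndex_le_of_le_right inf_le_right (relIndex_ne_zero' _ _))
      (card_le fun y hy => ⟨hy.1, hy.2.1.2⟩)
  · obtain ⟨y, hy', h1, rfl⟩ := h.mem_img.1 hy
    rw [mem_cent1, ← h.mul _ h1 _ hx, ← h.mul _ hx _ h1, mem_cent1.1 hy'.2]
end SQ

namespace S5
variable [Finite G] {z p q : G} {Q N Q' : Subgroup G} {π μ : G → GPm} {g cq κ : ℕ → G} {e : ℕ}
  (h : S5 z p Q N π g cq Q' q μ κ e)
include h
theorem ordQ {k l c : ℕ} (hd : (k, l, c) ∈ [(0, 5, 32), (1, 7, 2), (2, 11, 8)]) :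
    orderOf (evA (hl g cq) (nth [] QW k)) = l := by
  obtain ⟨h1, h2⟩ := (by decide : ∀ d ∈ [(0, 5, 32), (1, 7, 2), (2, 11, 8)], d.2.1.Prime ∧ d.2.2 < 2 ^ 13) _ hd
  refine ord_rp h1 (h.eq0 (std_H _ hd).1) fun e => ?_
  have := h.stdQ hd
  rw [e, cent1_one, inf_top_eq, h.cQ] at this
  exact absurd h2 (not_lt.2 this)
theorem centQ {k l c : ℕ} (hd : (k, l, c) ∈ [(0, 5, 32), (1, 7, 2), (2, 11, 8)]) {x : G} (hx : x ∈ C[z])
    (o : orderOf x = l) : #(Q ⊓ C[x] : Subgroup G) ≤ c := by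
  obtain ⟨h1, h2⟩ := (by decide : ∀ d ∈ [(0, 5, 32), (1, 7, 2), (2, 11, 8)], d.2.1.Prime ∧
    ¬ d.2.1 * d.2.1 ∣ 3 * 2 ^ 13 * 887040) _ hd
  obtain ⟨a, ha, e⟩ := zp_conj h1 (h.cH ▸ h2) hx (h.evH _) o (h.ordQ hd)
  exact (cent_conj (h.le.norm ha) e).trans_le (h.stdQ hd)
theorem stdV {l c : ℕ} {W : List ℕ} (hd : (l, W, c) ∈ [(5, nth [] KV 1, 8), (7, nth [] TV 3, 4), (11, W11, 2)]) :
    #(VV g cq ⊓ C[evA κ W] : Subgroup G) ≤ c := by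
  refine (card_pts (S := VV g cq ⊓ _) h.vinj (fun x hx => h.vsurj hx.1) fun a ha e => ?_).trans (std_M _ hd).2.2.le
  obtain ⟨l, e1⟩ := h.kact h.kp (ltAll_zero (std_M _ hd).2.1) ha
  rw [← mem_cent1.1 e.2, mul_inv_cancel_right] at e1
  rw [fV, ← h.vinj _ ha _ l e1]; exact Nat.xor_self a
theorem ordV {l c : ℕ} {W : List ℕ} (hd : (l, W, c) ∈ [(5, nth [] KV 1, 8), (7, nth [] TV 3, 4), (11, W11, 2)]) :
    orderOf (evA κ W) = l := by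
  obtain ⟨h1, h2⟩ := (by decide : ∀ d ∈ [(5, nth [] KV 1, 8), (7, nth [] TV 3, 4), (11, W11, 2)],
    d.1.Prime ∧ d.2.2 < 2 ^ 11) _ hd
  refine ord_rp h1 (h.kp.eq (std_M _ hd).1) fun e => ?_
  have := h.stdV hd
  rw [e, cent1_one, inf_top_eq, h.cardV] at this
  exact absurd h2 (not_lt.2 this)
theorem centV {l c : ℕ} {W : List ℕ} (hd : (l, W, c) ∈ [(5, nth [] KV 1, 8), (7, nth [] TV 3, 4), (11, W11, 2)])
    {x : G} (hx : x ∈ N(VV g cq)) (o : orderOf x = l) : #(VV g cq ⊓ C[x] : Subgroup G) ≤ c := by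
  obtain ⟨h1, h2⟩ := (by decide : ∀ d ∈ [(5, nth [] KV 1, 8), (7, nth [] TV 3, 4), (11, W11, 2)], d.1.Prime ∧
    ¬ d.1 * d.1 ∣ 2 ^ 11 * 244823040) _ hd
  obtain ⟨a, ha, e⟩ := zp_conj h1 (h.cM ▸ h2) hx (h.kev h.kp (ltAll_zero (std_M _ hd).2.1)).1 o (h.ordV hd)
  exact (cent_conj ha e).trans_le (h.stdV hd)
theorem bz {l : ℕ} (hl : l ∈ [5, 7, 11]) {i x : G} (hi : IsConj z i) (hx : x ∈ C[i]) (o : orderOf x = l) :
    #(C[i] ⊓ C[x] : Subgroup G) ≤ nth 0 [960, 84, 264] (l / 3 - 1) := by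
  obtain ⟨a, rfl⟩ := isConj_iff.1 hi
  obtain ⟨x, rfl⟩ := (MulAut.conj a).surjective x
  rw [MulAut.conj_apply, ← cj_cent1, conj_mem_cj] at hx
  rw [MulEquiv.orderOf_eq] at o
  rw [MulAut.conj_apply, ← cj_cent1, ← cj_cent1, ← cj_inf, card_cj]
  obtain ⟨h1, h2, h3, h4⟩ := (by decide : ∀ l ∈ [5, 7, 11], l.Prime ∧ ¬ l ∣ 3 * 2 ^ 13 ∧ (l / 3 - 1, l, nth 0 [32, 2, 8]
    (l / 3 - 1)) ∈ [(0, 5, 32), (1, 7, 2), (2, 11, 8)] ∧ 3 * nth 0 [32, 2, 8] (l / 3 - 1) * nth 0 [10, 14, 11] (l / 3 - 1) =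
      nth 0 [960, 84, 264] (l / 3 - 1)) l hl
  refine (h.bndH hx).trans (h4 ▸ Nat.mul_le_mul (Nat.mul_le_mul_left _ (h.centQ h3 hx o)) (centA hl (h.mem _ hx)
    (ord_map h1 (by rw [← h.pow hx, ← o, pow_orderOf_eq_one, h.one]) (fun e => ?_) o h2)))
  rw [← h.cQ, ← h.cN]
  exact congrArg Subtype.val (pow_card_eq_one' (x := (⟨x, (h.ker _ hx).1 e⟩ : N)))
theorem bt {l : ℕ} (hl : l ∈ [5, 7, 11]) {i x : G} (hi : IsConj (vc g cq 12) i) (hx : x ∈ C[i]) (o : orderOf x = l) :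
    #(C[i] ⊓ C[x] : Subgroup G) ≤ nth 0 [80, 56, 22] (l / 3 - 1) := by
  obtain ⟨a, rfl⟩ := isConj_iff.1 (h.c1250.symm.trans hi)
  obtain ⟨x, rfl⟩ := (MulAut.conj a).surjective x
  rw [MulAut.conj_apply, ← cj_cent1, conj_mem_cj] at hx
  rw [MulEquiv.orderOf_eq] at o
  rw [MulAut.conj_apply, ← cj_cent1, ← cj_cent1, ← cj_inf, card_cj]
  obtain ⟨h1, h2, h3, h4⟩ := (by decide : ∀ l ∈ [5, 7, 11], l.Prime ∧ ¬ l ∣ 3 * 2 ^ 13 ∧ (l, nth [] [nth [] KV 1,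
    nth [] TV 3, W11] (l / 3 - 1), nth 0 [8, 4, 2] (l / 3 - 1)) ∈ [(5, nth [] KV 1, 8), (7, nth [] TV 3, 4), (11, W11, 2)] ∧
      nth 0 [10, 14, 11] (l / 3 - 1) * nth 0 [8, 4, 2] (l / 3 - 1) = nth 0 [80, 56, 22] (l / 3 - 1)) l hl
  have hM := (h.ctV (h.vmem 1250) h.c1250).1
  have k : ∀ {y}, y ∈ C[vc g cq 1250] → μ y ∈ AA := fun hy => h.mimg_Y ▸ h.mem_mimg.2 ⟨_, hy, hM hy, rfl⟩
  rw [← h.card_mimg (inf_le_left.trans hM), ← h4]
  refine Nat.mul_le_mul ((card_le fun y hy => ?_).trans (centA hl (k hx) (ord_map h1 (by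
    rw [← h.mpow (hM hx), ← o, pow_orderOf_eq_one, h.mone]) (fun e => ?_) o h2)))
    ((card_le (le_inf inf_le_right (inf_le_left.trans inf_le_right))).trans (h.centV h3 (hM hx) o))
  · obtain ⟨y, hy', h1, rfl⟩ := h.mem_mimg.1 hy
    exact ⟨k hy'.1, mem_cent1.2 (by rw [← h.mmul _ h1 _ (hM hx), ← h.mmul _ (hM hx) _ h1, mem_cent1.1 hy'.2])⟩
  · rw [show 3 * 2 ^ 13 = 2 * (3 * 2 ^ 12) from rfl, pow_mul, pow_two, h.sqV ((h.mker _ (hM hx)).1 e), one_pow]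
end S5
end H20.J4
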