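import Cfsg.Agent.H20.J4.KC

/-! Generated by tools/h0/tr.py. -/

set_option maxRecDepth 100000
set_option maxHeartbeats 0

namespace H20.J4
open H16 H0.TR

def n1 : List ℕ := [1, 1, 1, 1, 2, 2, 1]
def n2 : List ℕ := [0, 0, 2, 1, 1, 2, 1, 2, 2, 1]
def SI : List (List ℕ) := [[6, 2, 5, 7, 6, 4, 8, 7, 6, 3, 7, 8, 0, 9, 4109], [1, 4, 6, 0, 1, 7, 6, 1, 8, 7, 6, 0, 3, 9, 2060], [4, 1, 7, 6, 8, 7, 6, 0, 1, 8, 7, 8, 10, 6060]] ++ [t0]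
def F5 : List ℕ := [2, 6, 4, 7, 6, 1, 5, 6, 8, 7, 6, 5, 10, 4770]
def X8 : List ℕ := [11, 1, 2, 6, 5, 7, 6, 1, 2, 1769]
def X7 : List ℕ := [1, 6, 7, 9, 9]
def X11 : List ℕ := [0, 6, 8, 7]
def W11 : List ℕ := [0, 8, 9, 10]
def LY : List (List ℕ) := [[6, 2, 7, 6], [1, 2, 6, 5, 7, 6, 1, 2, 10], [3, 8, 0, 6, 0, 7, 6, 4, 8, 7, 6, 10], [8, 3, 4, 6, 4, 2, 7, 6, 0, 1, 8]]
def NT : List (List (ℕ × ℕ)) := [[(1, 0), (3, 4096), (12, 0), (8, 0)], [(3, 6145), (2, 0), (4, 0), (12, 4096)], [(1, 0), (3, 4096), (14, 2049), (9, 4096)], [(9, 0), (6, 4096), (4, 0), (8, 0)]]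
def TX : List (List ℕ) := [[], [4, 2, 5, 6, 5, 7, 8, 9, 8, 1, 2, 6, 10, 9, 8, 2, 5, 9, 8], [0, 3, 7, 8, 3, 9, 8, 1, 2, 10, 9, 8, 0, 9, 10], [2, 3, 6, 7, 6, 2, 8, 1, 6, 9, 8, 2, 10, 9, 8, 1, 6, 0, 7], [], [9, 5, 6, 1, 4, 1, 7, 6, 4, 8, 1, 2, 9, 8, 3, 10, 9, 8, 2, 3], [4, 0, 2, 7, 8, 0, 1, 9, 8, 3, 10, 9, 8, 0, 2, 8], [6, 3, 0, 1, 6, 0, 7, 6, 2, 8, 3, 9, 8, 1, 10, 9, 8, 1, 6, 5, 8], []]
def WV : List (ℕ × ℕ) := [(0, 0), (0, 375), (0, 1768), (1, 4471), (0, 0), (1, 4096), (1, 6047), (1, 4096), (0, 0)]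
def w3 : List ℕ := [9, 2, 3, 6, 8, 3, 9]
def QW : List (List ℕ) := [F5, X7, X11] ++ LY
def QC : List (List ℕ) := [[1, 2400, 1106, 3923, 2325, 1722, 2992, 3893, 1908, 2334, 3541, 2048], [2640, 3946, 931, 3448, 3883, 3130, 32, 1290, 2606, 2248, 979, 3959], [2729, 3994, 1778, 628, 2073, 3055, 946, 1631, 3672, 635, 1861, 3719], [1, 2420, 370, 3809, 2406, 4030, 2015, 1641, 2167, 1256, 745, 2048], [1, 2962, 2965, 148, 897, 2861, 2893, 2076, 656, 2717, 1181, 2048], [1, 3675, 3676, 431, 1609, 2015, 4030, 2342, 3928, 935, 3495, 2048], [1, 984, 3039, 3508, 3018, 3655, 3623, 1341, 731, 4029, 444, 2048]]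
noncomputable def QT7 : List ℕ := [nat_lit 0xf3a48a00fbbf84e3fe77bccb624d949112a1150ae0e655d52ef95fdda66a59be2baae11ebf10414c4f74c857353b080073ac8a80f3bf04ebfef7b4cbe24594111aa19502e0665dd5aef15f5dae6ad9b62b2ae91e3f1841cc4774485f35bb0000dcfdce4af4ae99d99c0fd0fc29c29dbfcbfd6ce6cffaefaf4da4dbdbadbb0880899e89e9b89b882e92e8fdbfda6bb6bab75b74215214f27f26647646426427d46d47074075914915260261b00b01632633f52f53d33d32453452961960001000, nat_lit 0xb68b48e62e4214616644c46c3a03806aa68a98e9aec84ca48bb89bdb1d912952b579f7bf073053579559a5da7df57f7741f43f115135e31e11b3bb1bcd7cf79dd9fd6f96d93f33d37cc7ec2c62e6de2dc28e88c8f04f24a0ea2e52a50a0200008f02a079adcab53103439e69588fd8ae20b262bc7b9413117dbd8b8b12e1478e28b12142aa30f35c9f9990035066ac3a4cae9aba01f0769d398032539b23e26d8c88a1104157bf2bbe11b148bedb842212728d78699cc99f33a353af6aa50000, nat_lit 0xc3be6535e1e54de680bbb92771c542879ac2ff9da709c27494fb1162a4911aa3f4ecfc53268036d0dfb6a8d8d35e87e8bd398d4b660d336168c53ecf0f42aaf91d2a811a4f77459cea7cf91c237964241c927bbb5807deae585ed65f3b20002438eadd97704b1e18b2b182037a9efad5046c5c6c95f3f6a5a0f35c0f69ca860133299b82e2877b4d1dedc475146bef9ac305636c9ff5e5f70c4a6dbd8171442eebd2a7832b08191b5b1ce2f486747dee8dd2743c1968c5b6f2533f9aaa9000,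 nat_lit 0x7c001f1a9676fb78689dee013284f754129eb5fc80d36ae95292f634049fd5ea81b37ce81c161e7a80779b6e69fdf800fc081f9a9e767b70681de601b28cf7d41a9e35f4805362e9d29af6b40c9f55e2813374e89c1e1efa88771b66697df00003e03f94a94b14c14d838839edfede7ab7aafadfac6d96d895895902c02d82a82b15e15f7b97b8ecdecc6cb6cafbffbef80f816f46f5ef2ef37867871611608158140130129679666e66e7f92f93794795ee0ee1807806173172975974001000, nat_lit 0x7c1c8cfdd490551e1cd4d600d5c611540e0dfcc4817d0c9d35c811b4000d1cca819d029d9c128c1dda90b5101c34d800fc148c7ddc90d5161c54de0055ce11d4060d7ccc81fd049db5c01134080d9cc2811d0a9d1c1a8c9dd29035181cb4d00083e83f3ac3ad3ab3aa8398388aa8ab33833933f33e8ad8acbbfbbe02d02c02a02bbb8bb9b2bb2a0b90b80be0bfb2cb2d313312881880886887314315387386815814812813380381092093b00b01b07b06095094006007b94b95b93b92001000, nat_lit 0xfc007e6e6958098f269be600c673d9541aff33fc81a195a7267dd9b414ffd3f281419ba71c0e7e8e6758e981267be8007c087eee61588987261bee00467bd9d412ffb3f481219da7a675d9341cff53fa81c193a79c067e0e6f58698926fbe00003f03ee64e65e63e62038039190191fcbfcafccfcd19719667667782d82c82a82b6716707d97d89829839859847de7df7e07e19bb9ba9bc9bd7e77e664f64e8148158138126486491a91a8ff2ff3ff5ff41ae1af006007e5de5ce5ae5b001000,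 nat_lit 0xfc01e7afd4dad1b33c82660107de5a540b672a6c8179b9bce7c05bb41566ca728099a7bd1c1fe64fcadb31ad3d6278007c09e72fdcda51bb3c026e0187d65ad40367aa6481f9b1bc67c85b341d664a7a8019afbd9c17e6cfc2dbb1a53de2700003f03e3e73e6be0be1838839d8bd8ae53e5265465558c58dbf5bf482d82c02a02b3f23f3641640599598d9ed9fe46e47e78e79da0da15a75a667f67e3cc3cd014015813812bcbbca5b25b366a66be6de6cdb5db4806807bdebdf3d93d8001000]
noncomputable def fQ (i a : ℕ) : ℕ := Nat.xor (ht (nth (nat_lit 0) QT7 i) a) (Nat.mod a (nat_lit 4096))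
noncomputable def fV (W : List ℕ) (a : ℕ) : ℕ := Nat.xor (apW PX W a) a
noncomputable def inQU (a : ℕ) : ℕ := Nat.add (Nat.xor (PD (13 + a) 1) 1) (Nat.xor (PD (13 + a) 2049) 2049)
noncomputable abbrev lw (b : ℕ) : List ℕ := H0.PM.flat LY (bw b 4)
noncomputable abbrev rp (n : ℕ) (W : List ℕ) : List ℕ := (List.replicate n W).flatten
def cd3 (v : Fin 3 → ZMod 2) : ℕ := (v 0).val + 2 * (v 1).val + 4 * (v 2).val
noncomputable def nx_W : List (List ℕ) := [[nat_lit 1, nat_lit 2, nat_lit 8, nat_lit 2, nat_lit 9, nat_lit 10, nat_lit 9, nat_lit 8, nat_lit 1, nat_lit 2],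
  [nat_lit 3, nat_lit 8, nat_lit 1, nat_lit 2, nat_lit 6, nat_lit 3, nat_lit 7, nat_lit 6, nat_lit 1, nat_lit 2, nat_lit 9, nat_lit 8, nat_lit 3]]
noncomputable def nx_P : ℕ → ℕ → ℕ := wdsP H15.MM24.P nx_W
noncomputable def ckh_W : List (List ℕ) := [[nat_lit 0, nat_lit 10, nat_lit 2, nat_lit 3, nat_lit 6, nat_lit 3, nat_lit 8, nat_lit 9, nat_lit 8, nat_lit 0, nat_lit 10],
  [nat_lit 0, nat_lit 2, nat_lit 4, nat_lit 6, nat_lit 0, nat_lit 3],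
  [nat_lit 1, nat_lit 3, nat_lit 5, nat_lit 6],
  [nat_lit 1, nat_lit 3, nat_lit 5, nat_lit 6],
  [nat_lit 1, nat_lit 3, nat_lit 5, nat_lit 6],
  [nat_lit 5, nat_lit 6, nat_lit 2, nat_lit 6, nat_lit 4],
  [nat_lit 0, nat_lit 2, nat_lit 6, nat_lit 0, nat_lit 1, nat_lit 2, nat_lit 7, nat_lit 6, nat_lit 4],
  [nat_lit 7, nat_lit 6, nat_lit 1, nat_lit 4, nat_lit 8, nat_lit 9, nat_lit 10, nat_lit 9, nat_lit 8, nat_lit 6],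
  [nat_lit 0, nat_lit 6, nat_lit 2, nat_lit 6, nat_lit 4, nat_lit 8, nat_lit 1, nat_lit 3, nat_lit 9, nat_lit 10, nat_lit 9, nat_lit 8, nat_lit 1, nat_lit 6],
  [nat_lit 7],
  [nat_lit 8],
  [nat_lit 0],
  [nat_lit 1],
  [nat_lit 2],
  [nat_lit 3],
  [nat_lit 4],
  [nat_lit 5],
  [nat_lit 6],
  [nat_lit 9],
  [nat_lit 10]]
noncomputable def ckh_P : ℕ → ℕ → ℕ := wdsP H15.MM24.P ckh_W
noncomputable def ckl0Dd : ℕ := nat_lit 0x8715954952817cdc5c2d968601c251249041238f47c280f04c2400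
noncomputable def ckl0D (u : ℕ) : ℕ := Nat.land (Nat.shiftRight ckl0Dd (Nat.mul u (nat_lit 9))) (nat_lit 511)
noncomputable def ckl0Pd : ℕ := nat_lit 0xa8a4a9d22d496c33ade823a0665c20
noncomputable def ckl0P (u : ℕ) : ℕ := Nat.land (Nat.shiftRight ckl0Pd (Nat.mul u (nat_lit 5))) (nat_lit 31)
noncomputable def ckl0Qd : ℕ := nat_lit 0x136f29d62549a03551e8591c765820
noncomputable def ckl0Q (u : ℕ) : ℕ := Nat.land (Nat.shiftRight ckl0Qd (Nat.mul u (nat_lit 5))) (nat_lit 31)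
noncomputable def ckl0 : Lev := ⟨24, 20, ckl0D, ckl0P, ckl0Q⟩
noncomputable def ckl1Dd : ℕ := nat_lit 0xa74f6c3c6634765b3152491e5c2e251411100e0d0c0b00
noncomputable def ckl1D (u : ℕ) : ℕ := Nat.land (Nat.shiftRight ckl1Dd (Nat.mul u (nat_lit 8))) (nat_lit 255)
noncomputable def ckl1Pd : ℕ := nat_lit 0xef214e957b42e42e292d88c34147
noncomputable def ckl1P (u : ℕ) : ℕ := Nat.land (Nat.shiftRight ckl1Pd (Nat.mul u (nat_lit 5))) (nat_lit 31)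
noncomputable def ckl1Qd : ℕ := nat_lit 0xa9a11951227b1c45050b00ce5b4da0
noncomputable def ckl1Q (u : ℕ) : ℕ := Nat.land (Nat.shiftRight ckl1Qd (Nat.mul u (nat_lit 5))) (nat_lit 31)
noncomputable def ckl1 : Lev := ⟨23, 18, ckl1D, ckl1P, ckl1Q⟩
noncomputable def ckl2Dd : ℕ := nat_lit 0xacc4af6147563126402d1c220b1b10170c180d0a0900
noncomputable def ckl2D (u : ℕ) : ℕ := Nat.land (Nat.shiftRight ckl2Dd (Nat.mul u (nat_lit 8))) (nat_lit 255)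
noncomputable def ckl2Pd : ℕ := nat_lit 0x2f30992f610458d1d05a8686da55
noncomputable def ckl2P (u : ℕ) : ℕ := Nat.land (Nat.shiftRight ckl2Pd (Nat.mul u (nat_lit 5))) (nat_lit 31)
noncomputable def ckl2Qd : ℕ := nat_lit 0xa880aa05688246f39a240498e2b660
noncomputable def ckl2Q (u : ℕ) : ℕ := Nat.land (Nat.shiftRight ckl2Qd (Nat.mul u (nat_lit 5))) (nat_lit 31)
noncomputable def ckl2 : Lev := ⟨22, 11, ckl2D, ckl2P, ckl2Q⟩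
noncomputable def ckl3Dd : ℕ := nat_lit 0x3eb159a2b7688c115cbc9202e4c48e142c400
noncomputable def ckl3D (u : ℕ) : ℕ := Nat.land (Nat.shiftRight ckl3Dd (Nat.mul u (nat_lit 7))) (nat_lit 127)
noncomputable def ckl3Pd : ℕ := nat_lit 0x6ba2d3208aa8398b7b53195061
noncomputable def ckl3P (u : ℕ) : ℕ := Nat.land (Nat.shiftRight ckl3Pd (Nat.mul u (nat_lit 5))) (nat_lit 31)
noncomputable def ckl3Qd : ℕ := nat_lit 0x9c40280c8b3a8c9430b2051af0b800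
noncomputable def ckl3Q (u : ℕ) : ℕ := Nat.land (Nat.shiftRight ckl3Qd (Nat.mul u (nat_lit 5))) (nat_lit 31)
noncomputable def ckl3 : Lev := ⟨21, 9, ckl3D, ckl3P, ckl3Q⟩
noncomputable def ckl4Dd : ℕ := nat_lit 0xcafdeca3ce5d183a6478e2020a91241c300
noncomputable def ckl4D (u : ℕ) : ℕ := Nat.land (Nat.shiftRight ckl4Dd (Nat.mul u (nat_lit 7))) (nat_lit 127)
noncomputable def ckl4Pd : ℕ := nat_lit 0x459442c1cc7b5664de32a0e62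
noncomputable def ckl4P (u : ℕ) : ℕ := Nat.land (Nat.shiftRight ckl4Pd (Nat.mul u (nat_lit 5))) (nat_lit 31)
noncomputable def ckl4Qd : ℕ := nat_lit 0x34803090ae5b54c4c4f3021f010000
noncomputable def ckl4Q (u : ℕ) : ℕ := Nat.land (Nat.shiftRight ckl4Qd (Nat.mul u (nat_lit 5))) (nat_lit 31)
noncomputable def ckl4 : Lev := ⟨20, 8, ckl4D, ckl4P, ckl4Q⟩
noncomputable def ckl5Dd : ℕ := nat_lit 0x8f05daf56b0f1d24445870a04100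
noncomputable def ckl5D (u : ℕ) : ℕ := Nat.land (Nat.shiftRight ckl5Dd (Nat.mul u (nat_lit 7))) (nat_lit 127)
noncomputable def ckl5Pd : ℕ := nat_lit 0x2d948741326346ba122f
noncomputable def ckl5P (u : ℕ) : ℕ := Nat.land (Nat.shiftRight ckl5Pd (Nat.mul u (nat_lit 5))) (nat_lit 31)
noncomputable def ckl5Qd : ℕ := nat_lit 0xe03081a0b674d9c00f25000
noncomputable def ckl5Q (u : ℕ) : ℕ := Nat.land (Nat.shiftRight ckl5Qd (Nat.mul u (nat_lit 4))) (nat_lit 15)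
noncomputable def ckl5 : Lev := ⟨16, 6, ckl5D, ckl5P, ckl5Q⟩
noncomputable def ckl6Dd : ℕ := nat_lit 4
noncomputable def ckl6D (u : ℕ) : ℕ := Nat.land (Nat.shiftRight ckl6Dd (Nat.mul u (nat_lit 1))) (nat_lit 1)
noncomputable def ckl6Pd : ℕ := nat_lit 0x593
noncomputable def ckl6P (u : ℕ) : ℕ := Nat.land (Nat.shiftRight ckl6Pd (Nat.mul u (nat_lit 4))) (nat_lit 15)
noncomputable def ckl6Qd : ℕ := nat_lit 0x40800
noncomputable def ckl6Q (u : ℕ) : ℕ := Nat.land (Nat.shiftRight ckl6Qd (Nat.mul u (nat_lit 2))) (nat_lit 3)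
noncomputable def ckl6 : Lev := ⟨3, 1, ckl6D, ckl6P, ckl6Q⟩
noncomputable def ckce_W : List (List ℕ) := [[nat_lit 5, nat_lit 10, nat_lit 2, nat_lit 5, nat_lit 6, nat_lit 3, nat_lit 8, nat_lit 9, nat_lit 8, nat_lit 0, nat_lit 10],
  [nat_lit 3, nat_lit 6, nat_lit 0, nat_lit 7, nat_lit 6, nat_lit 4, nat_lit 8, nat_lit 0, nat_lit 3, nat_lit 6],
  [nat_lit 3, nat_lit 6, nat_lit 7, nat_lit 6, nat_lit 2, nat_lit 6, nat_lit 8, nat_lit 3, nat_lit 9, nat_lit 8, nat_lit 1, nat_lit 4, nat_lit 10, nat_lit 9, nat_lit 8, nat_lit 2, nat_lit 7]]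
noncomputable def ckce_P : ℕ → ℕ → ℕ := wdsP H15.MM24.P ckce_W
noncomputable def ckcc6Dd : ℕ := nat_lit 4
noncomputable def ckcc6D (u : ℕ) : ℕ := Nat.land (Nat.shiftRight ckcc6Dd (Nat.mul u (nat_lit 1))) (nat_lit 1)
noncomputable def ckcc6Pd : ℕ := nat_lit 0x593
noncomputable def ckcc6P (u : ℕ) : ℕ := Nat.land (Nat.shiftRight ckcc6Pd (Nat.mul u (nat_lit 4))) (nat_lit 15)
noncomputable def ckcc6Qd : ℕ := nat_lit 0x40800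
noncomputable def ckcc6Q (u : ℕ) : ℕ := Nat.land (Nat.shiftRight ckcc6Qd (Nat.mul u (nat_lit 2))) (nat_lit 3)
noncomputable def ckcc6 : Lev := ⟨3, 1, ckcc6D, ckcc6P, ckcc6Q⟩
noncomputable def ckn0Fd : ℕ := nat_lit 0
noncomputable def ckn0F (u : ℕ) : ℕ := Nat.land (Nat.shiftRight ckn0Fd (Nat.mul u (nat_lit 1))) (nat_lit 1)
noncomputable def ckn0 : Nd := ⟨ckn0F, (nat_lit 2), (nat_lit 1), [], [((nat_lit 0), [])], []⟩
noncomputable def ckcc3Dd : ℕ := nat_lit 0x9642310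
noncomputable def ckcc3D (u : ℕ) : ℕ := Nat.land (Nat.shiftRight ckcc3Dd (Nat.mul u (nat_lit 4))) (nat_lit 15)
noncomputable def ckcc3Pd : ℕ := nat_lit 0x118ba4501
noncomputable def ckcc3P (u : ℕ) : ℕ := Nat.land (Nat.shiftRight ckcc3Pd (Nat.mul u (nat_lit 5))) (nat_lit 31)
noncomputable def ckcc3Qd : ℕ := nat_lit 0x3010005801006000
noncomputable def ckcc3Q (u : ℕ) : ℕ := Nat.land (Nat.shiftRight ckcc3Qd (Nat.mul u (nat_lit 3))) (nat_lit 7)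
noncomputable def ckcc3 : Lev := ⟨7, 2, ckcc3D, ckcc3P, ckcc3Q⟩
noncomputable def ckn1Fd : ℕ := nat_lit 0x580460553630074201010
noncomputable def ckn1F (u : ℕ) : ℕ := Nat.land (Nat.shiftRight ckn1Fd (Nat.mul u (nat_lit 4))) (nat_lit 15)
noncomputable def ckn1 : Nd := ⟨ckn1F, (nat_lit 2), (nat_lit 2), [[nat_lit 0],
  [nat_lit 1]], [((nat_lit 0), [])], []⟩
noncomputable def ckcc0Dd : ℕ := nat_lit 0xfd865420
noncomputable def ckcc0D (u : ℕ) : ℕ := Nat.land (Nat.shiftRight ckcc0Dd (Nat.mul u (nat_lit 4))) (nat_lit 15)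
noncomputable def ckcc0Pd : ℕ := nat_lit 0x809a950ca0
noncomputable def ckcc0P (u : ℕ) : ℕ := Nat.land (Nat.shiftRight ckcc0Pd (Nat.mul u (nat_lit 5))) (nat_lit 31)
noncomputable def ckcc0Qd : ℕ := nat_lit 0x70280e0008580
noncomputable def ckcc0Q (u : ℕ) : ℕ := Nat.land (Nat.shiftRight ckcc0Qd (Nat.mul u (nat_lit 3))) (nat_lit 7)
noncomputable def ckcc0 : Lev := ⟨8, 3, ckcc0D, ckcc0P, ckcc0Q⟩
noncomputable def ckn2Fd : ℕ := nat_lit 0xb07065700080b9a485036110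
noncomputable def ckn2F (u : ℕ) : ℕ := Nat.land (Nat.shiftRight ckn2Fd (Nat.mul u (nat_lit 4))) (nat_lit 15)
noncomputable def ckn2 : Nd := ⟨ckn2F, (nat_lit 3), (nat_lit 3), [[nat_lit 0]], [((nat_lit 0), [])], []⟩
noncomputable def a5_W : List (List ℕ) := [[nat_lit 1, nat_lit 6]]
noncomputable def a5_P : ℕ → ℕ → ℕ := wdsP A0.P a5_W
noncomputable def c5x_W : List (List ℕ) := [[nat_lit 1, nat_lit 6]]
noncomputable def c5x_P : ℕ → ℕ → ℕ := wdsP A0.P c5x_W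
noncomputable def c5th_W : List (List ℕ) := [[nat_lit 1, nat_lit 6, nat_lit 4, nat_lit 7, nat_lit 6, nat_lit 1, nat_lit 8],
  [nat_lit 1, nat_lit 6, nat_lit 4, nat_lit 7, nat_lit 6, nat_lit 1, nat_lit 8],
  [nat_lit 1, nat_lit 6, nat_lit 4, nat_lit 7, nat_lit 6, nat_lit 1, nat_lit 8],
  [nat_lit 1, nat_lit 6, nat_lit 4, nat_lit 7, nat_lit 6, nat_lit 1, nat_lit 8],
  [nat_lit 1, nat_lit 6, nat_lit 4, nat_lit 7, nat_lit 6, nat_lit 1, nat_lit 8],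
  [nat_lit 3, nat_lit 5, nat_lit 6, nat_lit 2, nat_lit 5, nat_lit 8, nat_lit 7, nat_lit 6, nat_lit 1],
  [nat_lit 1, nat_lit 6, nat_lit 4, nat_lit 7, nat_lit 6, nat_lit 1, nat_lit 8],
  [nat_lit 1, nat_lit 6, nat_lit 4, nat_lit 7, nat_lit 6, nat_lit 1, nat_lit 8],
  [nat_lit 1, nat_lit 6, nat_lit 4, nat_lit 7, nat_lit 6, nat_lit 1, nat_lit 8],
  [nat_lit 8, nat_lit 1, nat_lit 6, nat_lit 4, nat_lit 7, nat_lit 6, nat_lit 1],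
  [nat_lit 1, nat_lit 6, nat_lit 4, nat_lit 7, nat_lit 6, nat_lit 1, nat_lit 8],
  [nat_lit 1, nat_lit 6, nat_lit 4, nat_lit 7, nat_lit 6, nat_lit 1, nat_lit 8],
  [nat_lit 11, nat_lit 8, nat_lit 1, nat_lit 6, nat_lit 1, nat_lit 4, nat_lit 7, nat_lit 6, nat_lit 2, nat_lit 8, nat_lit 7, nat_lit 6],
  [nat_lit 7, nat_lit 6, nat_lit 5, nat_lit 7, nat_lit 8, nat_lit 7, nat_lit 6, nat_lit 2, nat_lit 7],
  [nat_lit 11, nat_lit 5, nat_lit 3, nat_lit 5, nat_lit 6, nat_lit 3, nat_lit 7, nat_lit 8, nat_lit 6],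
  [nat_lit 6, nat_lit 0, nat_lit 7, nat_lit 6, nat_lit 3, nat_lit 6, nat_lit 5, nat_lit 11],
  [nat_lit 0],
  [nat_lit 1],
  [nat_lit 2],
  [nat_lit 3],
  [nat_lit 4],
  [nat_lit 5],
  [nat_lit 8],
  [nat_lit 6],
  [nat_lit 7],
  [nat_lit 11],
  [nat_lit 12]]
noncomputable def c5th_P : ℕ → ℕ → ℕ := wdsP A0.P c5th_W
noncomputable def c5tl0Dd : ℕ := nat_lit 0x27d0659e55384233190c62f2b188c22d160aca2360c8602e00
noncomputable def c5tl0D (u : ℕ) : ℕ := Nat.land (Nat.shiftRight c5tl0Dd (Nat.mul u (nat_lit 9))) (nat_lit 511)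
noncomputable def c5tl0Pd : ℕ := nat_lit 0xa493aa6524eb8a20c9bec1a09a3
noncomputable def c5tl0P (u : ℕ) : ℕ := Nat.land (Nat.shiftRight c5tl0Pd (Nat.mul u (nat_lit 5))) (nat_lit 31)
noncomputable def c5tl0Qd : ℕ := nat_lit 0x16233cd693482863dca6c2b400880
noncomputable def c5tl0Q (u : ℕ) : ℕ := Nat.land (Nat.shiftRight c5tl0Qd (Nat.mul u (nat_lit 5))) (nat_lit 31)
noncomputable def c5tl0 : Lev := ⟨22, 27, c5tl0D, c5tl0P, c5tl0Q⟩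
noncomputable def c5tl1Dd : ℕ := nat_lit 0x10e1e964f061200cc3828451ccb82e0b8542813090442000
noncomputable def c5tl1D (u : ℕ) : ℕ := Nat.land (Nat.shiftRight c5tl1Dd (Nat.mul u (nat_lit 9))) (nat_lit 511)
noncomputable def c5tl1Pd : ℕ := nat_lit 0x42d5d44861232a2241d7664ded
noncomputable def c5tl1P (u : ℕ) : ℕ := Nat.land (Nat.shiftRight c5tl1Pd (Nat.mul u (nat_lit 5))) (nat_lit 31)
noncomputable def c5tl1Qd : ℕ := nat_lit 0x12501312d0c4032a9e732e74021c0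
noncomputable def c5tl1Q (u : ℕ) : ℕ := Nat.land (Nat.shiftRight c5tl1Qd (Nat.mul u (nat_lit 5))) (nat_lit 31)
noncomputable def c5tl1 : Lev := ⟨21, 23, c5tl1D, c5tl1P, c5tl1Q⟩
noncomputable def c5tl2Dd : ℕ := nat_lit 0x8fd5e0d05e3e3f3d602e502f2d1e1f1d15100f00
noncomputable def c5tl2D (u : ℕ) : ℕ := Nat.land (Nat.shiftRight c5tl2Dd (Nat.mul u (nat_lit 8))) (nat_lit 255)
noncomputable def c5tl2Pd : ℕ := nat_lit 0x515724b89599ec610691821ec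
noncomputable def c5tl2P (u : ℕ) : ℕ := Nat.land (Nat.shiftRight c5tl2Pd (Nat.mul u (nat_lit 5))) (nat_lit 31)
noncomputable def c5tl2Qd : ℕ := nat_lit 0x25855c0830b8008cde25224d01cc0
noncomputable def c5tl2Q (u : ℕ) : ℕ := Nat.land (Nat.shiftRight c5tl2Qd (Nat.mul u (nat_lit 5))) (nat_lit 31)
noncomputable def c5tl2 : Lev := ⟨20, 16, c5tl2D, c5tl2P, c5tl2Q⟩
noncomputable def c5tl3Dd : ℕ := nat_lit 0xb485875978493b2b1d23141e0f0e0d00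
noncomputable def c5tl3D (u : ℕ) : ℕ := Nat.land (Nat.shiftRight c5tl3Dd (Nat.mul u (nat_lit 8))) (nat_lit 255)
noncomputable def c5tl3Pd : ℕ := nat_lit 0xa9de69a2011457675149
noncomputable def c5tl3P (u : ℕ) : ℕ := Nat.land (Nat.shiftRight c5tl3Pd (Nat.mul u (nat_lit 5))) (nat_lit 31)
noncomputable def c5tl3Qd : ℕ := nat_lit 0x4f2b069d300510aec000780
noncomputable def c5tl3Q (u : ℕ) : ℕ := Nat.land (Nat.shiftRight c5tl3Qd (Nat.mul u (nat_lit 4))) (nat_lit 15)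
noncomputable def c5tl3 : Lev := ⟨16, 15, c5tl3D, c5tl3P, c5tl3Q⟩
noncomputable def c5tl4Dd : ℕ := nat_lit 0x9d9305000
noncomputable def c5tl4D (u : ℕ) : ℕ := Nat.land (Nat.shiftRight c5tl4Dd (Nat.mul u (nat_lit 6))) (nat_lit 63)
noncomputable def c5tl4Pd : ℕ := nat_lit 0xe6a8453
noncomputable def c5tl4P (u : ℕ) : ℕ := Nat.land (Nat.shiftRight c5tl4Pd (Nat.mul u (nat_lit 5))) (nat_lit 31)
noncomputable def c5tl4Qd : ℕ := nat_lit 0x18000000000b00050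
noncomputable def c5tl4Q (u : ℕ) : ℕ := Nat.land (Nat.shiftRight c5tl4Qd (Nat.mul u (nat_lit 3))) (nat_lit 7)
noncomputable def c5tl4 : Lev := ⟨6, 13, c5tl4D, c5tl4P, c5tl4Q⟩
noncomputable def c5ce_W : List (List ℕ) := [[nat_lit 1, nat_lit 6, nat_lit 1, nat_lit 6],
  [nat_lit 6, nat_lit 1],
  [nat_lit 6, nat_lit 1],
  [nat_lit 6, nat_lit 1],
  [nat_lit 1, nat_lit 6],
  [nat_lit 1, nat_lit 6],
  [nat_lit 1, nat_lit 6],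
  [nat_lit 6, nat_lit 1],
  [nat_lit 4, nat_lit 3, nat_lit 6, nat_lit 1, nat_lit 2],
  [nat_lit 6, nat_lit 1],
  [nat_lit 4, nat_lit 3, nat_lit 6, nat_lit 1, nat_lit 2],
  [nat_lit 1, nat_lit 6],
  [nat_lit 6, nat_lit 1, nat_lit 6, nat_lit 1],
  [nat_lit 1, nat_lit 6],
  [nat_lit 6, nat_lit 1, nat_lit 6, nat_lit 1],
  [nat_lit 1, nat_lit 6],
  [nat_lit 1, nat_lit 6],
  [nat_lit 6, nat_lit 1],
  [nat_lit 1, nat_lit 6],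
  [nat_lit 1, nat_lit 2, nat_lit 6, nat_lit 3, nat_lit 5],
  [nat_lit 1, nat_lit 6],
  [nat_lit 6, nat_lit 1],
  [nat_lit 1, nat_lit 6],
  [nat_lit 6, nat_lit 1],
  [nat_lit 1, nat_lit 6],
  [nat_lit 6, nat_lit 1, nat_lit 6, nat_lit 1],
  [nat_lit 6, nat_lit 1],
  [nat_lit 1, nat_lit 6],
  [nat_lit 1, nat_lit 6],
  [nat_lit 1, nat_lit 6],
  [nat_lit 6, nat_lit 1],
  [nat_lit 1, nat_lit 6],
  [nat_lit 6, nat_lit 1],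
  [nat_lit 6, nat_lit 1],
  [nat_lit 1, nat_lit 6],
  [nat_lit 6, nat_lit 1],
  [nat_lit 6, nat_lit 1],
  [nat_lit 1, nat_lit 6],
  [nat_lit 6, nat_lit 1, nat_lit 6, nat_lit 1],
  [nat_lit 2, nat_lit 6, nat_lit 3, nat_lit 4, nat_lit 2, nat_lit 4],
  [nat_lit 1, nat_lit 6],
  [nat_lit 1, nat_lit 6],
  [nat_lit 1, nat_lit 6],
  [nat_lit 1, nat_lit 6],
  [nat_lit 1, nat_lit 6],
  [nat_lit 1, nat_lit 6],
  [nat_lit 6, nat_lit 1],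
  [nat_lit 1, nat_lit 6],
  [nat_lit 6, nat_lit 1],
  [nat_lit 6, nat_lit 1],
  [nat_lit 6, nat_lit 1],
  [nat_lit 1, nat_lit 6],
  [nat_lit 2, nat_lit 6, nat_lit 3, nat_lit 2, nat_lit 1, nat_lit 5],
  [nat_lit 1, nat_lit 6],
  [nat_lit 1, nat_lit 6],
  [nat_lit 6, nat_lit 1],
  [nat_lit 6, nat_lit 1],
  [nat_lit 1, nat_lit 6],
  [nat_lit 6, nat_lit 1],
  [nat_lit 1, nat_lit 6],
  [nat_lit 1, nat_lit 6],
  [nat_lit 1, nat_lit 6, nat_lit 1, nat_lit 6],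
  [nat_lit 6, nat_lit 1],
  [nat_lit 6, nat_lit 1],
  [nat_lit 6, nat_lit 1],
  [nat_lit 1, nat_lit 6],
  [nat_lit 1, nat_lit 6],
  [nat_lit 1, nat_lit 6],
  [nat_lit 6, nat_lit 1],
  [nat_lit 1, nat_lit 6],
  [nat_lit 1, nat_lit 6],
  [nat_lit 6, nat_lit 1],
  [nat_lit 2, nat_lit 6, nat_lit 3, nat_lit 5, nat_lit 1],
  [nat_lit 6, nat_lit 1, nat_lit 6, nat_lit 1],
  [nat_lit 1, nat_lit 6],
  [nat_lit 6, nat_lit 1],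
  [nat_lit 1, nat_lit 6],
  [nat_lit 6, nat_lit 1],
  [nat_lit 6, nat_lit 1],
  [nat_lit 1, nat_lit 6],
  [nat_lit 6, nat_lit 1],
  [nat_lit 1, nat_lit 6],
  [nat_lit 6, nat_lit 1],
  [nat_lit 1, nat_lit 6],
  [nat_lit 1, nat_lit 6],
  [nat_lit 6, nat_lit 1],
  [nat_lit 6, nat_lit 1, nat_lit 6, nat_lit 1],
  [nat_lit 6, nat_lit 1],
  [nat_lit 6, nat_lit 1],
  [nat_lit 1, nat_lit 6],
  [nat_lit 1, nat_lit 6],
  [nat_lit 1, nat_lit 6],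
  [nat_lit 5, nat_lit 3, nat_lit 6, nat_lit 5, nat_lit 7, nat_lit 6, nat_lit 4, nat_lit 8, nat_lit 7, nat_lit 6, nat_lit 11]]
noncomputable def c5ce_P : ℕ → ℕ → ℕ := wdsP A0.P c5ce_W
noncomputable def c5cc0Dd : ℕ := nat_lit 0x3a1738b2e4b85e020000200
noncomputable def c5cc0D (u : ℕ) : ℕ := Nat.land (Nat.shiftRight c5cc0Dd (Nat.mul u (nat_lit 9))) (nat_lit 511)
noncomputable def c5cc0Pd : ℕ := nat_lit 0x28e3208c9a5a3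
noncomputable def c5cc0P (u : ℕ) : ℕ := Nat.land (Nat.shiftRight c5cc0Pd (Nat.mul u (nat_lit 5))) (nat_lit 31)
noncomputable def c5cc0Qd : ℕ := nat_lit 0x930000814002607050000
noncomputable def c5cc0Q (u : ℕ) : ℕ := Nat.land (Nat.shiftRight c5cc0Qd (Nat.mul u (nat_lit 4))) (nat_lit 15)
noncomputable def c5cc0 : Lev := ⟨10, 93, c5cc0D, c5cc0P, c5cc0Q⟩
noncomputable def c5tn0Fd : ℕ := nat_lit 0x22c005c802e6005d800ba5e308022c000045802b9000040000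
noncomputable def c5tn0F (u : ℕ) : ℕ := Nat.land (Nat.shiftRight c5tn0Fd (Nat.mul u (nat_lit 9))) (nat_lit 511)
noncomputable def c5tn0 : Nd := ⟨c5tn0F, (nat_lit 93), (nat_lit 93), [[nat_lit 0]], [((nat_lit 0), []), ((nat_lit 0), [nat_lit 0]), ((nat_lit 0), [nat_lit 0, nat_lit 0]), ((nat_lit 0), [nat_lit 0, nat_lit 0, nat_lit 0])], []⟩
noncomputable def a7_W : List (List ℕ) := [[nat_lit 1, nat_lit 6, nat_lit 7]]
noncomputable def a7_P : ℕ → ℕ → ℕ := wdsP A0.P a7_W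
noncomputable def c7x_W : List (List ℕ) := [[nat_lit 1, nat_lit 6, nat_lit 7]]
noncomputable def c7x_P : ℕ → ℕ → ℕ := wdsP A0.P c7x_W
noncomputable def c7th_W : List (List ℕ) := [[nat_lit 4, nat_lit 6, nat_lit 3, nat_lit 6, nat_lit 7, nat_lit 8, nat_lit 7, nat_lit 6, nat_lit 3, nat_lit 6],
  [nat_lit 6, nat_lit 3, nat_lit 6, nat_lit 7, nat_lit 8, nat_lit 7, nat_lit 6, nat_lit 3, nat_lit 6, nat_lit 5],
  [nat_lit 6, nat_lit 3, nat_lit 6, nat_lit 7, nat_lit 8, nat_lit 7, nat_lit 6, nat_lit 3, nat_lit 6, nat_lit 5],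
  [nat_lit 4, nat_lit 6, nat_lit 3, nat_lit 6, nat_lit 7, nat_lit 8, nat_lit 7, nat_lit 6, nat_lit 3, nat_lit 6],
  [nat_lit 6, nat_lit 3, nat_lit 6, nat_lit 7, nat_lit 8, nat_lit 7, nat_lit 6, nat_lit 3, nat_lit 6, nat_lit 5],
  [nat_lit 6, nat_lit 3, nat_lit 6, nat_lit 7, nat_lit 8, nat_lit 7, nat_lit 6, nat_lit 3, nat_lit 6, nat_lit 5],
  [nat_lit 6, nat_lit 3, nat_lit 6, nat_lit 7, nat_lit 8, nat_lit 7, nat_lit 6, nat_lit 3, nat_lit 6, nat_lit 5],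
  [nat_lit 6, nat_lit 3, nat_lit 6, nat_lit 7, nat_lit 8, nat_lit 7, nat_lit 6, nat_lit 3, nat_lit 6, nat_lit 5],
  [nat_lit 6, nat_lit 3, nat_lit 6, nat_lit 7, nat_lit 8, nat_lit 7, nat_lit 6, nat_lit 3, nat_lit 6, nat_lit 5],
  [nat_lit 5, nat_lit 8, nat_lit 7, nat_lit 6, nat_lit 3, nat_lit 6, nat_lit 5, nat_lit 7, nat_lit 8],
  [nat_lit 6, nat_lit 3, nat_lit 6, nat_lit 7, nat_lit 8, nat_lit 7, nat_lit 6, nat_lit 3, nat_lit 6, nat_lit 5],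
  [nat_lit 6, nat_lit 3, nat_lit 6, nat_lit 7, nat_lit 8, nat_lit 7, nat_lit 6, nat_lit 3, nat_lit 6, nat_lit 5],
  [nat_lit 4, nat_lit 6, nat_lit 3, nat_lit 6, nat_lit 7, nat_lit 8, nat_lit 7, nat_lit 6, nat_lit 3, nat_lit 6],
  [nat_lit 8, nat_lit 7, nat_lit 4, nat_lit 6, nat_lit 3, nat_lit 6, nat_lit 7, nat_lit 8, nat_lit 4],
  [nat_lit 6, nat_lit 3, nat_lit 6, nat_lit 7, nat_lit 8, nat_lit 7, nat_lit 6, nat_lit 3, nat_lit 6, nat_lit 5],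
  [nat_lit 6, nat_lit 3, nat_lit 6, nat_lit 7, nat_lit 8, nat_lit 7, nat_lit 6, nat_lit 3, nat_lit 6, nat_lit 5],
  [nat_lit 6, nat_lit 3, nat_lit 6, nat_lit 7, nat_lit 8, nat_lit 7, nat_lit 6, nat_lit 3, nat_lit 6, nat_lit 5],
  [nat_lit 4, nat_lit 6, nat_lit 3, nat_lit 6, nat_lit 7, nat_lit 8, nat_lit 7, nat_lit 6, nat_lit 3, nat_lit 6],
  [nat_lit 4, nat_lit 6, nat_lit 3, nat_lit 6, nat_lit 7, nat_lit 8, nat_lit 7, nat_lit 6, nat_lit 3, nat_lit 6],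
  [nat_lit 6, nat_lit 3, nat_lit 6, nat_lit 7, nat_lit 8, nat_lit 7, nat_lit 6, nat_lit 3, nat_lit 6, nat_lit 5],
  [nat_lit 6, nat_lit 3, nat_lit 6, nat_lit 7, nat_lit 8, nat_lit 7, nat_lit 6, nat_lit 3, nat_lit 6, nat_lit 5],
  [nat_lit 6, nat_lit 3, nat_lit 6, nat_lit 7, nat_lit 8, nat_lit 7, nat_lit 6, nat_lit 3, nat_lit 6, nat_lit 5],
  [nat_lit 6, nat_lit 3, nat_lit 6, nat_lit 7, nat_lit 8, nat_lit 7, nat_lit 6, nat_lit 3, nat_lit 6, nat_lit 5],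
  [nat_lit 8, nat_lit 7, nat_lit 5, nat_lit 6, nat_lit 3, nat_lit 6, nat_lit 5, nat_lit 7, nat_lit 8],
  [nat_lit 6, nat_lit 3, nat_lit 6, nat_lit 7, nat_lit 8, nat_lit 7, nat_lit 6, nat_lit 3, nat_lit 6, nat_lit 5],
  [nat_lit 6, nat_lit 3, nat_lit 6, nat_lit 7, nat_lit 8, nat_lit 7, nat_lit 6, nat_lit 3, nat_lit 6, nat_lit 5],
  [nat_lit 6, nat_lit 3, nat_lit 6, nat_lit 7, nat_lit 8, nat_lit 7, nat_lit 6, nat_lit 3, nat_lit 6, nat_lit 5],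
  [nat_lit 4, nat_lit 6, nat_lit 3, nat_lit 6, nat_lit 7, nat_lit 8, nat_lit 7, nat_lit 6, nat_lit 3, nat_lit 6],
  [nat_lit 6, nat_lit 3, nat_lit 6, nat_lit 7, nat_lit 8, nat_lit 7, nat_lit 6, nat_lit 3, nat_lit 6, nat_lit 5],
  [nat_lit 8, nat_lit 7, nat_lit 5, nat_lit 6, nat_lit 3, nat_lit 6, nat_lit 5, nat_lit 7, nat_lit 8],
  [nat_lit 6, nat_lit 3, nat_lit 6, nat_lit 7, nat_lit 8, nat_lit 7, nat_lit 6, nat_lit 3, nat_lit 6, nat_lit 5],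
  [nat_lit 4, nat_lit 6, nat_lit 3, nat_lit 6, nat_lit 7, nat_lit 8, nat_lit 7, nat_lit 6, nat_lit 3, nat_lit 6],
  [nat_lit 8, nat_lit 7, nat_lit 5, nat_lit 6, nat_lit 3, nat_lit 6, nat_lit 5, nat_lit 7, nat_lit 8],
  [nat_lit 6, nat_lit 3, nat_lit 6, nat_lit 7, nat_lit 8, nat_lit 7, nat_lit 6, nat_lit 3, nat_lit 6, nat_lit 5],
  [nat_lit 6, nat_lit 3, nat_lit 6, nat_lit 7, nat_lit 8, nat_lit 7, nat_lit 6, nat_lit 3, nat_lit 6, nat_lit 5],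
  [nat_lit 6, nat_lit 3, nat_lit 6, nat_lit 7, nat_lit 8, nat_lit 7, nat_lit 6, nat_lit 3, nat_lit 6, nat_lit 5],
  [nat_lit 6, nat_lit 3, nat_lit 6, nat_lit 7, nat_lit 8, nat_lit 7, nat_lit 6, nat_lit 3, nat_lit 6, nat_lit 5],
  [nat_lit 6, nat_lit 3, nat_lit 6, nat_lit 7, nat_lit 8, nat_lit 7, nat_lit 6, nat_lit 3, nat_lit 6, nat_lit 5],
  [nat_lit 4, nat_lit 6, nat_lit 3, nat_lit 6, nat_lit 7, nat_lit 8, nat_lit 7, nat_lit 6, nat_lit 3, nat_lit 6],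
  [nat_lit 4, nat_lit 6, nat_lit 3, nat_lit 6, nat_lit 7, nat_lit 8, nat_lit 7, nat_lit 6, nat_lit 3, nat_lit 6],
  [nat_lit 6, nat_lit 3, nat_lit 6, nat_lit 7, nat_lit 8, nat_lit 7, nat_lit 6, nat_lit 3, nat_lit 6, nat_lit 5],
  [nat_lit 6, nat_lit 3, nat_lit 6, nat_lit 7, nat_lit 8, nat_lit 7, nat_lit 6, nat_lit 3, nat_lit 6, nat_lit 5],
  [nat_lit 6, nat_lit 3, nat_lit 6, nat_lit 7, nat_lit 8, nat_lit 7, nat_lit 6, nat_lit 3, nat_lit 6, nat_lit 5],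
  [nat_lit 6, nat_lit 3, nat_lit 6, nat_lit 7, nat_lit 8, nat_lit 7, nat_lit 6, nat_lit 3, nat_lit 6, nat_lit 5],
  [nat_lit 4, nat_lit 6, nat_lit 3, nat_lit 6, nat_lit 7, nat_lit 8, nat_lit 7, nat_lit 6, nat_lit 3, nat_lit 6],
  [nat_lit 4, nat_lit 6, nat_lit 3, nat_lit 6, nat_lit 7, nat_lit 8, nat_lit 7, nat_lit 6, nat_lit 3, nat_lit 6],
  [nat_lit 8, nat_lit 4, nat_lit 7, nat_lit 6, nat_lit 3, nat_lit 6, nat_lit 5, nat_lit 7, nat_lit 8],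
  [nat_lit 5, nat_lit 8, nat_lit 7, nat_lit 6, nat_lit 3, nat_lit 6, nat_lit 5, nat_lit 7, nat_lit 8],
  [nat_lit 4, nat_lit 6, nat_lit 3, nat_lit 6, nat_lit 7, nat_lit 8, nat_lit 7, nat_lit 6, nat_lit 3, nat_lit 6],
  [nat_lit 4, nat_lit 6, nat_lit 3, nat_lit 6, nat_lit 7, nat_lit 8, nat_lit 7, nat_lit 6, nat_lit 3, nat_lit 6],
  [nat_lit 6, nat_lit 3, nat_lit 6, nat_lit 7, nat_lit 8, nat_lit 7, nat_lit 6, nat_lit 3, nat_lit 6, nat_lit 5],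
  [nat_lit 6, nat_lit 3, nat_lit 6, nat_lit 7, nat_lit 8, nat_lit 7, nat_lit 6, nat_lit 3, nat_lit 6, nat_lit 5],
  [nat_lit 8, nat_lit 7, nat_lit 5, nat_lit 6, nat_lit 3, nat_lit 6, nat_lit 5, nat_lit 7, nat_lit 8],
  [nat_lit 4, nat_lit 6, nat_lit 3, nat_lit 6, nat_lit 7, nat_lit 8, nat_lit 7, nat_lit 6, nat_lit 3, nat_lit 6],
  [nat_lit 4, nat_lit 6, nat_lit 3, nat_lit 6, nat_lit 7, nat_lit 8, nat_lit 7, nat_lit 6, nat_lit 3, nat_lit 6],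
  [nat_lit 6, nat_lit 3, nat_lit 6, nat_lit 7, nat_lit 8, nat_lit 7, nat_lit 6, nat_lit 3, nat_lit 6, nat_lit 5],
  [nat_lit 4, nat_lit 6, nat_lit 3, nat_lit 6, nat_lit 7, nat_lit 8, nat_lit 7, nat_lit 6, nat_lit 3, nat_lit 6],
  [nat_lit 6, nat_lit 3, nat_lit 6, nat_lit 7, nat_lit 8, nat_lit 7, nat_lit 6, nat_lit 3, nat_lit 6, nat_lit 5],
  [nat_lit 6, nat_lit 3, nat_lit 6, nat_lit 7, nat_lit 8, nat_lit 7, nat_lit 6, nat_lit 3, nat_lit 6, nat_lit 5],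
  [nat_lit 4, nat_lit 8, nat_lit 7, nat_lit 6, nat_lit 3, nat_lit 6, nat_lit 7, nat_lit 8, nat_lit 4],
  [nat_lit 6, nat_lit 3, nat_lit 6, nat_lit 7, nat_lit 8, nat_lit 7, nat_lit 6, nat_lit 3, nat_lit 6, nat_lit 5],
  [nat_lit 6, nat_lit 3, nat_lit 6, nat_lit 7, nat_lit 8, nat_lit 7, nat_lit 6, nat_lit 3, nat_lit 6, nat_lit 5],
  [nat_lit 6, nat_lit 3, nat_lit 6, nat_lit 7, nat_lit 8, nat_lit 7, nat_lit 6, nat_lit 3, nat_lit 6, nat_lit 5],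
  [nat_lit 4, nat_lit 6, nat_lit 3, nat_lit 6, nat_lit 7, nat_lit 8, nat_lit 7, nat_lit 6, nat_lit 3, nat_lit 6],
  [nat_lit 4, nat_lit 6, nat_lit 3, nat_lit 6, nat_lit 7, nat_lit 8, nat_lit 7, nat_lit 6, nat_lit 3, nat_lit 6],
  [nat_lit 6, nat_lit 3, nat_lit 6, nat_lit 7, nat_lit 8, nat_lit 7, nat_lit 6, nat_lit 3, nat_lit 6, nat_lit 5],
  [nat_lit 4, nat_lit 8, nat_lit 7, nat_lit 6, nat_lit 3, nat_lit 6, nat_lit 7, nat_lit 8, nat_lit 4],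
  [nat_lit 4, nat_lit 6, nat_lit 3, nat_lit 6, nat_lit 7, nat_lit 8, nat_lit 7, nat_lit 6, nat_lit 3, nat_lit 6],
  [nat_lit 8, nat_lit 5, nat_lit 2, nat_lit 5, nat_lit 6, nat_lit 7, nat_lit 6, nat_lit 4, nat_lit 8, nat_lit 7, nat_lit 6, nat_lit 11],
  [nat_lit 1, nat_lit 8, nat_lit 7, nat_lit 5, nat_lit 6, nat_lit 0, nat_lit 2, nat_lit 7, nat_lit 8, nat_lit 4],
  [nat_lit 0],
  [nat_lit 1],
  [nat_lit 2],
  [nat_lit 3],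
  [nat_lit 4],
  [nat_lit 5],
  [nat_lit 6],
  [nat_lit 7],
  [nat_lit 8],
  [nat_lit 11],
  [nat_lit 12]]
noncomputable def c7th_P : ℕ → ℕ → ℕ := wdsP A0.P c7th_W
noncomputable def c7tl0Dd : ℕ := nat_lit 0x8d7cc63a898ba888b4e73c4a04f93c4ed3a3d0f328ca213c4e13400
noncomputable def c7tl0D (u : ℕ) : ℕ := Nat.land (Nat.shiftRight c7tl0Dd (Nat.mul u (nat_lit 10))) (nat_lit 1023)
noncomputable def c7tl0Pd : ℕ := nat_lit 0x115290d0925543d9935be2e68462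
noncomputable def c7tl0P (u : ℕ) : ℕ := Nat.land (Nat.shiftRight c7tl0Pd (Nat.mul u (nat_lit 5))) (nat_lit 31)
noncomputable def c7tl0Qd : ℕ := nat_lit 0x2a8c43cb0310693b5d55c67208040
noncomputable def c7tl0Q (u : ℕ) : ℕ := Nat.land (Nat.shiftRight c7tl0Qd (Nat.mul u (nat_lit 5))) (nat_lit 31)
noncomputable def c7tl0 : Lev := ⟨22, 81, c7tl0D, c7tl0P, c7tl0Q⟩
noncomputable def c7tl1Dd : ℕ := nat_lit 0x51d7d05e50d35069e9a4c093525c3889a0e11302584a89409c13426000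
noncomputable def c7tl1D (u : ℕ) : ℕ := Nat.land (Nat.shiftRight c7tl1Dd (Nat.mul u (nat_lit 11))) (nat_lit 2047)
noncomputable def c7tl1Pd : ℕ := nat_lit 0x171635a212451a123d9935bda3
noncomputable def c7tl1P (u : ℕ) : ℕ := Nat.land (Nat.shiftRight c7tl1Pd (Nat.mul u (nat_lit 5))) (nat_lit 31)
noncomputable def c7tl1Qd : ℕ := nat_lit 0x1a0f2222914c251adae3aa4c00280
noncomputable def c7tl1Q (u : ℕ) : ℕ := Nat.land (Nat.shiftRight c7tl1Qd (Nat.mul u (nat_lit 5))) (nat_lit 31)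
noncomputable def c7tl1 : Lev := ⟨21, 77, c7tl1D, c7tl1P, c7tl1Q⟩
noncomputable def c7tl2Dd : ℕ := nat_lit 0x8eb1d0ba9291ba3804a931260394720991301342504909011c23000
noncomputable def c7tl2D (u : ℕ) : ℕ := Nat.land (Nat.shiftRight c7tl2Dd (Nat.mul u (nat_lit 11))) (nat_lit 2047)
noncomputable def c7tl2Pd : ℕ := nat_lit 0x704a68a24482aa963db3a5967
noncomputable def c7tl2P (u : ℕ) : ℕ := Nat.land (Nat.shiftRight c7tl2Pd (Nat.mul u (nat_lit 5))) (nat_lit 31)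
noncomputable def c7tl2Qd : ℕ := nat_lit 0x923235eb34ca70a90e0422c00240
noncomputable def c7tl2Q (u : ℕ) : ℕ := Nat.land (Nat.shiftRight c7tl2Qd (Nat.mul u (nat_lit 5))) (nat_lit 31)
noncomputable def c7tl2 : Lev := ⟨20, 76, c7tl2D, c7tl2P, c7tl2Q⟩
noncomputable def c7tl3Dd : ℕ := nat_lit 0x9de319da307adea7a5a3575183408a11c4611400
noncomputable def c7tl3D (u : ℕ) : ℕ := Nat.land (Nat.shiftRight c7tl3Dd (Nat.mul u (nat_lit 10))) (nat_lit 1023)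
noncomputable def c7tl3Pd : ℕ := nat_lit 0x8d9c9ad02c548c884c85
noncomputable def c7tl3P (u : ℕ) : ℕ := Nat.land (Nat.shiftRight c7tl3Pd (Nat.mul u (nat_lit 5))) (nat_lit 31)
noncomputable def c7tl3Qd : ℕ := nat_lit 0xeba26f30d0807c405010090
noncomputable def c7tl3Q (u : ℕ) : ℕ := Nat.land (Nat.shiftRight c7tl3Qd (Nat.mul u (nat_lit 4))) (nat_lit 15)
noncomputable def c7tl3 : Lev := ⟨16, 70, c7tl3D, c7tl3P, c7tl3Q⟩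
noncomputable def c7tl4Dd : ℕ := nat_lit 0xcf8944010000
noncomputable def c7tl4D (u : ℕ) : ℕ := Nat.land (Nat.shiftRight c7tl4Dd (Nat.mul u (nat_lit 8))) (nat_lit 255)
noncomputable def c7tl4Pd : ℕ := nat_lit 0xc894c90
noncomputable def c7tl4P (u : ℕ) : ℕ := Nat.land (Nat.shiftRight c7tl4Pd (Nat.mul u (nat_lit 5))) (nat_lit 31)
noncomputable def c7tl4Qd : ℕ := nat_lit 0x4c0000004141000
noncomputable def c7tl4Q (u : ℕ) : ℕ := Nat.land (Nat.shiftRight c7tl4Qd (Nat.mul u (nat_lit 3))) (nat_lit 7)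
noncomputable def c7tl4 : Lev := ⟨6, 69, c7tl4D, c7tl4P, c7tl4Q⟩
noncomputable def c7ce_W : List (List ℕ) := [[nat_lit 1, nat_lit 6, nat_lit 7],
  [nat_lit 7, nat_lit 6, nat_lit 1],
  [nat_lit 7, nat_lit 6, nat_lit 1],
  [nat_lit 1, nat_lit 6, nat_lit 7],
  [nat_lit 1, nat_lit 6, nat_lit 7],
  [nat_lit 7, nat_lit 6, nat_lit 1],
  [nat_lit 1, nat_lit 6, nat_lit 7],
  [nat_lit 7, nat_lit 6, nat_lit 1],
  [nat_lit 1, nat_lit 6, nat_lit 7],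
  [nat_lit 1, nat_lit 6, nat_lit 1, nat_lit 2, nat_lit 7, nat_lit 6, nat_lit 7],
  [nat_lit 7, nat_lit 6, nat_lit 1],
  [nat_lit 1, nat_lit 6, nat_lit 1, nat_lit 2, nat_lit 7, nat_lit 6, nat_lit 7],
  [nat_lit 11, nat_lit 0, nat_lit 3, nat_lit 6, nat_lit 4, nat_lit 2, nat_lit 7, nat_lit 6, nat_lit 8, nat_lit 7, nat_lit 6]]
noncomputable def c7ce_P : ℕ → ℕ → ℕ := wdsP A0.P c7ce_W
noncomputable def c7cc0Dd : ℕ := nat_lit 0x2d4d80cd31918d539b1a04000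
noncomputable def c7cc0D (u : ℕ) : ℕ := Nat.land (Nat.shiftRight c7cc0Dd (Nat.mul u (nat_lit 7))) (nat_lit 127)
noncomputable def c7cc0Pd : ℕ := nat_lit 0x19642d358960720e62
noncomputable def c7cc0P (u : ℕ) : ℕ := Nat.land (Nat.shiftRight c7cc0Pd (Nat.mul u (nat_lit 5))) (nat_lit 31)
noncomputable def c7cc0Qd : ℕ := nat_lit 0xc801075000da09b40632000
noncomputable def c7cc0Q (u : ℕ) : ℕ := Nat.land (Nat.shiftRight c7cc0Qd (Nat.mul u (nat_lit 4))) (nat_lit 15)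
noncomputable def c7cc0 : Lev := ⟨14, 13, c7cc0D, c7cc0P, c7cc0Q⟩
noncomputable def c7tn0Fd : ℕ := nat_lit 0x6c09c034e00000001a028041000
noncomputable def c7tn0F (u : ℕ) : ℕ := Nat.land (Nat.shiftRight c7tn0Fd (Nat.mul u (nat_lit 6))) (nat_lit 63)
noncomputable def c7tn0 : Nd := ⟨c7tn0F, (nat_lit 13), (nat_lit 13), [[nat_lit 0]], [((nat_lit 0), []), ((nat_lit 0), [nat_lit 0]), ((nat_lit 0), [nat_lit 0, nat_lit 0]), ((nat_lit 0), [nat_lit 0, nat_lit 0, nat_lit 0]), ((nat_lit 0), [nat_lit 0, nat_lit 0, nat_lit 0, nat_lit 0])], []⟩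
def QUb : List ℕ := [1, 6, 18, 42, 74, 136, 258, 520, 1032, 2048]

theorem nx_lt : allL (ltAll 11) nx_W = true := by decide +kernel
theorem ckh_lt : allL (ltAll 11) ckh_W = true := by decide +kernel
theorem ckl0_e_0 : allZ (dent ckl0 ckh_P (nat_lit 24)) (nat_lit 0) (nat_lit 23) = true := by decide +kernel
theorem ckl0_h : 0 < ckl0.n ∧ 0 < ckl0.K ∧ ckl0.Pt 0 < 24 ∧ ckl0.Q (ckl0.Pt 0) = 0 := by decide +kernel
theorem ckl1_e_0 : allZ (dent ckl1 ckh_P (nat_lit 24)) (nat_lit 0) (nat_lit 22) = true := by decide +kernel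
theorem ckl1_h : 0 < ckl1.n ∧ 0 < ckl1.K ∧ ckl1.Pt 0 < 24 ∧ ckl1.Q (ckl1.Pt 0) = 0 := by decide +kernel
theorem ckl2_e_0 : allZ (dent ckl2 ckh_P (nat_lit 24)) (nat_lit 0) (nat_lit 21) = true := by decide +kernel
theorem ckl2_h : 0 < ckl2.n ∧ 0 < ckl2.K ∧ ckl2.Pt 0 < 24 ∧ ckl2.Q (ckl2.Pt 0) = 0 := by decide +kernel
theorem ckl3_e_0 : allZ (dent ckl3 ckh_P (nat_lit 24)) (nat_lit 0) (nat_lit 20) = true := by decide +kernel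
theorem ckl3_h : 0 < ckl3.n ∧ 0 < ckl3.K ∧ ckl3.Pt 0 < 24 ∧ ckl3.Q (ckl3.Pt 0) = 0 := by decide +kernel
theorem ckl4_e_0 : allZ (dent ckl4 ckh_P (nat_lit 24)) (nat_lit 0) (nat_lit 19) = true := by decide +kernel
theorem ckl4_h : 0 < ckl4.n ∧ 0 < ckl4.K ∧ ckl4.Pt 0 < 24 ∧ ckl4.Q (ckl4.Pt 0) = 0 := by decide +kernel
theorem ckl5_e_0 : allZ (dent ckl5 ckh_P (nat_lit 24)) (nat_lit 0) (nat_lit 15) = true := by decide +kernel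
theorem ckl5_h : 0 < ckl5.n ∧ 0 < ckl5.K ∧ ckl5.Pt 0 < 24 ∧ ckl5.Q (ckl5.Pt 0) = 0 := by decide +kernel
theorem ckl6_e_0 : allZ (dent ckl6 ckh_P (nat_lit 24)) (nat_lit 0) (nat_lit 2) = true := by decide +kernel
theorem ckl6_h : 0 < ckl6.n ∧ 0 < ckl6.K ∧ ckl6.Pt 0 < 24 ∧ ckl6.Q (ckl6.Pt 0) = 0 := by decide +kernel
theorem ck_f6 : (Nat.ble ckl6.K 20 && Nat.ble (topK []) ckl6.K && fixLetters ckh_P (topK []) (ckl6.Pt 0)) = true := by decide +kernel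
theorem ck_f5 : (Nat.ble ckl5.K 20 && Nat.ble (topK [ckl6]) ckl5.K && fixLetters ckh_P (topK [ckl6]) (ckl5.Pt 0)) = true := by decide +kernel
theorem ck_f4 : (Nat.ble ckl4.K 20 && Nat.ble (topK [ckl5, ckl6]) ckl4.K && fixLetters ckh_P (topK [ckl5, ckl6]) (ckl4.Pt 0)) = true := by decide +kernel
theorem ck_f3 : (Nat.ble ckl3.K 20 && Nat.ble (topK [ckl4, ckl5, ckl6]) ckl3.K && fixLetters ckh_P (topK [ckl4, ckl5, ckl6]) (ckl3.Pt 0)) = true := by decide +kernel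
theorem ck_f2 : (Nat.ble ckl2.K 20 && Nat.ble (topK [ckl3, ckl4, ckl5, ckl6]) ckl2.K && fixLetters ckh_P (topK [ckl3, ckl4, ckl5, ckl6]) (ckl2.Pt 0)) = true := by decide +kernel
theorem ck_f1 : (Nat.ble ckl1.K 20 && Nat.ble (topK [ckl2, ckl3, ckl4, ckl5, ckl6]) ckl1.K && fixLetters ckh_P (topK [ckl2, ckl3, ckl4, ckl5, ckl6]) (ckl1.Pt 0)) = true := by decide +kernel
theorem ck_f0 : (Nat.ble ckl0.K 20 && Nat.ble (topK [ckl1, ckl2, ckl3, ckl4, ckl5, ckl6]) ckl0.K && fixLetters ckh_P (topK [ckl1, ckl2, ckl3, ckl4, ckl5, ckl6]) (ckl0.Pt 0)) = true := by decide +kernel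
theorem ck_c : chainCard [ckl0, ckl1, ckl2, ckl3, ckl4, ckl5, ckl6] = 244823040 := by decide +kernel
theorem ckce_lt : allL (ltAll 11) ckce_W = true := by decide +kernel
theorem ckcc6_e_0 : allZ (dent ckcc6 ckce_P (nat_lit 24)) (nat_lit 0) (nat_lit 2) = true := by decide +kernel
theorem ckcc6_h : 0 < ckcc6.n ∧ 0 < ckcc6.K ∧ ckcc6.Pt 0 < 24 ∧ ckcc6.Q (ckcc6.Pt 0) = 0 := by decide +kernel
theorem ckn0_0 : (Nat.ble ckl6.K 20 && Nat.beq (ltAll 24 [ckl5.Pt 0, ckl4.Pt 0, ckl3.Pt 0, ckl2.Pt 0, ckl1.Pt 0, ckl0.Pt 0]) 0 && kChk ckce_P nx_P ckn0.Kn 2 H15.MM24.B [ckl5.Pt 0, ckl4.Pt 0, ckl3.Pt 0, ckl2.Pt 0, ckl1.Pt 0, ckl0.Pt 0] && allL (ltAll 2) ckn0.pre && planOK ckh_P nx_P 2 (ckl6.Pt 0) ckn0.plan [ckl6]) = true := by decide +kernel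
theorem ckn0_1_0 : allZ (ckn0.ent H15.MM24.P ckh_P nx_P nx_P ckce_P (nat_lit 11) (nat_lit 2) H15.MM24.B ckl6 [] (memO ckcc6)) (nat_lit 0) (nat_lit 3) = true := by decide +kernel
theorem ckc_f6 : (Nat.ble ckcc6.K 3 && Nat.ble (topK []) ckcc6.K && Nat.beq (ckcc6.Pt 0) (ckl6.Pt 0) && Nat.beq (ltAll 24 [ckl5.Pt 0, ckl4.Pt 0, ckl3.Pt 0, ckl2.Pt 0, ckl1.Pt 0, ckl0.Pt 0]) 0 && kChk ckce_P nx_P ckcc6.K 2 H15.MM24.B [ckl5.Pt 0, ckl4.Pt 0, ckl3.Pt 0, ckl2.Pt 0, ckl1.Pt 0, ckl0.Pt 0]) = true := by decide +kernel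
theorem ckc_f5 : (Nat.ble ckl5.K 20 && Nat.blt (nat_lit 1) 24 && fixLetters ckh_P ckl5.K (nat_lit 1) && Nat.beq (ltAll 2 [nat_lit 0]) 0 && Nat.beq (apW nx_P [nat_lit 0] (nat_lit 1)) (ckl5.Pt 0)) = true := by decide +kernel
theorem ckc_f4 : (Nat.ble ckl4.K 20 && Nat.blt (nat_lit 1) 24 && fixLetters ckh_P ckl4.K (nat_lit 1) && Nat.beq (ltAll 2 [nat_lit 1]) 0 && Nat.beq (apW nx_P [nat_lit 1] (nat_lit 1)) (ckl4.Pt 0)) = true := by decide +kernel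
theorem ckcc3_e_0 : allZ (dent ckcc3 ckce_P (nat_lit 24)) (nat_lit 0) (nat_lit 6) = true := by decide +kernel
theorem ckcc3_h : 0 < ckcc3.n ∧ 0 < ckcc3.K ∧ ckcc3.Pt 0 < 24 ∧ ckcc3.Q (ckcc3.Pt 0) = 0 := by decide +kernel
theorem ckn1_0 : (Nat.ble ckl3.K 20 && Nat.beq (ltAll 24 [ckl2.Pt 0, ckl1.Pt 0, ckl0.Pt 0]) 0 && kChk ckce_P nx_P ckn1.Kn 2 H15.MM24.B [ckl2.Pt 0, ckl1.Pt 0, ckl0.Pt 0] && allL (ltAll 2) ckn1.pre && planOK ckh_P nx_P 2 (ckl3.Pt 0) ckn1.plan [ckl3, ckl4, ckl5, ckl6]) = true := by decide +kernel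
theorem ckn1_1_0 : allZ (ckn1.ent H15.MM24.P ckh_P nx_P nx_P ckce_P (nat_lit 11) (nat_lit 2) H15.MM24.B ckl3 [ckl4, ckl5, ckl6] (memO ckcc3)) (nat_lit 0) (nat_lit 21) = true := by decide +kernel
theorem ckc_f3 : (Nat.ble ckcc3.K 3 && Nat.ble (topK [ckcc6]) ckcc3.K && Nat.beq (ckcc3.Pt 0) (ckl3.Pt 0) && Nat.beq (ltAll 24 [ckl2.Pt 0, ckl1.Pt 0, ckl0.Pt 0]) 0 && kChk ckce_P nx_P ckcc3.K 2 H15.MM24.B [ckl2.Pt 0, ckl1.Pt 0, ckl0.Pt 0]) = true := by decide +kernel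
theorem ckc_f2 : (Nat.ble ckl2.K 20 && Nat.blt (nat_lit 0) 24 && fixLetters ckh_P ckl2.K (nat_lit 0) && Nat.beq (ltAll 2 [nat_lit 1, nat_lit 0]) 0 && Nat.beq (apW nx_P [nat_lit 1, nat_lit 0] (nat_lit 0)) (ckl2.Pt 0)) = true := by decide +kernel
theorem ckc_f1 : (Nat.ble ckl1.K 20 && Nat.blt (nat_lit 0) 24 && fixLetters ckh_P ckl1.K (nat_lit 0) && Nat.beq (ltAll 2 [nat_lit 1]) 0 && Nat.beq (apW nx_P [nat_lit 1] (nat_lit 0)) (ckl1.Pt 0)) = true := by decide +kernel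
theorem ckcc0_e_0 : allZ (dent ckcc0 ckce_P (nat_lit 24)) (nat_lit 0) (nat_lit 7) = true := by decide +kernel
theorem ckcc0_h : 0 < ckcc0.n ∧ 0 < ckcc0.K ∧ ckcc0.Pt 0 < 24 ∧ ckcc0.Q (ckcc0.Pt 0) = 0 := by decide +kernel
theorem ckn2_0 : (Nat.ble ckl0.K 20 && Nat.beq (ltAll 24 []) 0 && kChk ckce_P nx_P ckn2.Kn 2 H15.MM24.B [] && allL (ltAll 2) ckn2.pre && planOK ckh_P nx_P 2 (ckl0.Pt 0) ckn2.plan [ckl0, ckl1, ckl2, ckl3, ckl4, ckl5, ckl6]) = true := by decide +kernel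
theorem ckn2_1_0 : allZ (ckn2.ent H15.MM24.P ckh_P nx_P nx_P ckce_P (nat_lit 11) (nat_lit 2) H15.MM24.B ckl0 [ckl1, ckl2, ckl3, ckl4, ckl5, ckl6] (memO ckcc0)) (nat_lit 0) (nat_lit 24) = true := by decide +kernel
theorem ckc_f0 : (Nat.ble ckcc0.K 3 && Nat.ble (topK [ckcc3, ckcc6]) ckcc0.K && Nat.beq (ckcc0.Pt 0) (ckl0.Pt 0) && Nat.beq (ltAll 24 []) 0 && kChk ckce_P nx_P ckcc0.K 2 H15.MM24.B []) = true := by decide +kernel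
theorem ckc_c : chainCard [ckcc0, ckcc3, ckcc6] = 168 ∧ topK [ckcc0, ckcc3, ckcc6] = 3 := by decide +kernel
theorem a5_lt : allL (ltAll 13) a5_W = true := by decide +kernel
theorem c5x_lt : allL (ltAll 13) c5x_W = true := by decide +kernel
theorem c5th_lt : allL (ltAll 13) c5th_W = true := by decide +kernel
theorem c5tl0_e_0 : allZ (dent c5tl0 c5th_P (nat_lit 24)) (nat_lit 0) (nat_lit 21) = true := by decide +kernel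
theorem c5tl0_h : 0 < c5tl0.n ∧ 0 < c5tl0.K ∧ c5tl0.Pt 0 < 24 ∧ c5tl0.Q (c5tl0.Pt 0) = 0 := by decide +kernel
theorem c5tl1_e_0 : allZ (dent c5tl1 c5th_P (nat_lit 24)) (nat_lit 0) (nat_lit 20) = true := by decide +kernel
theorem c5tl1_h : 0 < c5tl1.n ∧ 0 < c5tl1.K ∧ c5tl1.Pt 0 < 24 ∧ c5tl1.Q (c5tl1.Pt 0) = 0 := by decide +kernel
theorem c5tl2_e_0 : allZ (dent c5tl2 c5th_P (nat_lit 24)) (nat_lit 0) (nat_lit 19) = true := by decide +kernel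
theorem c5tl2_h : 0 < c5tl2.n ∧ 0 < c5tl2.K ∧ c5tl2.Pt 0 < 24 ∧ c5tl2.Q (c5tl2.Pt 0) = 0 := by decide +kernel
theorem c5tl3_e_0 : allZ (dent c5tl3 c5th_P (nat_lit 24)) (nat_lit 0) (nat_lit 15) = true := by decide +kernel
theorem c5tl3_h : 0 < c5tl3.n ∧ 0 < c5tl3.K ∧ c5tl3.Pt 0 < 24 ∧ c5tl3.Q (c5tl3.Pt 0) = 0 := by decide +kernel
theorem c5tl4_e_0 : allZ (dent c5tl4 c5th_P (nat_lit 24)) (nat_lit 0) (nat_lit 5) = true := by decide +kernel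
theorem c5tl4_h : 0 < c5tl4.n ∧ 0 < c5tl4.K ∧ c5tl4.Pt 0 < 24 ∧ c5tl4.Q (c5tl4.Pt 0) = 0 := by decide +kernel
theorem c5t_f4 : (Nat.ble c5tl4.K 27 && Nat.ble (topK []) c5tl4.K && fixLetters c5th_P (topK []) (c5tl4.Pt 0)) = true := by decide +kernel
theorem c5t_f3 : (Nat.ble c5tl3.K 27 && Nat.ble (topK [c5tl4]) c5tl3.K && fixLetters c5th_P (topK [c5tl4]) (c5tl3.Pt 0)) = true := by decide +kernel
theorem c5t_f2 : (Nat.ble c5tl2.K 27 && Nat.ble (topK [c5tl3, c5tl4]) c5tl2.K && fixLetters c5th_P (topK [c5tl3, c5tl4]) (c5tl2.Pt 0)) = true := by decide +kernel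
theorem c5t_f1 : (Nat.ble c5tl1.K 27 && Nat.ble (topK [c5tl2, c5tl3, c5tl4]) c5tl1.K && fixLetters c5th_P (topK [c5tl2, c5tl3, c5tl4]) (c5tl1.Pt 0)) = true := by decide +kernel
theorem c5t_f0 : (Nat.ble c5tl0.K 27 && Nat.ble (topK [c5tl1, c5tl2, c5tl3, c5tl4]) c5tl0.K && fixLetters c5th_P (topK [c5tl1, c5tl2, c5tl3, c5tl4]) (c5tl0.Pt 0)) = true := by decide +kernel
theorem c5t_c : chainCard [c5tl0, c5tl1, c5tl2, c5tl3, c5tl4] = 887040 := by decide +kernel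
theorem c5ce_lt : allL (ltAll 13) c5ce_W = true := by decide +kernel
theorem c5c_f4 : (Nat.ble c5tl4.K 27 && Nat.blt (nat_lit 3) 24 && fixLetters c5th_P c5tl4.K (nat_lit 3) && Nat.beq (ltAll 1 [nat_lit 0, nat_lit 0, nat_lit 0, nat_lit 0]) 0 && Nat.beq (apW c5x_P [nat_lit 0, nat_lit 0, nat_lit 0, nat_lit 0] (nat_lit 3)) (c5tl4.Pt 0)) = true := by decide +kernel
theorem c5c_f3 : (Nat.ble c5tl3.K 27 && Nat.blt (nat_lit 3) 24 && fixLetters c5th_P c5tl3.K (nat_lit 3) && Nat.beq (ltAll 1 [nat_lit 0, nat_lit 0, nat_lit 0]) 0 && Nat.beq (apW c5x_P [nat_lit 0, nat_lit 0, nat_lit 0] (nat_lit 3)) (c5tl3.Pt 0)) = true := by decide +kernel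
theorem c5c_f2 : (Nat.ble c5tl2.K 27 && Nat.blt (nat_lit 3) 24 && fixLetters c5th_P c5tl2.K (nat_lit 3) && Nat.beq (ltAll 1 [nat_lit 0, nat_lit 0]) 0 && Nat.beq (apW c5x_P [nat_lit 0, nat_lit 0] (nat_lit 3)) (c5tl2.Pt 0)) = true := by decide +kernel
theorem c5c_f1 : (Nat.ble c5tl1.K 27 && Nat.blt (nat_lit 3) 24 && fixLetters c5th_P c5tl1.K (nat_lit 3) && Nat.beq (ltAll 1 [nat_lit 0]) 0 && Nat.beq (apW c5x_P [nat_lit 0] (nat_lit 3)) (c5tl1.Pt 0)) = true := by decide +kernel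
theorem c5cc0_e_0 : allZ (dent c5cc0 c5ce_P (nat_lit 24)) (nat_lit 0) (nat_lit 9) = true := by decide +kernel
theorem c5cc0_h : 0 < c5cc0.n ∧ 0 < c5cc0.K ∧ c5cc0.Pt 0 < 24 ∧ c5cc0.Q (c5cc0.Pt 0) = 0 := by decide +kernel
theorem c5tn0_0 : (Nat.ble c5tl0.K 27 && Nat.beq (ltAll 24 []) 0 && kChk c5ce_P c5x_P c5tn0.Kn 1 A0.B [] && allL (ltAll 1) c5tn0.pre && planOK c5th_P c5x_P 1 (c5tl0.Pt 0) c5tn0.plan [c5tl0, c5tl1, c5tl2, c5tl3, c5tl4]) = true := by decide +kernel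
theorem c5tn0_1_0 : allZ (c5tn0.ent A0.P c5th_P c5x_P c5x_P c5ce_P (nat_lit 13) (nat_lit 1) A0.B c5tl0 [c5tl1, c5tl2, c5tl3, c5tl4] (memO c5cc0)) (nat_lit 0) (nat_lit 22) = true := by decide +kernel
theorem c5c_f0 : (Nat.ble c5cc0.K 93 && Nat.ble (topK []) c5cc0.K && Nat.beq (c5cc0.Pt 0) (c5tl0.Pt 0) && Nat.beq (ltAll 24 []) 0 && kChk c5ce_P c5x_P c5cc0.K 1 A0.B []) = true := by decide +kernel
theorem c5c_c : chainCard [c5cc0] = 10 ∧ topK [c5cc0] = 93 := by decide +kernel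
theorem a7_lt : allL (ltAll 13) a7_W = true := by decide +kernel
theorem c7x_lt : allL (ltAll 13) c7x_W = true := by decide +kernel
theorem c7th_lt : allL (ltAll 13) c7th_W = true := by decide +kernel
theorem c7tl0_e_0 : allZ (dent c7tl0 c7th_P (nat_lit 24)) (nat_lit 0) (nat_lit 21) = true := by decide +kernel
theorem c7tl0_h : 0 < c7tl0.n ∧ 0 < c7tl0.K ∧ c7tl0.Pt 0 < 24 ∧ c7tl0.Q (c7tl0.Pt 0) = 0 := by decide +kernel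
theorem c7tl1_e_0 : allZ (dent c7tl1 c7th_P (nat_lit 24)) (nat_lit 0) (nat_lit 20) = true := by decide +kernel
theorem c7tl1_h : 0 < c7tl1.n ∧ 0 < c7tl1.K ∧ c7tl1.Pt 0 < 24 ∧ c7tl1.Q (c7tl1.Pt 0) = 0 := by decide +kernel
theorem c7tl2_e_0 : allZ (dent c7tl2 c7th_P (nat_lit 24)) (nat_lit 0) (nat_lit 19) = true := by decide +kernel
theorem c7tl2_h : 0 < c7tl2.n ∧ 0 < c7tl2.K ∧ c7tl2.Pt 0 < 24 ∧ c7tl2.Q (c7tl2.Pt 0) = 0 := by decide +kernel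
theorem c7tl3_e_0 : allZ (dent c7tl3 c7th_P (nat_lit 24)) (nat_lit 0) (nat_lit 15) = true := by decide +kernel
theorem c7tl3_h : 0 < c7tl3.n ∧ 0 < c7tl3.K ∧ c7tl3.Pt 0 < 24 ∧ c7tl3.Q (c7tl3.Pt 0) = 0 := by decide +kernel
theorem c7tl4_e_0 : allZ (dent c7tl4 c7th_P (nat_lit 24)) (nat_lit 0) (nat_lit 5) = true := by decide +kernel
theorem c7tl4_h : 0 < c7tl4.n ∧ 0 < c7tl4.K ∧ c7tl4.Pt 0 < 24 ∧ c7tl4.Q (c7tl4.Pt 0) = 0 := by decide +kernel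
theorem c7t_f4 : (Nat.ble c7tl4.K 81 && Nat.ble (topK []) c7tl4.K && fixLetters c7th_P (topK []) (c7tl4.Pt 0)) = true := by decide +kernel
theorem c7t_f3 : (Nat.ble c7tl3.K 81 && Nat.ble (topK [c7tl4]) c7tl3.K && fixLetters c7th_P (topK [c7tl4]) (c7tl3.Pt 0)) = true := by decide +kernel
theorem c7t_f2 : (Nat.ble c7tl2.K 81 && Nat.ble (topK [c7tl3, c7tl4]) c7tl2.K && fixLetters c7th_P (topK [c7tl3, c7tl4]) (c7tl2.Pt 0)) = true := by decide +kernel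
theorem c7t_f1 : (Nat.ble c7tl1.K 81 && Nat.ble (topK [c7tl2, c7tl3, c7tl4]) c7tl1.K && fixLetters c7th_P (topK [c7tl2, c7tl3, c7tl4]) (c7tl1.Pt 0)) = true := by decide +kernel
theorem c7t_f0 : (Nat.ble c7tl0.K 81 && Nat.ble (topK [c7tl1, c7tl2, c7tl3, c7tl4]) c7tl0.K && fixLetters c7th_P (topK [c7tl1, c7tl2, c7tl3, c7tl4]) (c7tl0.Pt 0)) = true := by decide +kernel
theorem c7t_c : chainCard [c7tl0, c7tl1, c7tl2, c7tl3, c7tl4] = 887040 := by decide +kernel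
theorem c7ce_lt : allL (ltAll 13) c7ce_W = true := by decide +kernel
theorem c7c_f4 : (Nat.ble c7tl4.K 81 && Nat.blt (nat_lit 2) 24 && fixLetters c7th_P c7tl4.K (nat_lit 2) && Nat.beq (ltAll 1 [nat_lit 0, nat_lit 0, nat_lit 0, nat_lit 0]) 0 && Nat.beq (apW c7x_P [nat_lit 0, nat_lit 0, nat_lit 0, nat_lit 0] (nat_lit 2)) (c7tl4.Pt 0)) = true := by decide +kernel
theorem c7c_f3 : (Nat.ble c7tl3.K 81 && Nat.blt (nat_lit 2) 24 && fixLetters c7th_P c7tl3.K (nat_lit 2) && Nat.beq (ltAll 1 [nat_lit 0, nat_lit 0, nat_lit 0]) 0 && Nat.beq (apW c7x_P [nat_lit 0, nat_lit 0, nat_lit 0] (nat_lit 2)) (c7tl3.Pt 0)) = true := by decide +kernel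
theorem c7c_f2 : (Nat.ble c7tl2.K 81 && Nat.blt (nat_lit 2) 24 && fixLetters c7th_P c7tl2.K (nat_lit 2) && Nat.beq (ltAll 1 [nat_lit 0, nat_lit 0]) 0 && Nat.beq (apW c7x_P [nat_lit 0, nat_lit 0] (nat_lit 2)) (c7tl2.Pt 0)) = true := by decide +kernel
theorem c7c_f1 : (Nat.ble c7tl1.K 81 && Nat.blt (nat_lit 2) 24 && fixLetters c7th_P c7tl1.K (nat_lit 2) && Nat.beq (ltAll 1 [nat_lit 0]) 0 && Nat.beq (apW c7x_P [nat_lit 0] (nat_lit 2)) (c7tl1.Pt 0)) = true := by decide +kernel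
theorem c7cc0_e_0 : allZ (dent c7cc0 c7ce_P (nat_lit 24)) (nat_lit 0) (nat_lit 13) = true := by decide +kernel
theorem c7cc0_h : 0 < c7cc0.n ∧ 0 < c7cc0.K ∧ c7cc0.Pt 0 < 24 ∧ c7cc0.Q (c7cc0.Pt 0) = 0 := by decide +kernel
theorem c7tn0_0 : (Nat.ble c7tl0.K 81 && Nat.beq (ltAll 24 []) 0 && kChk c7ce_P c7x_P c7tn0.Kn 1 A0.B [] && allL (ltAll 1) c7tn0.pre && planOK c7th_P c7x_P 1 (c7tl0.Pt 0) c7tn0.plan [c7tl0, c7tl1, c7tl2, c7tl3, c7tl4]) = true := by decide +kernel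
theorem c7tn0_1_0 : allZ (c7tn0.ent A0.P c7th_P c7x_P c7x_P c7ce_P (nat_lit 13) (nat_lit 1) A0.B c7tl0 [c7tl1, c7tl2, c7tl3, c7tl4] (memO c7cc0)) (nat_lit 0) (nat_lit 22) = true := by decide +kernel
theorem c7c_f0 : (Nat.ble c7cc0.K 13 && Nat.ble (topK []) c7cc0.K && Nat.beq (c7cc0.Pt 0) (c7tl0.Pt 0) && Nat.beq (ltAll 24 []) 0 && kChk c7ce_P c7x_P c7cc0.K 1 A0.B []) = true := by decide +kernel
theorem c7c_c : chainCard [c7cc0] = 14 ∧ topK [c7cc0] = 13 := by decide +kernel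
theorem a57_ok : eqL A0.P 13 A0.B (rp 5 (nth [] a5_W 0)) [] = 0 ∧ apW A0.P (nth [] a5_W 0) 3 ≠ 3 ∧ eqL A0.P 13 A0.B (rp 7 (nth [] a7_W 0)) [] = 0 ∧ apW A0.P (nth [] a7_W 0) 2 ≠ 2 := by decide +kernel
theorem QW_ok : allL (ltAll 8205) QW = true ∧ ∀ k < 7, htChk (nth 0 QT7 k) (nth [] QC k) = true ∧ ∀ i < 13, apW PD (nth [] QW k) (2 ^ i) % 4096 = linL (nth [] QC k) (2 ^ i) := by decide +kernel
theorem std_H : ∀ d ∈ [(0, 5, 32), (1, 7, 2), (2, 11, 8)], eqH 10 0 (rp d.2.1 (nth [] QW d.1)) [] = 0 ∧ cntCls (fQ d.1) 0 0 8192 = d.2.2 := by decide +kernel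
theorem std_M : ∀ d ∈ [(5, nth [] KV 1, 8), (7, nth [] TV 3, 4), (11, W11, 2)], eM (rp d.1 d.2.1) [] = 0 ∧ ltAll 11 d.2.1 = 0 ∧ cntCls (fV d.2.1) 0 0 2048 = d.2.2 := by decide +kernel
theorem SI_ok : allL (ltAll 8205) SI = true ∧ ltAll 3 n1 = 0 ∧ ltAll 3 n2 = 0 ∧ eM (nth [] nx_W 0) (kw n1) = 0 ∧ eM (nth [] nx_W 1) (kw n2) = 0 ∧ ∀ e < 2, eqH 10 0 (kh e n1) (nth [] SI 0) = 0 ∧ eqH 10 0 (kh e n2) (nth [] SI 1) = 0 ∧ eqH 10 0 (nth [] SI 0 ++ vw 859) (nth [] SI 2) = 0 := by decide +kernel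
theorem cox_ok : (∀ i < 4, eqH 10 0 (H0.PM.flat SI [i, i]) [] = 0 ∧ apW PD (nth [] SI i) 1 = 1 ∧ apW PD (nth [] SI i) 2049 = 2049 ∧ ∀ j < 4, (i + 1 = j → eqH 10 0 (H0.PM.flat SI [i, j, i]) (H0.PM.flat SI [j, i, j]) = 0) ∧ (i + 1 < j → eqH 10 0 (H0.PM.flat SI [j, i]) (H0.PM.flat SI [i, j]) = 0)) ∧ apW PD (H0.PM.flat SI [1, 0]) 2 ≠ 2 ∧ eqH 10 0 F5 (H0.PM.flat SI [3, 2, 1, 0]) = 0 := by decide +kernel
theorem tau_ok : (∀ i < 2, eM (nth [] nx_W i ++ nth [] TV 3) (nth [] TV 3 ++ nth [] nx_W i) = 0) ∧ apW PX (nth [] TV 3) 859 = 859 ∧ (∀ a < 8, apW PX (nth [] TV 3) a < 8 ∧ apW PX w3 a < 8 ∧ (a ≠ 0 → ∃ k < 7, apW PX (rp k (nth [] TV 3)) 1 = a)) ∧ ltAll 11 w3 = 0 ∧ eM (nth [] TV 3 ++ w3) (w3 ++ (nth [] TV 3 ++ nth [] TV 3)) = 0 := by decide +kernel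
theorem TX_ok : allL (ltAll 11) TX = true ∧ ∀ k < 9, (∀ i < 2, eM (nth [] nx_W i ++ nth [] TX k) (nth [] TX k ++ nth [] nx_W i) = 0) ∧ eM (kw Ur ++ nth [] TX k) (nth [] TX k ++ kw Ur) = 0 ∧ (∀ a < 8, apW PX (nth [] TX k) a < 8) ∧ ∀ d ∈ [nth (0, 0) WV k], d.2 < 8192 ∧ inQU d.2 = 0 ∧ eqH 10 d.2 (vw (apW PX (nth [] TX k) 859 ^^^ 859)) (lw d.1) = 0 := by decide +kernel
theorem TX_tr : ∀ i j : Fin 3, i ≠ j → ∀ v : Fin 3 → ZMod 2, cd3 (Matrix.mulVec (Matrix.transvection i j 1) v) = apW PX (nth [] TX (3 * i + j)) (cd3 v) := by decide +kernel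
theorem cd3_ok : (∀ u v : Fin 3 → ZMod 2, cd3 (u + v) = cd3 u ^^^ cd3 v ∧ (cd3 u = cd3 v → u = v) ∧ cd3 u < 8) ∧ ∀ a < 8, ∃ v, cd3 v = a := by decide +kernel
theorem LY_ok : allL (ltAll 8205) LY = true ∧ ∀ k < 4, apW PD (nth [] LY k) 1 = 1 ∧ apW PD (nth [] LY k) 2049 = 2049 ∧ eqH 10 0 (H0.PM.flat LY [k, k]) [] = 0 ∧ ∀ j < 4, eqH 10 0 (H0.PM.flat LY [j, k]) (H0.PM.flat LY [k, j]) = 0 := by decide +kernel
theorem LY_cm : ∀ a < 8192, inQU a = 0 → ∀ k < 4, fQ (3 + k) a ∈ [0, 1, 2048, 2049] := az_of (by decide +kernel)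
theorem QU_c : cntCls inQU 0 0 8192 = 2048 := by decide +kernel
theorem LZ_ok : (∀ c ∈ QUb, c < 8192 ∧ inQU c = 0) ∧ (∀ b < 16, ∀ c < 16, (∀ i ∈ A0.B, apW A0.P (kp (lw b)) i = apW A0.P (kp (lw c)) i) → b = c) ∧ ∀ b < 16, b ≠ 0 → ∃ c ∈ QUb, apW PD (lw b) c % 4096 ≠ c % 4096 := by decide +kernel
theorem LZ_Q : ∀ a < 8192, (∀ c ∈ QUb, PD (13 + a) c = c) → ∃ u < 8, a = vq u := az_of (by decide +kernel)
theorem NT_ok : ∀ i < 4, ∀ k < 4, ∀ d ∈ [nth (0, 0) (nth [] NT i) k], d.2 < 8192 ∧ inQU d.2 = 0 ∧ eqH 10 d.2 (wcj (nth [] SI i) (nth [] LY k)) (lw d.1) = 0 := by decide +kernel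
theorem LC_ok : inQU 44 = 0 ∧ inQU 42 = 0 ∧ inQU 6 = 0 ∧ inQU 18 = 0 ∧ apW PD (nth [] LY 0) 44 = qf (vq 2) 44 ∧ apW PD (nth [] LY 0) 42 = qf (vq 4) 42 ∧ PD (13 + 18) 6 = qf 4096 6 ∧ vq 2 = 1 ∧ vq 4 = 2049 ∧ ∀ u < 8, inQU (vq u) = 0 ∧ apW PD F5 (vq u) = vq u ∧ (u ≠ 0 → tyV u = 1) := by decide +kernel
theorem F5_ok : ∀ a < 8192, fQ 0 a = 0 → apW PD F5 a = a ∧ ((∃ u < 8, a = vq u) ∨ (clq a ≠ 1 ∧ clq a ≠ 4 ∧ (qf a a = 0 → clq a = 2))) := az_of (by decide +kernel)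
theorem X8_ok : apW PD F5 424 = 424 ∧ clq 424 = 2 ∧ qf 424 424 = 0 ∧ eqH 10 0 (X8 ++ F5) (F5 ++ X8) = 0 ∧ ∀ u < 8, eqH 10 4096 (rp 4 (X8 ++ vw u)) [] = 0 := by decide +kernel

theorem nx_act {G Ω : Type*} [Group G] [MulAction G Ω] {g : ℕ → G} {pt : ℕ → Ω}
    (M : Md g pt H15.MM24.P 24 11 H15.MM24.B 244823040) : Act (wds g nx_W) pt nx_P 24 2 :=
  M.wact nx_lt
theorem ckh_act {G Ω : Type*} [Group G] [MulAction G Ω] {g : ℕ → G} {pt : ℕ → Ω}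
    (M : Md g pt H15.MM24.P 24 11 H15.MM24.B 244823040) : Act (wds g ckh_W) pt ckh_P 24 20 :=
  M.wact ckh_lt
theorem ckl0_e : ∀ i < 23, (dent ckl0 ckh_P (nat_lit 24)) i = 0 := allZ_sound0 ckl0_e_0
theorem ckl0_ok : DOK ckl0 ckh_P 24 := ⟨ckl0_h, ckl0_e⟩
theorem ckl1_e : ∀ i < 22, (dent ckl1 ckh_P (nat_lit 24)) i = 0 := allZ_sound0 ckl1_e_0
theorem ckl1_ok : DOK ckl1 ckh_P 24 := ⟨ckl1_h, ckl1_e⟩
theorem ckl2_e : ∀ i < 21, (dent ckl2 ckh_P (nat_lit 24)) i = 0 := allZ_sound0 ckl2_e_0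
theorem ckl2_ok : DOK ckl2 ckh_P 24 := ⟨ckl2_h, ckl2_e⟩
theorem ckl3_e : ∀ i < 20, (dent ckl3 ckh_P (nat_lit 24)) i = 0 := allZ_sound0 ckl3_e_0
theorem ckl3_ok : DOK ckl3 ckh_P 24 := ⟨ckl3_h, ckl3_e⟩
theorem ckl4_e : ∀ i < 19, (dent ckl4 ckh_P (nat_lit 24)) i = 0 := allZ_sound0 ckl4_e_0
theorem ckl4_ok : DOK ckl4 ckh_P 24 := ⟨ckl4_h, ckl4_e⟩
theorem ckl5_e : ∀ i < 15, (dent ckl5 ckh_P (nat_lit 24)) i = 0 := allZ_sound0 ckl5_e_0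
theorem ckl5_ok : DOK ckl5 ckh_P 24 := ⟨ckl5_h, ckl5_e⟩
theorem ckl6_e : ∀ i < 2, (dent ckl6 ckh_P (nat_lit 24)) i = 0 := allZ_sound0 ckl6_e_0
theorem ckl6_ok : DOK ckl6 ckh_P 24 := ⟨ckl6_h, ckl6_e⟩
theorem ck_low {G Ω : Type*} [Group G] [MulAction G Ω] {g : ℕ → G} {pt : ℕ → Ω}
    (M : Md g pt H15.MM24.P 24 11 H15.MM24.B 244823040) : SLow (gi (wds g ckh_W)) pt 24 [ckl0, ckl1, ckl2, ckl3, ckl4, ckl5, ckl6] :=
  (((((((SLow.nil).cons ckl6_ok (ckh_act M) ck_f6).cons ckl5_ok (ckh_act M) ck_f5).cons ckl4_ok (ckh_act M) ck_f4).cons ckl3_ok (ckh_act M) ck_f3).cons ckl2_ok (ckh_act M) ck_f2).cons ckl1_ok (ckh_act M) ck_f1).cons ckl0_ok (ckh_act M) ck_f0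
theorem ck_S0 {G Ω : Type*} [Group G] [MulAction G Ω] {g : ℕ → G} {pt : ℕ → Ω}
    (M : Md g pt H15.MM24.P 24 11 H15.MM24.B 244823040) : Stage ⊤ (wds g ckh_W) pt 24 [ckl0, ckl1, ckl2, ckl3, ckl4, ckl5, ckl6] [] :=
  M.stage (ck_low M) ck_c
theorem ck_S1 {G Ω : Type*} [Group G] [MulAction G Ω] {g : ℕ → G} {pt : ℕ → Ω}
    (M : Md g pt H15.MM24.P 24 11 H15.MM24.B 244823040) : Stage ⊤ (wds g ckh_W) pt 24 [ckl1, ckl2, ckl3, ckl4, ckl5, ckl6] [ckl0.Pt 0] :=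
  (ck_S0 M).next
theorem ck_S2 {G Ω : Type*} [Group G] [MulAction G Ω] {g : ℕ → G} {pt : ℕ → Ω}
    (M : Md g pt H15.MM24.P 24 11 H15.MM24.B 244823040) : Stage ⊤ (wds g ckh_W) pt 24 [ckl2, ckl3, ckl4, ckl5, ckl6] [ckl1.Pt 0, ckl0.Pt 0] :=
  (ck_S1 M).next
theorem ck_S3 {G Ω : Type*} [Group G] [MulAction G Ω] {g : ℕ → G} {pt : ℕ → Ω}
    (M : Md g pt H15.MM24.P 24 11 H15.MM24.B 244823040) : Stage ⊤ (wds g ckh_W) pt 24 [ckl3, ckl4, ckl5, ckl6] [ckl2.Pt 0, ckl1.Pt 0, ckl0.Pt 0] :=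
  (ck_S2 M).next
theorem ck_S4 {G Ω : Type*} [Group G] [MulAction G Ω] {g : ℕ → G} {pt : ℕ → Ω}
    (M : Md g pt H15.MM24.P 24 11 H15.MM24.B 244823040) : Stage ⊤ (wds g ckh_W) pt 24 [ckl4, ckl5, ckl6] [ckl3.Pt 0, ckl2.Pt 0, ckl1.Pt 0, ckl0.Pt 0] :=
  (ck_S3 M).next
theorem ck_S5 {G Ω : Type*} [Group G] [MulAction G Ω] {g : ℕ → G} {pt : ℕ → Ω}
    (M : Md g pt H15.MM24.P 24 11 H15.MM24.B 244823040) : Stage ⊤ (wds g ckh_W) pt 24 [ckl5, ckl6] [ckl4.Pt 0, ckl3.Pt 0, ckl2.Pt 0, ckl1.Pt 0, ckl0.Pt 0] :=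
  (ck_S4 M).next
theorem ck_S6 {G Ω : Type*} [Group G] [MulAction G Ω] {g : ℕ → G} {pt : ℕ → Ω}
    (M : Md g pt H15.MM24.P 24 11 H15.MM24.B 244823040) : Stage ⊤ (wds g ckh_W) pt 24 [ckl6] [ckl5.Pt 0, ckl4.Pt 0, ckl3.Pt 0, ckl2.Pt 0, ckl1.Pt 0, ckl0.Pt 0] :=
  (ck_S5 M).next
theorem ck_S7 {G Ω : Type*} [Group G] [MulAction G Ω] {g : ℕ → G} {pt : ℕ → Ω}
    (M : Md g pt H15.MM24.P 24 11 H15.MM24.B 244823040) : Stage ⊤ (wds g ckh_W) pt 24 [] [ckl6.Pt 0, ckl5.Pt 0, ckl4.Pt 0, ckl3.Pt 0, ckl2.Pt 0, ckl1.Pt 0, ckl0.Pt 0] :=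
  (ck_S6 M).next
theorem ckce_act {G Ω : Type*} [Group G] [MulAction G Ω] {g : ℕ → G} {pt : ℕ → Ω}
    (M : Md g pt H15.MM24.P 24 11 H15.MM24.B 244823040) : Act (wds g ckce_W) pt ckce_P 24 3 :=
  M.wact ckce_lt
theorem ckcc6_e : ∀ i < 2, (dent ckcc6 ckce_P (nat_lit 24)) i = 0 := allZ_sound0 ckcc6_e_0
theorem ckcc6_ok : DOK ckcc6 ckce_P 24 := ⟨ckcc6_h, ckcc6_e⟩
theorem ckn0_1 : ∀ i < 3, (ckn0.ent H15.MM24.P ckh_P nx_P nx_P ckce_P (nat_lit 11) (nat_lit 2) H15.MM24.B ckl6 [] (memO ckcc6)) i = 0 := allZ_sound0 ckn0_1_0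
theorem ckn0_t {G Ω : Type*} [Group G] [MulAction G Ω] {g : ℕ → G} {pt : ℕ → Ω}
    (M : Md g pt H15.MM24.P 24 11 H15.MM24.B 244823040) : TrO (gen (wds g ckh_W) ckl6.K) (wds g nx_W) (wds g nx_W) 2 pt 24 (ckl6.Pt 0) (memO ckcc6) :=
  node M (ck_S6 M) (ckh_act M) (nx_act M) (nx_act M) ckn0 ((ckce_act M).mono (by decide)) (fun _ _ => trivial) ckn0_0 ckn0_1 (List.forall_mem_nil _)
theorem ckcc3_e : ∀ i < 6, (dent ckcc3 ckce_P (nat_lit 24)) i = 0 := allZ_sound0 ckcc3_e_0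
theorem ckcc3_ok : DOK ckcc3 ckce_P 24 := ⟨ckcc3_h, ckcc3_e⟩
theorem ckn1_1 : ∀ i < 21, (ckn1.ent H15.MM24.P ckh_P nx_P nx_P ckce_P (nat_lit 11) (nat_lit 2) H15.MM24.B ckl3 [ckl4, ckl5, ckl6] (memO ckcc3)) i = 0 := allZ_sound0 ckn1_1_0
theorem ckn1_t {G Ω : Type*} [Group G] [MulAction G Ω] {g : ℕ → G} {pt : ℕ → Ω}
    (M : Md g pt H15.MM24.P 24 11 H15.MM24.B 244823040) : TrO (gen (wds g ckh_W) ckl3.K) (wds g nx_W) (wds g nx_W) 2 pt 24 (ckl3.Pt 0) (memO ckcc3) :=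
  node M (ck_S3 M) (ckh_act M) (nx_act M) (nx_act M) ckn1 ((ckce_act M).mono (by decide)) (fun _ _ => trivial) ckn1_0 ckn1_1 (List.forall_mem_nil _)
theorem ckcc0_e : ∀ i < 7, (dent ckcc0 ckce_P (nat_lit 24)) i = 0 := allZ_sound0 ckcc0_e_0
theorem ckcc0_ok : DOK ckcc0 ckce_P 24 := ⟨ckcc0_h, ckcc0_e⟩
theorem ckn2_1 : ∀ i < 24, (ckn2.ent H15.MM24.P ckh_P nx_P nx_P ckce_P (nat_lit 11) (nat_lit 2) H15.MM24.B ckl0 [ckl1, ckl2, ckl3, ckl4, ckl5, ckl6] (memO ckcc0)) i = 0 := allZ_sound0 ckn2_1_0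
theorem ckn2_t {G Ω : Type*} [Group G] [MulAction G Ω] {g : ℕ → G} {pt : ℕ → Ω}
    (M : Md g pt H15.MM24.P 24 11 H15.MM24.B 244823040) : TrO (gen (wds g ckh_W) ckl0.K) (wds g nx_W) (wds g nx_W) 2 pt 24 (ckl0.Pt 0) (memO ckcc0) :=
  node M (ck_S0 M) (ckh_act M) (nx_act M) (nx_act M) ckn2 ((ckce_act M).mono (by decide)) (fun _ _ => trivial) ckn2_0 ckn2_1 (List.forall_mem_nil _)
theorem ckc {G Ω : Type*} [Group G] [MulAction G Ω] {g : ℕ → G} {pt : ℕ → Ω}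
    (M : Md g pt H15.MM24.P 24 11 H15.MM24.B 244823040) : Cen ⊤ (wds g nx_W) 2 (wds g ckce_W) pt 24 [ckcc0, ckcc3, ckcc6] :=
  (ck_S0 M).top ▸ Cen.lev M (ck_S0 M) (Cen.triv (ck_S1 M) (Cen.triv (ck_S2 M) (Cen.lev M (ck_S3 M) (Cen.triv (ck_S4 M) (Cen.triv (ck_S5 M) (Cen.lev M (ck_S6 M) (Cen.bot) (ckn0_t M) (nx_act M) (ckce_act M) (fun _ _ => trivial) ckcc6_ok ckc_f6) (forced (ck_S5 M) (ckh_act M) (nx_act M) _ _ ckc_f5)) (forced (ck_S4 M) (ckh_act M) (nx_act M) _ _ ckc_f4)) (ckn1_t M) (nx_act M) (ckce_act M) (fun _ _ => trivial) ckcc3_ok ckc_f3) (forced (ck_S2 M) (ckh_act M) (nx_act M) _ _ ckc_f2)) (forced (ck_S1 M) (ckh_act M) (nx_act M) _ _ ckc_f1)) (ckn2_t M) (nx_act M) (ckce_act M) (fun _ _ => trivial) ckcc0_ok ckc_f0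
theorem ckc_eq {G Ω : Type*} [Group G] [MulAction G Ω] {g : ℕ → G} {pt : ℕ → Ω}
    (M : Md g pt H15.MM24.P 24 11 H15.MM24.B 244823040) : Subgroup.centralizer (gen (wds g nx_W) 2) = gen (wds g ckce_W) 3 ∧ Nat.card (gen (wds g ckce_W) 3) = 168 :=
  ckc_c.1 ▸ ckc_c.2 ▸ ⟨(ckc M).cent, (ckc M).card M.inj⟩
theorem a5_act {G Ω : Type*} [Group G] [MulAction G Ω] {g : ℕ → G} {pt : ℕ → Ω}
    (M : Md g pt A0.P 24 13 A0.B 887040) : Act (wds g a5_W) pt a5_P 24 1 :=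
  M.wact a5_lt
theorem c5x_act {G Ω : Type*} [Group G] [MulAction G Ω] {g : ℕ → G} {pt : ℕ → Ω}
    (M : Md g pt A0.P 24 13 A0.B 887040) : Act (wds g c5x_W) pt c5x_P 24 1 :=
  M.wact c5x_lt
theorem c5th_act {G Ω : Type*} [Group G] [MulAction G Ω] {g : ℕ → G} {pt : ℕ → Ω}
    (M : Md g pt A0.P 24 13 A0.B 887040) : Act (wds g c5th_W) pt c5th_P 24 27 :=
  M.wact c5th_lt
theorem c5tl0_e : ∀ i < 21, (dent c5tl0 c5th_P (nat_lit 24)) i = 0 := allZ_sound0 c5tl0_e_0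
theorem c5tl0_ok : DOK c5tl0 c5th_P 24 := ⟨c5tl0_h, c5tl0_e⟩
theorem c5tl1_e : ∀ i < 20, (dent c5tl1 c5th_P (nat_lit 24)) i = 0 := allZ_sound0 c5tl1_e_0
theorem c5tl1_ok : DOK c5tl1 c5th_P 24 := ⟨c5tl1_h, c5tl1_e⟩
theorem c5tl2_e : ∀ i < 19, (dent c5tl2 c5th_P (nat_lit 24)) i = 0 := allZ_sound0 c5tl2_e_0
theorem c5tl2_ok : DOK c5tl2 c5th_P 24 := ⟨c5tl2_h, c5tl2_e⟩
theorem c5tl3_e : ∀ i < 15, (dent c5tl3 c5th_P (nat_lit 24)) i = 0 := allZ_sound0 c5tl3_e_0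
theorem c5tl3_ok : DOK c5tl3 c5th_P 24 := ⟨c5tl3_h, c5tl3_e⟩
theorem c5tl4_e : ∀ i < 5, (dent c5tl4 c5th_P (nat_lit 24)) i = 0 := allZ_sound0 c5tl4_e_0
theorem c5tl4_ok : DOK c5tl4 c5th_P 24 := ⟨c5tl4_h, c5tl4_e⟩
theorem c5t_low {G Ω : Type*} [Group G] [MulAction G Ω] {g : ℕ → G} {pt : ℕ → Ω}
    (M : Md g pt A0.P 24 13 A0.B 887040) : SLow (gi (wds g c5th_W)) pt 24 [c5tl0, c5tl1, c5tl2, c5tl3, c5tl4] :=
  (((((SLow.nil).cons c5tl4_ok (c5th_act M) c5t_f4).cons c5tl3_ok (c5th_act M) c5t_f3).cons c5tl2_ok (c5th_act M) c5t_f2).cons c5tl1_ok (c5th_act M) c5t_f1).cons c5tl0_ok (c5th_act M) c5t_f0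
theorem c5t_S0 {G Ω : Type*} [Group G] [MulAction G Ω] {g : ℕ → G} {pt : ℕ → Ω}
    (M : Md g pt A0.P 24 13 A0.B 887040) : Stage ⊤ (wds g c5th_W) pt 24 [c5tl0, c5tl1, c5tl2, c5tl3, c5tl4] [] :=
  M.stage (c5t_low M) c5t_c
theorem c5t_S1 {G Ω : Type*} [Group G] [MulAction G Ω] {g : ℕ → G} {pt : ℕ → Ω}
    (M : Md g pt A0.P 24 13 A0.B 887040) : Stage ⊤ (wds g c5th_W) pt 24 [c5tl1, c5tl2, c5tl3, c5tl4] [c5tl0.Pt 0] :=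
  (c5t_S0 M).next
theorem c5t_S2 {G Ω : Type*} [Group G] [MulAction G Ω] {g : ℕ → G} {pt : ℕ → Ω}
    (M : Md g pt A0.P 24 13 A0.B 887040) : Stage ⊤ (wds g c5th_W) pt 24 [c5tl2, c5tl3, c5tl4] [c5tl1.Pt 0, c5tl0.Pt 0] :=
  (c5t_S1 M).next
theorem c5t_S3 {G Ω : Type*} [Group G] [MulAction G Ω] {g : ℕ → G} {pt : ℕ → Ω}
    (M : Md g pt A0.P 24 13 A0.B 887040) : Stage ⊤ (wds g c5th_W) pt 24 [c5tl3, c5tl4] [c5tl2.Pt 0, c5tl1.Pt 0, c5tl0.Pt 0] :=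
  (c5t_S2 M).next
theorem c5t_S4 {G Ω : Type*} [Group G] [MulAction G Ω] {g : ℕ → G} {pt : ℕ → Ω}
    (M : Md g pt A0.P 24 13 A0.B 887040) : Stage ⊤ (wds g c5th_W) pt 24 [c5tl4] [c5tl3.Pt 0, c5tl2.Pt 0, c5tl1.Pt 0, c5tl0.Pt 0] :=
  (c5t_S3 M).next
theorem c5t_S5 {G Ω : Type*} [Group G] [MulAction G Ω] {g : ℕ → G} {pt : ℕ → Ω}
    (M : Md g pt A0.P 24 13 A0.B 887040) : Stage ⊤ (wds g c5th_W) pt 24 [] [c5tl4.Pt 0, c5tl3.Pt 0, c5tl2.Pt 0, c5tl1.Pt 0, c5tl0.Pt 0] :=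
  (c5t_S4 M).next
theorem c5ce_act {G Ω : Type*} [Group G] [MulAction G Ω] {g : ℕ → G} {pt : ℕ → Ω}
    (M : Md g pt A0.P 24 13 A0.B 887040) : Act (wds g c5ce_W) pt c5ce_P 24 93 :=
  M.wact c5ce_lt
theorem c5cc0_e : ∀ i < 9, (dent c5cc0 c5ce_P (nat_lit 24)) i = 0 := allZ_sound0 c5cc0_e_0
theorem c5cc0_ok : DOK c5cc0 c5ce_P 24 := ⟨c5cc0_h, c5cc0_e⟩
theorem c5tn0_1 : ∀ i < 22, (c5tn0.ent A0.P c5th_P c5x_P c5x_P c5ce_P (nat_lit 13) (nat_lit 1) A0.B c5tl0 [c5tl1, c5tl2, c5tl3, c5tl4] (memO c5cc0)) i = 0 := allZ_sound0 c5tn0_1_0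
theorem c5tn0_t {G Ω : Type*} [Group G] [MulAction G Ω] {g : ℕ → G} {pt : ℕ → Ω}
    (M : Md g pt A0.P 24 13 A0.B 887040) : TrO (gen (wds g c5th_W) c5tl0.K) (wds g c5x_W) (wds g c5x_W) 1 pt 24 (c5tl0.Pt 0) (memO c5cc0) :=
  node M (c5t_S0 M) (c5th_act M) (c5x_act M) (c5x_act M) c5tn0 ((c5ce_act M).mono (by decide)) (fun _ _ => trivial) c5tn0_0 c5tn0_1 (List.forall_mem_nil _)
theorem c5c {G Ω : Type*} [Group G] [MulAction G Ω] {g : ℕ → G} {pt : ℕ → Ω}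
    (M : Md g pt A0.P 24 13 A0.B 887040) : Cen ⊤ (wds g c5x_W) 1 (wds g c5ce_W) pt 24 [c5cc0] :=
  (c5t_S0 M).top ▸ Cen.lev M (c5t_S0 M) (Cen.triv (c5t_S1 M) (Cen.triv (c5t_S2 M) (Cen.triv (c5t_S3 M) (Cen.triv (c5t_S4 M) (Cen.bot) (forced (c5t_S4 M) (c5th_act M) (c5x_act M) _ _ c5c_f4)) (forced (c5t_S3 M) (c5th_act M) (c5x_act M) _ _ c5c_f3)) (forced (c5t_S2 M) (c5th_act M) (c5x_act M) _ _ c5c_f2)) (forced (c5t_S1 M) (c5th_act M) (c5x_act M) _ _ c5c_f1)) (c5tn0_t M) (c5x_act M) (c5ce_act M) (fun _ _ => trivial) c5cc0_ok c5c_f0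
theorem c5c_card {G Ω : Type*} [Group G] [MulAction G Ω] {g : ℕ → G} {pt : ℕ → Ω}
    (M : Md g pt A0.P 24 13 A0.B 887040) : Nat.card (Subgroup.centralizer {(wds g c5x_W) 0}) = 10 :=
  (c5c M).card_cent1 M.inj c5c_c.1
theorem c5c_eq {G Ω : Type*} [Group G] [MulAction G Ω] {g : ℕ → G} {pt : ℕ → Ω}
    (M : Md g pt A0.P 24 13 A0.B 887040) : Subgroup.centralizer (gen (wds g c5x_W) 1) = gen (wds g c5ce_W) 93 ∧ Nat.card (gen (wds g c5ce_W) 93) = 10 :=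
  c5c_c.1 ▸ c5c_c.2 ▸ ⟨(c5c M).cent, (c5c M).card M.inj⟩
theorem c5 {G Ω : Type*} [Group G] [MulAction G Ω] {g : ℕ → G} {pt : ℕ → Ω}
    (M : Md g pt A0.P 24 13 A0.B 887040) : Nat.card (Subgroup.centralizer {(wds g a5_W) 0}) = 10 :=
  c5c_card M
theorem a7_act {G Ω : Type*} [Group G] [MulAction G Ω] {g : ℕ → G} {pt : ℕ → Ω}
    (M : Md g pt A0.P 24 13 A0.B 887040) : Act (wds g a7_W) pt a7_P 24 1 :=
  M.wact a7_lt
theorem c7x_act {G Ω : Type*} [Group G] [MulAction G Ω] {g : ℕ → G} {pt : ℕ → Ω}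
    (M : Md g pt A0.P 24 13 A0.B 887040) : Act (wds g c7x_W) pt c7x_P 24 1 :=
  M.wact c7x_lt
theorem c7th_act {G Ω : Type*} [Group G] [MulAction G Ω] {g : ℕ → G} {pt : ℕ → Ω}
    (M : Md g pt A0.P 24 13 A0.B 887040) : Act (wds g c7th_W) pt c7th_P 24 81 :=
  M.wact c7th_lt
theorem c7tl0_e : ∀ i < 21, (dent c7tl0 c7th_P (nat_lit 24)) i = 0 := allZ_sound0 c7tl0_e_0
theorem c7tl0_ok : DOK c7tl0 c7th_P 24 := ⟨c7tl0_h, c7tl0_e⟩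
theorem c7tl1_e : ∀ i < 20, (dent c7tl1 c7th_P (nat_lit 24)) i = 0 := allZ_sound0 c7tl1_e_0
theorem c7tl1_ok : DOK c7tl1 c7th_P 24 := ⟨c7tl1_h, c7tl1_e⟩
theorem c7tl2_e : ∀ i < 19, (dent c7tl2 c7th_P (nat_lit 24)) i = 0 := allZ_sound0 c7tl2_e_0
theorem c7tl2_ok : DOK c7tl2 c7th_P 24 := ⟨c7tl2_h, c7tl2_e⟩
theorem c7tl3_e : ∀ i < 15, (dent c7tl3 c7th_P (nat_lit 24)) i = 0 := allZ_sound0 c7tl3_e_0
theorem c7tl3_ok : DOK c7tl3 c7th_P 24 := ⟨c7tl3_h, c7tl3_e⟩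
theorem c7tl4_e : ∀ i < 5, (dent c7tl4 c7th_P (nat_lit 24)) i = 0 := allZ_sound0 c7tl4_e_0
theorem c7tl4_ok : DOK c7tl4 c7th_P 24 := ⟨c7tl4_h, c7tl4_e⟩
theorem c7t_low {G Ω : Type*} [Group G] [MulAction G Ω] {g : ℕ → G} {pt : ℕ → Ω}
    (M : Md g pt A0.P 24 13 A0.B 887040) : SLow (gi (wds g c7th_W)) pt 24 [c7tl0, c7tl1, c7tl2, c7tl3, c7tl4] :=
  (((((SLow.nil).cons c7tl4_ok (c7th_act M) c7t_f4).cons c7tl3_ok (c7th_act M) c7t_f3).cons c7tl2_ok (c7th_act M) c7t_f2).cons c7tl1_ok (c7th_act M) c7t_f1).cons c7tl0_ok (c7th_act M) c7t_f0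
theorem c7t_S0 {G Ω : Type*} [Group G] [MulAction G Ω] {g : ℕ → G} {pt : ℕ → Ω}
    (M : Md g pt A0.P 24 13 A0.B 887040) : Stage ⊤ (wds g c7th_W) pt 24 [c7tl0, c7tl1, c7tl2, c7tl3, c7tl4] [] :=
  M.stage (c7t_low M) c7t_c
theorem c7t_S1 {G Ω : Type*} [Group G] [MulAction G Ω] {g : ℕ → G} {pt : ℕ → Ω}
    (M : Md g pt A0.P 24 13 A0.B 887040) : Stage ⊤ (wds g c7th_W) pt 24 [c7tl1, c7tl2, c7tl3, c7tl4] [c7tl0.Pt 0] :=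
  (c7t_S0 M).next
theorem c7t_S2 {G Ω : Type*} [Group G] [MulAction G Ω] {g : ℕ → G} {pt : ℕ → Ω}
    (M : Md g pt A0.P 24 13 A0.B 887040) : Stage ⊤ (wds g c7th_W) pt 24 [c7tl2, c7tl3, c7tl4] [c7tl1.Pt 0, c7tl0.Pt 0] :=
  (c7t_S1 M).next
theorem c7t_S3 {G Ω : Type*} [Group G] [MulAction G Ω] {g : ℕ → G} {pt : ℕ → Ω}
    (M : Md g pt A0.P 24 13 A0.B 887040) : Stage ⊤ (wds g c7th_W) pt 24 [c7tl3, c7tl4] [c7tl2.Pt 0, c7tl1.Pt 0, c7tl0.Pt 0] :=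
  (c7t_S2 M).next
theorem c7t_S4 {G Ω : Type*} [Group G] [MulAction G Ω] {g : ℕ → G} {pt : ℕ → Ω}
    (M : Md g pt A0.P 24 13 A0.B 887040) : Stage ⊤ (wds g c7th_W) pt 24 [c7tl4] [c7tl3.Pt 0, c7tl2.Pt 0, c7tl1.Pt 0, c7tl0.Pt 0] :=
  (c7t_S3 M).next
theorem c7t_S5 {G Ω : Type*} [Group G] [MulAction G Ω] {g : ℕ → G} {pt : ℕ → Ω}
    (M : Md g pt A0.P 24 13 A0.B 887040) : Stage ⊤ (wds g c7th_W) pt 24 [] [c7tl4.Pt 0, c7tl3.Pt 0, c7tl2.Pt 0, c7tl1.Pt 0, c7tl0.Pt 0] :=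
  (c7t_S4 M).next
theorem c7ce_act {G Ω : Type*} [Group G] [MulAction G Ω] {g : ℕ → G} {pt : ℕ → Ω}
    (M : Md g pt A0.P 24 13 A0.B 887040) : Act (wds g c7ce_W) pt c7ce_P 24 13 :=
  M.wact c7ce_lt
theorem c7cc0_e : ∀ i < 13, (dent c7cc0 c7ce_P (nat_lit 24)) i = 0 := allZ_sound0 c7cc0_e_0
theorem c7cc0_ok : DOK c7cc0 c7ce_P 24 := ⟨c7cc0_h, c7cc0_e⟩
theorem c7tn0_1 : ∀ i < 22, (c7tn0.ent A0.P c7th_P c7x_P c7x_P c7ce_P (nat_lit 13) (nat_lit 1) A0.B c7tl0 [c7tl1, c7tl2, c7tl3, c7tl4] (memO c7cc0)) i = 0 := allZ_sound0 c7tn0_1_0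
theorem c7tn0_t {G Ω : Type*} [Group G] [MulAction G Ω] {g : ℕ → G} {pt : ℕ → Ω}
    (M : Md g pt A0.P 24 13 A0.B 887040) : TrO (gen (wds g c7th_W) c7tl0.K) (wds g c7x_W) (wds g c7x_W) 1 pt 24 (c7tl0.Pt 0) (memO c7cc0) :=
  node M (c7t_S0 M) (c7th_act M) (c7x_act M) (c7x_act M) c7tn0 ((c7ce_act M).mono (by decide)) (fun _ _ => trivial) c7tn0_0 c7tn0_1 (List.forall_mem_nil _)
theorem c7c {G Ω : Type*} [Group G] [MulAction G Ω] {g : ℕ → G} {pt : ℕ → Ω}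
    (M : Md g pt A0.P 24 13 A0.B 887040) : Cen ⊤ (wds g c7x_W) 1 (wds g c7ce_W) pt 24 [c7cc0] :=
  (c7t_S0 M).top ▸ Cen.lev M (c7t_S0 M) (Cen.triv (c7t_S1 M) (Cen.triv (c7t_S2 M) (Cen.triv (c7t_S3 M) (Cen.triv (c7t_S4 M) (Cen.bot) (forced (c7t_S4 M) (c7th_act M) (c7x_act M) _ _ c7c_f4)) (forced (c7t_S3 M) (c7th_act M) (c7x_act M) _ _ c7c_f3)) (forced (c7t_S2 M) (c7th_act M) (c7x_act M) _ _ c7c_f2)) (forced (c7t_S1 M) (c7th_act M) (c7x_act M) _ _ c7c_f1)) (c7tn0_t M) (c7x_act M) (c7ce_act M) (fun _ _ => trivial) c7cc0_ok c7c_f0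
theorem c7c_card {G Ω : Type*} [Group G] [MulAction G Ω] {g : ℕ → G} {pt : ℕ → Ω}
    (M : Md g pt A0.P 24 13 A0.B 887040) : Nat.card (Subgroup.centralizer {(wds g c7x_W) 0}) = 14 :=
  (c7c M).card_cent1 M.inj c7c_c.1
theorem c7c_eq {G Ω : Type*} [Group G] [MulAction G Ω] {g : ℕ → G} {pt : ℕ → Ω}
    (M : Md g pt A0.P 24 13 A0.B 887040) : Subgroup.centralizer (gen (wds g c7x_W) 1) = gen (wds g c7ce_W) 13 ∧ Nat.card (gen (wds g c7ce_W) 13) = 14 :=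
  c7c_c.1 ▸ c7c_c.2 ▸ ⟨(c7c M).cent, (c7c M).card M.inj⟩
theorem c7 {G Ω : Type*} [Group G] [MulAction G Ω] {g : ℕ → G} {pt : ℕ → Ω}
    (M : Md g pt A0.P 24 13 A0.B 887040) : Nat.card (Subgroup.centralizer {(wds g a7_W) 0}) = 14 :=
  c7c_card M

end H20.J4
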