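import Cfsg.Agent.H20.J4.LA
import Cfsg.Prelude.Def_TwoFusion

/-! The centralizer of an element of order `7`. -/

set_option autoImplicit false
set_option linter.unusedSectionVars false
set_option maxRecDepth 100000
open Subgroup H16 H19 H0 H0.TR Equiv
namespace H20.J4
variable {G : Type*} [Group G]

theorem s5_norm {A : Subgroup (Perm (Fin 5))} [A.Normal] (h : swap 0 1 * swap 1 2 ∉ A) : A = ⊥ :=
  by_contra fun e => h (Perm.alternatingGroup_le_of_normal (by simp) ((nontrivial_iff_ne_bot A).2 e)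
    (Perm.mem_alternatingGroup.2 (by decide)))
theorem card_c5 (σ : Perm (Fin 5)) : #C[σ] = (Finset.univ.filter fun ρ => ρ * σ = σ * ρ).card := by
  rw [← Nat.card_eq_finsetCard]; exact Nat.card_congr (Equiv.subtypeEquivRight fun ρ => by simp [mem_cent1])
theorem c5_ge : ∀ σ : Perm (Fin 5), σ * σ = 1 → 8 ≤ (Finset.univ.filter fun ρ => ρ * σ = σ * ρ).card := by
  decide +kernel
theorem nz_card [Finite G] {x : G} {l : ℕ} (hl : l.Prime) (o : orderOf x = l) (h2 : ¬ l * l ∣ Nat.card G) :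
    ∃ k m, k ∣ l - 1 ∧ #C[x] * k = #N(zpowers x) ∧ #N(zpowers x) * m = Nat.card G ∧ m % l = 1 % l := by
  have c : #(zpowers x) = l := by rw [Nat.card_zpowers, o]
  obtain ⟨m, e⟩ : l ∣ Nat.card G := o ▸ orderOf_dvd_natCard x
  refine ⟨_, _, ?_, card_mul_relIndex (cent1_le_norm_zpowers x), (card_mul_relIndex le_top).trans card_top,
    syl_mod hl (syl_card (k := 1) (m := m) hl le_top (c.trans (pow_one l).symm) (by rw [card_top, e, pow_one])
      fun d => h2 (e ▸ Nat.mul_dvd_mul_left l d))⟩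
  rw [relIndex, ← cent_zpowers, ← (zpowers x).normalizerMonoidHom_ker, index_ker, ← Nat.totient_prime hl, ← c,
    ← IsCyclic.card_mulAut]
  exact card_subgroup_dvd_card _
theorem prime_cj [Finite G] {S : Subgroup G} {l : ℕ} (hl : l.Prime) (h2 : ¬ l * l ∣ Nat.card G) (hS : #S = l) {y : G}
    (o : orderOf y = l) : ∃ a, cj a (zpowers y) = S := by
  obtain ⟨x, hx, ox⟩ := exists_orderOf_eq_prime hl hS.symm.dvd
  obtain ⟨a, -, e⟩ := zp_conj hl (by rwa [card_top]) (mem_top y) (mem_top x) o ox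
  exact ⟨a, e.trans (eq_of_le_of_card_ge (zpowers_le.2 hx) (by rw [Nat.card_zpowers, ox, hS]))⟩
theorem idp_cj {A B : Subgroup G} (h1 : B ≤ C(A)) (h2 : A ⊓ B = ⊥) (a : G) :
    Cfsg.IsInternalDirectProduct (cj a A) (cj a B) (cj a (A ⊔ B)) :=
  ⟨cj_mono a le_sup_left, cj_mono a le_sup_right, fun _ hx _ hy => mem_cent.1 (cj_cent a A ▸ cj_mono a h1 hy) _ hx,
    by rw [← cj_inf, h2, cj_bot], (cj_sup ..).symm⟩
theorem inv_dp {x : G} {I : Subgroup G} (hI : I ≤ C[x]) (o : Odd (orderOf x)) (d : zpowers x ⊓ I = ⊥) {c : G}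
    (hc : c ∈ zpowers x ⊔ I) {n : ℕ} (h2 : c ^ 2 ^ n = 1) : c ∈ I := by
  obtain ⟨a, ha, b, hb, rfl⟩ := (mem_sup_of_norm (hI.trans (cent1_le_norm_zpowers x))).1 hc
  have e : Commute a b := (mem_cent1.1 (cent1_le_cent1_of_mem_zpowers ha (hI hb))).symm
  rw [e.mul_pow, mul_eq_one_iff_eq_inv] at h2
  have h3 : a ^ 2 ^ n = 1 := d.le ⟨pow_mem ha _, by rw [h2]; exact I.inv_mem (pow_mem hb _)⟩
  rwa [orderOf_eq_one_iff.1 (Nat.eq_one_of_dvd_coprimes (Nat.Coprime.pow_left n (Nat.coprime_two_left.2 o))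
    (orderOf_dvd_of_pow_eq_one h3) (orderOf_dvd_of_mem_zpowers ha)), one_mul]

/-- the subgroup `S₅` -/
structure S6 (z p : G) (Q N : Subgroup G) (π : G → GPm) (g cq : ℕ → G) (Q' : Subgroup G) (q : G) (μ : G → GPm)
    (κ : ℕ → G) (e : ℕ) (φ : Perm (Fin 5) →* G) : Prop extends S5 z p Q N π g cq Q' q μ κ e where
  finj : Function.Injective φ
  sw : ∀ i : Fin 4, φ (swap i.castSucc i.succ) = wds (hl g cq) SI i

theorem S4.exists_s6 [Finite G] {z p q : G} {Q N Q' : Subgroup G} {π μ : G → GPm} {g cq : ℕ → G}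
    (h : S4 z p Q N π g cq Q' q μ) : ∃ κ e φ, S6 z p Q N π g cq Q' q μ κ e φ := by
  obtain ⟨κ, e, h⟩ := h.exists_s5
  have k : ∀ {U V}, eqH 10 0 (H0.PM.flat SI U) (H0.PM.flat SI V) = 0 →
      evA (wds (hl g cq) SI) U = evA (wds (hl g cq) SI) V := fun e => by
    simpa only [H0.PM.evA_flat] using h.eq0 e
  obtain ⟨φ, e⟩ := H9.CoxA.exists_hom (n := 4) (fun i => wds (hl g cq) SI i)
    (fun i => by simpa [evA_cons, evA_nil] using k (V := []) (cox_ok.1 i i.2).1)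
    (fun i j e => by simpa [evA_cons, evA_nil] using k (((cox_ok.1 i i.2).2.2.2 j j.2).1 e))
    fun i j e => by simpa [evA_cons, evA_nil] using k (((cox_ok.1 i i.2).2.2.2 j j.2).2 e)
  refine ⟨κ, _, φ, h, (MonoidHom.ker_eq_bot_iff φ).1 (s5_norm fun e1 => cox_ok.2.1 ?_), e⟩
  refine (h.fix1 (pflat_lt SI_ok.1 _) (by decide)).1 ?_
  rw [MonoidHom.mem_ker, map_mul, show φ (swap 0 1) = _ from e 0, show φ (swap 1 2) = _ from e 1] at e1
  rw [H0.PM.evA_flat, show evA (wds (hl g cq) SI) [1, 0] = 1 by simpa [evA_cons, evA_nil] using e1]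
  exact one_mem _

namespace S6
variable [Finite G] {z p q : G} {Q N Q' : Subgroup G} {π μ : G → GPm} {g cq κ : ℕ → G} {e : ℕ}
  {φ : Perm (Fin 5) →* G} (h : S6 z p Q N π g cq Q' q μ κ e φ)
include h
local notation "τ" => wds κ TV 3
local notation "s" => wds (hl g cq) SI
theorem I_le {S : Subgroup G} (hS : ∀ i < 4, s i ∈ S) : φ.range ≤ S := by
  rintro _ ⟨σ, rfl⟩
  refine (Submonoid.closure_le (S := (S.comap φ).toSubmonoid)).2 ?_
    ((Perm.mclosure_swap_castSucc_succ 4).ge (Submonoid.mem_top σ))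
  rintro _ ⟨i, rfl⟩
  exact show φ _ ∈ S from (h.sw i).symm ▸ hS i i.2
theorem sI {i : ℕ} (hi : i < 4) : s i ∈ φ.range := ⟨_, h.sw ⟨i, hi⟩⟩
theorem cI : #φ.range = 120 := by
  rw [← Nat.card_congr (MonoidHom.ofInjective h.finj).toEquiv, Nat.card_perm, Nat.card_fin]; rfl
theorem s01 {i : ℕ} (hi : i < 2) : s i = wds κ nx_W i := by
  obtain ⟨-, c1, c2, c3, c4, c⟩ := SI_ok
  interval_cases i
  · exact ((h.kp.eq c3).trans ((h.kH c1).trans (h.eq0 (c e h.e2).1))).symm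
  · exact ((h.kp.eq c4).trans ((h.kH c2).trans (h.eq0 (c e h.e2).2.1))).symm
theorem s_2 : s 2 = vc g cq 859 * s 0 := (h.eq0 (SI_ok.2.2.2.2.2 e h.e2).2.2).symm.trans (evA_append ..)
theorem kcomm {U V : List ℕ} (c : eM (U ++ V) (V ++ U) = 0) : evA κ U ∈ C[evA κ V] :=
  mem_cent1.2 (by simpa [evA_append] using (h.kp.eq c).symm)
theorem kfix {W : List ℕ} (hW : ∀ j ∈ W, j < 11) {a : ℕ} (ha : a < 2048) (e : apW PX W a = a) :
    evA κ W ∈ C[vc g cq a] := mem_cent1.2 (by rw [← mul_inv_eq_iff_eq_mul, (h.kact h.kp hW ha).2, e])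
theorem I_tau : φ.range ≤ C[τ] := by
  have k : ∀ i < 2, s i ∈ C[τ] := fun i hi => h.s01 hi ▸ h.kcomm (tau_ok.1 i hi)
  refine h.I_le fun i hi => ?_
  interval_cases i
  exacts [k 0 (by decide), k 1 (by decide), h.s_2 ▸ mul_mem (mem_cent1_symm.1 (h.kfix (nth_lt TU_ok.1 3) (by decide)
    tau_ok.2.1)) (k 0 (by decide)), mem_cent1_symm.1 (h.TVt (by decide))]
theorem o_tau : orderOf (τ) = 7 := h.ordV (c := 4) (by simp)
theorem c_tau : #(zpowers (τ)) = 7 := by rw [Nat.card_zpowers, h.o_tau]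
theorem d_tau : zpowers (τ) ⊓ φ.range = ⊥ := (disjoint_of_coprime_natCard (by rw [h.c_tau, h.cI]; decide)).eq_bot
theorem card_tau {A : Subgroup (Perm (Fin 5))} : #(zpowers (τ) ⊔ A.map φ : Subgroup G) = 7 * #A := by
  rw [card_sup_of_disjoint (((map_le_range φ A).trans h.I_tau).trans (cent1_le_norm_zpowers _))
    (H19.eq_bot_mono (inf_le_inf_left _ (map_le_range φ A)) h.d_tau), h.c_tau, card_map_of_injective h.finj]
theorem c14 {σ : Perm (Fin 5)} (h2 : σ * σ = 1) (h1 : σ ≠ 1) : zpowers (τ) ⊔ C[σ].map φ = C[τ] ⊓ C[φ σ] := by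
  have k := h.I_tau ⟨σ, rfl⟩
  refine eq_of_card_lt (sup_le (zpowers_le.2 ⟨mem_cent1_self _, mem_cent1_symm.1 k⟩) (le_inf
    ((map_le_range φ _).trans h.I_tau) ?_)) ?_
  · rintro _ ⟨ρ, hρ, rfl⟩
    exact mem_cent1.2 (by rw [← map_mul, ← map_mul, mem_cent1.1 hρ])
  have := c5_ge σ h2
  rw [h.card_tau, card_c5, inf_comm]
  rcases h.cls2 (x := φ σ) (by rw [← map_mul, h2, map_one]) (by simpa [h.finj.eq_iff' (map_one φ)] using h1) with e | e
  · exact (h.bz (l := 7) (by simp) e (mem_cent1_symm.1 k) h.o_tau).trans_lt (by change 84 < _; omega)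
  · exact (h.bt (l := 7) (by simp) e (mem_cent1_symm.1 k) h.o_tau).trans_lt (by change 56 < _; omega)
theorem card7 : #(zpowers (τ) ⊔ φ.range : Subgroup G) = 840 := by
  rw [MonoidHom.range_eq_map, h.card_tau, card_top, Nat.card_perm, Nat.card_fin]; rfl
theorem c7 : zpowers (τ) ⊔ φ.range = C[τ] := by
  have hY : zpowers (τ) ⊔ φ.range ≤ C[τ] := sup_le (zpowers_le.2 (mem_cent1_self _)) h.I_tau
  have k : ∀ c ∈ zpowers (τ) ⊔ φ.range, c * c = 1 → ∃ σ, σ * σ = 1 ∧ φ σ = c := fun c hc c2 => by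
    obtain ⟨σ, rfl⟩ := inv_dp h.I_tau (by rw [h.o_tau]; decide) h.d_tau hc (n := 1) (by rwa [pow_one, pow_two])
    exact ⟨σ, h.finj (by rw [map_mul, c2, map_one]), rfl⟩
  have c : ∀ σ : Perm (Fin 5), σ * σ = 1 → σ ≠ 1 → #(C[τ] ⊓ C[φ σ] : Subgroup G) = 7 * _ := fun σ h2 h1 => by
    rw [← h.c14 h2 h1, h.card_tau, card_c5]
  have c1 := c (swap 0 1) (by decide) (by decide)
  have c2 := c (swap 0 1 * swap 2 3) (by decide) (by decide)
  rw [show Finset.card _ = 12 by decide +kernel] at c1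
  rw [show Finset.card _ = 8 by decide +kernel] at c2
  have sq : ∀ σ : Perm (Fin 5), σ * σ = 1 → φ σ * φ σ = 1 := fun σ e => by rw [← map_mul, e, map_one]
  have k1 := fun {j} => semb2 hY (fun c hc c2 c1 => by
      obtain ⟨σ, h2, rfl⟩ := k c hc c2
      exact (h.c14 h2 fun e => c1 (by rw [e, map_one])).ge.trans (sup_le_sup_left (map_le_range φ _) _))
    (mem_sup_right ⟨swap 0 1, rfl⟩) (mem_sup_right ⟨swap 0 1 * swap 2 3, rfl⟩) (sq _ (by decide)) (sq _ (by decide))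
    (by rw [Ne, h.finj.eq_iff' (map_one φ)]; decide) (by rw [Ne, h.finj.eq_iff' (map_one φ)]; decide)
    (fun e => by have := card_cl_cent e; omega) (j := j)
  refine eq_of_card_lt hY ?_
  have c3 : (cl C[τ] (φ (swap 0 1 * swap 2 3))).ncard ≤ 26 := by
    refine (Set.ncard_le_ncard (t := φ '' (Finset.univ.filter fun σ : Perm (Fin 5) => σ * σ = 1 : Finset _)) fun j hj => ?_).trans
      ((Set.ncard_image_le (Set.toFinite _)).trans (by rw [Set.ncard_coe_finset]; decide +kernel))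
    have j2 := cl_sq (sq _ (by decide)) hj
    obtain ⟨σ, h2, e⟩ := k j (k1 (cl_mem (h.I_tau ⟨_, rfl⟩) hj) j2) j2
    exact ⟨σ, by simpa using h2, e⟩
  rw [← cl_card _ (φ (swap 0 1 * swap 2 3)), c2, h.card7]
  omega
theorem n7 [IsSimpleGroup G] : #N(zpowers (τ)) = 3 * 840 := by
  obtain ⟨k, m, h1, h2, h3, h4⟩ := nz_card (by norm_num) h.o_tau (by rw [h.card]; decide)
  rw [← h.c7, h.card7] at h2
  rw [← h2, h.card] at h3
  have := Nat.le_of_dvd (by decide) h1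
  rw [← h2]
  interval_cases k <;> omega
end S6
end H20.J4
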