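import Cfsg.Agent.H20.J4.LC
import Cfsg.Agent.H4.Critical

/-! The subgroup `2^(3+12).(S₅ × L₃(2))`. -/

set_option autoImplicit false
set_option linter.unusedSectionVars false
set_option maxRecDepth 100000
open Subgroup H16 H19 H0 H0.TR Equiv Matrix
open scoped commutatorElement
namespace H20.J4
variable {G : Type*} [Group G]

theorem exists_permHom {ι : Type*} [Finite ι] (C : Subgroup G) {d : ι → G}
    (hi : Function.Injective d) (h : ∀ g ∈ C, ∀ i, ∃ j, g * d i * g⁻¹ = d j) :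
    ∃ φ : C →* Equiv.Perm ι, ∀ (g : C) i, g * d i * (g : G)⁻¹ = d (φ g i) := by
  choose f hf using h
  let _ : MulAction C ι :=
    { smul := fun g i => f g g.2 i
      one_smul := fun i => hi ((hf _ _ i).symm.trans (by simp))
      mul_smul := fun g k i => hi ((hf _ _ i).symm.trans (by
        change _ = d (f g g.2 (f k k.2 i))
        rw [← hf, ← hf]; simp [mul_assoc])) }
  exact ⟨MulAction.toPermHom C ι, fun g i => hf g g.2 i⟩
abbrev SL3 := SpecialLinearGroup (Fin 3) (ZMod 2)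
theorem card_SL3 : Nat.card SL3 = 168 := by
  have := H11.card_units_mul_card_sl (F := ZMod 2) (ι := Fin 3)
  rw [card_GL_field] at this
  generalize Nat.card SL3 = a at this ⊢
  simpa [Fin.prod_univ_succ] using this
theorem exists_rho {ι : Type} [Fintype ι] [DecidableEq ι] {W : Subgroup G} {o : (ι → ZMod 2) → G}
    (inj : Function.Injective o) (add : ∀ u v, o (u + v) = o u * o v) (mem : ∀ x, x ∈ W ↔ ∃ v, o v = x) :
    ∃ ρ : N(W) →* SpecialLinearGroup ι (ZMod 2), ρ.ker = C(W).subgroupOf _ ∧ ∀ B : Subgroup G,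
      (∀ i j, i ≠ j → ∃ b ∈ B ⊓ N(W), ∀ v, b * o v * b⁻¹ = o (transvection i j 1 *ᵥ v)) →
        ∀ A, ∃ b : N(W), b.1 ∈ B ∧ ρ b = A := by
  obtain ⟨φ, k⟩ := exists_permHom N(W) inj fun g hg v => by
    obtain ⟨u, e⟩ := (mem _).1 ((hg _).1 ((mem _).2 ⟨v, rfl⟩))
    exact ⟨u, e.symm⟩
  let M : N(W) → Matrix ι ι (ZMod 2) := fun g => LinearMap.toMatrix'
    (AddMonoidHom.toZModLinearMap 2 (.mk' (φ g) fun u v => inj (by rw [← k, add, add, ← k, ← k, conj_mul])))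
  have e : ∀ g v, M g *ᵥ v = φ g v := fun g v => LinearMap.toMatrix'_mulVec _ v
  have m : ∀ a b, M (a * b) = M a * M b := fun a b => ext_iff_mulVec.2 fun v => by
    rw [← mulVec_mulVec, e, e, e, map_mul]; rfl
  have o1 : M 1 = 1 := ext_iff_mulVec.2 fun v => by rw [e, map_one, one_mulVec]; rfl
  let α : N(W) →* SpecialLinearGroup ι (ZMod 2) := .mk' (fun g => ⟨M g,
    (by decide : ∀ a b : ZMod 2, a * b = 1 → a = 1) _ (M g⁻¹).det (by rw [← det_mul, ← m, mul_inv_cancel, o1, det_one])⟩)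
    fun a b => Subtype.ext (m a b)
  refine ⟨α, Subgroup.ext fun g => ⟨fun a b hb => ?_, fun a => Subtype.ext (ext_iff_mulVec.2 fun v => inj ?_)⟩,
    fun B l A => ?_⟩
  · obtain ⟨v, rfl⟩ := (mem _).1 hb
    have := k g v
    rw [← e, show M g = 1 from congrArg Subtype.val a, one_mulVec, mul_inv_eq_iff_eq_mul] at this
    exact this.symm
  · change o (M g *ᵥ v) = o (1 *ᵥ v)
    rw [e, ← k, one_mulVec, mul_inv_eq_iff_eq_mul]
    exact (a _ ((mem _).2 ⟨v, rfl⟩)).symm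
  suffices ∃ g : N(W), g.1 ∈ B ∧ M g = A from let ⟨g, a, b⟩ := this; ⟨g, a, Subtype.ext b⟩
  refine diagonal_transvection_induction_of_det_ne_zero (fun A => ∃ g : N(W), g.1 ∈ B ∧ M g = A) _ (by simp)
    (fun D d => ?_) (fun ⟨i, j, ij, c⟩ => ?_) fun _ _ _ _ ⟨a, ha, e⟩ ⟨b, hb, e'⟩ =>
      ⟨a * b, mul_mem ha hb, by rw [m, e, e']⟩
  · refine ⟨1, one_mem _, o1.trans ?_⟩
    rw [det_diagonal, Finset.prod_ne_zero_iff] at d
    rw [show D = 1 from funext fun i => (zmod2_cases _).resolve_left (d i (Finset.mem_univ i))]; rfl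
  rcases zmod2_cases c with rfl | rfl
  · exact ⟨1, one_mem _, o1.trans (transvection_zero i j).symm⟩
  obtain ⟨b, hb, f⟩ := l i j ij
  exact ⟨⟨b, hb.2⟩, hb.1, ext_iff_mulVec.2 fun v => inj (by rw [e, ← k]; exact f v)⟩
theorem card_pts' {pt : ℕ → G} {n : ℕ} (hp : PtInj pt n) {S : Subgroup G} (hS : ∀ x, x ∈ S ↔ ∃ a < n, pt a = x) :
    #S = n := by
  rw [← Finset.card_range n, ← Set.ncard_coe_finset, ← Set.InjOn.ncard_image (f := pt)
    (fun a ha b hb => hp a (by simpa using ha) b (by simpa using hb))]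
  exact congrArg Set.ncard (Set.ext fun x => by simp [hS] : (S : Set G) = _)
theorem ea_nf [Finite G] {t : ℕ → G} {n : ℕ} (h1 : ∀ i < n, t i * t i = 1) (h2 : ∀ i < n, ∀ j < i, t i * t j = t j * t i) {x : G} :
    x ∈ gen t n ↔ ∃ a < 2 ^ n, evA t (bw a n) = x := by
  refine ⟨fun hx => ?_, fun ⟨a, _, e⟩ => e ▸ evA_mem_gen _ (bw_lt a n)⟩
  refine (dec_nf (t := t) (n := n) (fun j hj u hu => ?_) hx).imp fun b hb => ⟨hb.1, hb.2.symm⟩
  have hn : t j ∈ N(gen t j) := cent_le_norm _ (le_cent1_iff.1 (gen_le.2 fun i hi => mem_cent1.2 (h2 j hj i hi).symm))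
  rcases step2_mem hn (h1 j hj ▸ one_mem _) (gen_succ' t j ▸ hu) with e | e
  · exact ⟨0, by decide, by simpa using e⟩
  · exact ⟨1, by decide, by simpa [mul_assoc] using conj_mem_of_norm' hn e⟩
/-- the elements centralizing `q` modulo `U` -/
def cmS (U : Subgroup G) (q : G) : Subgroup G where
  carrier := {y | y ∈ N(U) ∧ y * q * y⁻¹ * q⁻¹ ∈ U}
  one_mem' := ⟨one_mem _, by simp⟩
  mul_mem' {a b} ha hb := ⟨mul_mem ha.1 hb.1, by
    simpa [mul_assoc] using mul_mem (conj_mem_of_norm ha.1 hb.2) ha.2⟩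
  inv_mem' {a} ha := ⟨inv_mem ha.1, by simpa [mul_assoc] using conj_mem_of_norm' ha.1 (inv_mem ha.2)⟩
theorem cmS_symm {U : Subgroup G} {x y : G} (h : x ∈ cmS U y) (hy : y ∈ N(U)) : y ∈ cmS U x :=
  ⟨hy, by simpa [mul_assoc] using inv_mem h.2⟩

noncomputable def UU (g cq : ℕ → G) : Subgroup G := gen (wds (hl g cq) VW) 3
noncomputable def K2 (κ : ℕ → G) : Subgroup G := gen (wds κ TX) 9
noncomputable def LL (Q : Subgroup G) (g cq : ℕ → G) : Subgroup G := Q ⊓ C(UU g cq) ⊔ gen (wds (hl g cq) LY) 4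

namespace S6
variable [Finite G] {z p q : G} {Q N Q' : Subgroup G} {π μ : G → GPm} {g cq κ : ℕ → G} {e : ℕ}
  {φ : Perm (Fin 5) →* G} (h : S6 z p Q N π g cq Q' q μ κ e φ)
include h
local notation "τ" => wds κ TV 3
local notation "s" => wds (hl g cq) SI
local notation "y" => wds (hl g cq) LY
local notation "U" => UU g cq
local notation "L" => LL Q g cq
theorem mem_U {x : G} : x ∈ U ↔ ∃ a < 8, vc g cq a = x := by
  have k : ∀ a < 8, evA (wds (hl g cq) VW) (bw a 3) = vc g cq a := fun a ha => by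
    rw [vc, vw, H0.PM.evA_flat, (by decide +kernel : ∀ a < 8, bw a 11 = bw a 3) a ha]
  rw [UU, ea_nf (n := 3) (fun i hi => h.vb (i := i) (by omega) ▸ h.vv _) fun i hi j hj =>
    h.Vcomm (mem_gen _ (hi.trans (by decide))) (mem_gen _ (hj.trans (hi.trans (by decide))))]
  exact ⟨fun ⟨a, ha, e⟩ => ⟨a, ha, k a ha ▸ e⟩, fun ⟨a, ha, e⟩ => ⟨a, ha, (k a ha).symm ▸ e⟩⟩
theorem vU {a : ℕ} (ha : a < 8) : vc g cq a ∈ U := h.mem_U.2 ⟨a, ha, rfl⟩
theorem qU {a : ℕ} (ha : a < 8) : cq (vq a) ∈ U := h.vq' (ha.trans (by decide)) ▸ h.vU ha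
theorem zU : z ∈ U := h.v1 ▸ h.vU (by decide)
theorem cU : #U = 8 := card_pts' (fun a ha b hb => h.vinj a (by omega) b (by omega)) fun _ => h.mem_U
theorem UV : U ≤ VV g cq := fun x hx => by obtain ⟨a, -, rfl⟩ := h.mem_U.1 hx; exact h.vmem a
theorem UQ : U ≤ Q := fun x hx => by obtain ⟨a, ha, rfl⟩ := h.mem_U.1 hx; exact (h.vQ (by omega)).2 (by omega)
theorem UC : U ≤ C(U) := fun _ hx => mem_cent.2 fun _ hy => h.Vcomm (h.UV hy) (h.UV hx)
theorem v4 : vc g cq 4 = cq 2049 := by rw [h.vq' (by decide), show vq 4 = 2049 by decide +kernel]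
theorem CU : C(U) = C[z] ⊓ C[cq 1] ⊓ C[cq 2049] := by
  rw [← h.v1, ← h.v2, ← h.v4]
  refine le_antisymm (le_inf (le_inf (cent_le_cent1 (h.vU (by decide))) (cent_le_cent1 (h.vU (by decide))))
    (cent_le_cent1 (h.vU (by decide)))) (cents_symm (gen_le.2 fun i hi => ?_))
  rw [← h.vb (hi.trans (by decide)), ← le_cent1_iff]
  interval_cases i
  exacts [inf_le_left.trans inf_le_left, inf_le_left.trans inf_le_right, inf_le_right]
theorem CH : C(U) ≤ C[z] := cent_le_cent1 h.zU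
theorem wCU {W : List ℕ} (hW : ∀ k ∈ W, k < 8205) (h1 : apW PD W 1 = 1) (h2 : apW PD W 2049 = 2049) :
    evA (hl g cq) W ∈ C(U) := h.CU ▸ ⟨⟨h.evH W, (h.fix1 hW (by decide)).2 h1⟩, (h.fix1 hW (by decide)).2 h2⟩
theorem ICU : φ.range ≤ C(U) := h.I_le fun i hi => h.wCU (nth_lt SI_ok.1 i) (cox_ok.1 i hi).2.1 (cox_ok.1 i hi).2.2.1
theorem kNU {W : List ℕ} (hW : ∀ k ∈ W, k < 11) (e : ∀ a < 8, apW PX W a < 8) : evA κ W ∈ N(U) :=
  mem_norm_of_cj_le fun x hx => by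
    obtain ⟨x, hx', rfl⟩ := mem_cj'.1 hx
    obtain ⟨a, ha, rfl⟩ := h.mem_U.1 hx'
    exact (h.kact h.kp hW (a := a) (by omega)).2 ▸ h.vU (e a ha)
theorem K2N : K2 κ ≤ N(U) := gen_le.2 fun k hk => h.kNU (nth_lt TX_ok.1 k) (TX_ok.2 k hk).2.2.1
theorem tauU : τ ∈ N(U) := h.kNU (nth_lt TU_ok.1 3) fun a ha => (tau_ok.2.2.1 a ha).1
theorem rho0 : ∃ ρ : N(U) →* SL3, ρ.ker = C(U).subgroupOf _ ∧ ∀ A, ∃ b : N(U), b.1 ∈ K2 κ ∧ ρ b = A := by
  obtain ⟨c1, c2⟩ := cd3_ok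
  obtain ⟨ρ, h1, h2⟩ := exists_rho (W := U) (o := fun v => vc g cq (cd3 v)) (fun u v e => (c1 u v).2.1
    (h.vinj _ ((c1 u u).2.2.trans (by decide)) _ ((c1 v v).2.2.trans (by decide)) e)) (fun u v => by
      rw [(c1 u v).1, h.vx]) fun x => h.mem_U.trans ⟨fun ⟨a, ha, e⟩ => let ⟨v, e'⟩ := c2 a ha; ⟨v, by rw [e', e]⟩,
        fun ⟨v, e⟩ => ⟨_, (c1 v v).2.2, e⟩⟩
  refine ⟨ρ, h1, h2 _ fun i j ij => ?_⟩
  have := mem_gen (wds κ TX) (show 3 * i.val + j.val < 9 by omega)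
  exact ⟨_, ⟨this, h.K2N this⟩, fun v => by
    rw [TX_tr i j ij]; exact (h.kact h.kp (nth_lt TX_ok.1 _) ((c1 v v).2.2.trans (by decide))).2⟩
theorem K2s {n : G} (hn : n ∈ N(U)) : ∃ b ∈ K2 κ, b⁻¹ * n ∈ C(U) := by
  obtain ⟨ρ, h1, h2⟩ := h.rho0
  obtain ⟨b, hb, e⟩ := h2 (ρ ⟨n, hn⟩)
  exact ⟨b, hb, h1.le (show b⁻¹ * ⟨n, hn⟩ ∈ ρ.ker by rw [MonoidHom.mem_ker, map_mul, map_inv, e, inv_mul_cancel])⟩
theorem rho {B : Subgroup G} (hB : B ≤ N(U)) (hs : ∀ n ∈ N(U), ∃ b ∈ B, b⁻¹ * n ∈ C(U)) :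
    (∃ f : B →* SL3, Function.Surjective f ∧ f.ker = C(U).subgroupOf B) ∧ #(C(U) ⊓ B : Subgroup G) * 168 = #B := by
  obtain ⟨ρ, h1, h2⟩ := h.rho0
  have k1 : Function.Surjective (ρ.comp (inclusion hB)) := fun A => by
    obtain ⟨n, -, rfl⟩ := h2 A
    obtain ⟨b, hb, e⟩ := hs n n.2
    exact ⟨⟨b, hb⟩, by
      have := h1.ge (show (inclusion hB ⟨b, hb⟩)⁻¹ * n ∈ C(U).subgroupOf _ from e)
      rwa [MonoidHom.mem_ker, map_mul, map_inv, inv_mul_eq_one] at this⟩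
  have k2 : (ρ.comp (inclusion hB)).ker = C(U).subgroupOf B := by rw [← MonoidHom.comap_ker, h1]; rfl
  refine ⟨⟨_, k1, k2⟩, ?_⟩
  rw [← card_inf_mul_relIndex C(U) B, relIndex, ← k2, index_ker, MonoidHom.range_eq_top.2 k1, card_top, card_SL3]
theorem cK2 : #(K2 κ) ≤ 168 := by
  have hK : K2 κ ≤ gen κ 11 := gen_le.2 fun k _ => evA_mem_gen _ (nth_lt TX_ok.1 k)
  have hM : gen κ 11 ≤ N(VV g cq) := gen_le.2 h.kp.kN
  rw [Nat.card_congr (h.iso_mimg (hK.trans hM) (le_bot_iff.1 fun x hx => by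
    obtain ⟨W, hW, rfl⟩ := exists_word (hK hx.1)
    exact h.kp.gr.eq hW (V := []) (by simp) ((h.kev h.kp hW).2.symm.trans (h.muV hx.2)))).some.toEquiv,
    ← (ckc_eq md24).2, ← card_map_of_injective (subtype_injective _), map_gen]
  refine card_le fun x hx => ?_
  obtain ⟨x, hx', h1, rfl⟩ := h.mem_mimg.1 hx
  rw [show (fun k => (gen m0 11).subtype (wds (sub m0 11) ckce_W k)) = wds m0 ckce_W from
    funext fun k => sub_wds m0 ckce_lt k]
  refine cent_m0 nx_lt ckce_lt (ckc_eq md24).1 (h.mmem _ h1) fun i hi => ?_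
  obtain ⟨a, b⟩ := h.kev h.kp (nth_lt nx_lt i)
  have : x ∈ C[wds κ nx_W i] := (gen_le.2 fun k hk => mem_cent1_symm.1 (h.kcomm ((TX_ok.2 k hk).1 i hi))) hx'
  rw [wds, ← b, ← h.mmul _ h1 _ a, ← h.mmul _ a _ h1]; exact congrArg μ (mem_cent1.1 this)
theorem isoK2 : Nonempty (K2 κ ≃* SL3) := by
  obtain ⟨⟨f, h1, -⟩, -⟩ := h.rho h.K2N fun _ => h.K2s
  exact ⟨MulEquiv.ofBijective f ((Nat.bijective_iff_surjective_and_card f).2 ⟨h1, le_antisymm (card_SL3 ▸ h.cK2)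
    (Nat.card_le_card_of_surjective f h1)⟩)⟩

theorem qfix {a c : ℕ} (ha : a < 8192) (hc : c < 8192) : cq a ∈ C[cq c] ↔ PD (13 + a) c = c := by
  simpa [evA_cons, evA_nil, hl_hi, apW_cons] using h.fix1 (W := [13 + a]) (by simp; omega) hc
theorem mem_QU {a : ℕ} (ha : a < 8192) : cq a ∈ Q ⊓ C(U) ↔ inQU a = 0 := by
  rw [h.CU, mem_inf, mem_inf, mem_inf, h.qfix ha (by decide), h.qfix ha (by decide), inQU]
  simp [h.qc.mem a, h.QH (h.qc.mem a)]
theorem cQU : #(Q ⊓ C(U) : Subgroup G) = 2048 := (h.card_codes inf_le_left fun _ => h.mem_QU).trans QU_c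
theorem nQU : C(U) ≤ N(Q ⊓ C(U)) := norms_inf (h.CH.trans h.le.norm) le_normalizer
theorem yCU : gen y 4 ≤ C(U) := gen_le.2 fun k hk => h.wCU (nth_lt LY_ok.1 k) (LY_ok.2 k hk).1 (LY_ok.2 k hk).2.1
theorem LCU : L ≤ C(U) := sup_le inf_le_right h.yCU
theorem UL : U ≤ L := (le_inf h.UQ h.UC).trans le_sup_left
theorem yrel {k : ℕ} (hk : k < 4) : y k * y k = 1 ∧ ∀ j < 4, y k * y j = y j * y k :=
  ⟨by simpa [H0.PM.evA_flat, evA_cons, evA_nil] using h.eq0 (LY_ok.2 k hk).2.2.1, fun j hj => by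
    simpa [H0.PM.evA_flat, evA_cons, evA_nil] using h.eq0 ((LY_ok.2 k hk).2.2.2 j hj)⟩
theorem mem_Y {x : G} : x ∈ gen y 4 ↔ ∃ b < 16, evA (hl g cq) (lw b) = x := by
  simp only [H0.PM.evA_flat]
  exact ea_nf (fun i hi => (h.yrel hi).1) fun i hi j hj => (h.yrel hi).2 j (hj.trans hi)
theorem sqY {x : G} (hx : x ∈ gen y 4) : x * x = 1 := by
  obtain ⟨b, -, rfl⟩ := h.mem_Y.1 hx
  have := ev_xor (fun i hi => (h.yrel hi).1) (fun i hi j hj => (h.yrel hi).2 j (hj.trans hi)) b b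
  rw [Nat.xor_self] at this
  rw [H0.PM.evA_flat, ← this]; rfl
theorem Yinj {b c : ℕ} (hb : b < 16) (hc : c < 16) (e : π (evA (hl g cq) (lw b)) = π (evA (hl g cq) (lw c))) : b = c := by
  rw [h.pi_hl (pflat_lt LY_ok.1 _), h.pi_hl (pflat_lt LY_ok.1 _)] at e
  refine LZ_ok.2.1 b hb c hc fun i hi => ?_
  have hi := ltAll_zero (show ltAll 24 A0.B = 0 by decide +kernel) i hi
  obtain ⟨l1, e1⟩ := actA.apW (kp_lt (lw b)) hi
  obtain ⟨l2, e2⟩ := actA.apW (kp_lt (lw c)) hi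
  exact H15.pt_inj l1 l2 (by rw [← e1, e, e2])
theorem cL : #L = 2 ^ 15 := by
  refine (card_sup_of_disjoint (h.yCU.trans h.nQU) (le_bot_iff.1 fun x hx => ?_)).trans (by
    rw [h.cQU, card_pts' (fun a ha b hb e => h.Yinj ha hb (congrArg π e)) fun _ => h.mem_Y]; rfl)
  obtain ⟨b, hb, rfl⟩ := h.mem_Y.1 hx.2
  obtain rfl := h.Yinj hb (c := 0) (by decide) ((h.piQ hx.1.1).trans h.one.symm)
  exact one_mem _
theorem pgL : PG 2 L := PiN.of_card_pow (by norm_num) h.cL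
theorem memL {d : ℕ} (hd : d < 8192) (e : inQU d = 0) (b : ℕ) : cq d * evA (hl g cq) (lw b) ∈ L :=
  mul_mem (mem_sup_left ((h.mem_QU hd).2 e)) (mem_sup_right (by rw [H0.PM.evA_flat]; exact evA_mem_gen _ (bw_lt b 4)))
theorem cmY {x : G} (hx : x ∈ Q ⊓ C(U)) : gen y 4 ≤ cmS U x := gen_le.2 fun k hk => by
  refine ⟨cent_le_norm _ (h.yCU (mem_gen _ hk)), ?_⟩
  obtain ⟨a, ha, rfl⟩ := h.qc.surj x hx.1
  obtain ⟨l, e⟩ := h.cjW (nth_lt LY_ok.1 k) ha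
  obtain ⟨d, hd, e1, e2⟩ := h.div_code l ha
  have := LY_cm a ha ((h.mem_QU ha).1 hx) k hk
  rw [h.fQ_eq (by omega) ha, (by decide : ∀ k < 4, nth [] QW (3 + k) = nth [] LY k) k hk, ← e2] at this
  obtain ⟨u, hu, e3⟩ := (by decide +kernel : ∀ c ∈ [0, 1, 2048, 2049], ∃ u < 8, vq u % 4096 = c) _ this
  rw [wds, e, e1]
  exact h.mem_mod h.zU (vq_ok u (by omega)).1 hd e3 (h.qU hu)
theorem sqL {x : G} (hx : x ∈ L) : x * x ∈ U := by
  obtain ⟨a, ha, b, hb, rfl⟩ := (mem_sup_of_norm (h.yCU.trans h.nQU)).1 hx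
  rw [show a * b * (a * b) = a * (b * a * b⁻¹ * a⁻¹) * a⁻¹ * (a * a) * (b * b) by group, h.sqY hb, mul_one]
  exact mul_mem (conj_mem_of_norm (cent_le_norm _ ha.2) (h.cmY ha hb).2) (by
    rcases h.es.sq a ha.1 with e | e <;> rw [e]; exacts [one_mem _, h.zU])
theorem cmL {a b : G} (ha : a ∈ L) (hb : b ∈ L) : ⁅a, b⁆ ∈ U := by
  have := mul_mem (mul_mem (h.sqL ha) (h.sqL (mul_mem (inv_mem ha) hb))) (h.sqL (inv_mem hb))
  simpa [commutatorElement_def, mul_assoc] using this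
theorem IL : φ.range ≤ N(L) := h.I_le fun i hi => mem_norm_of_cj_le (by
  rw [LL, cj_sup, cj_of_mem_norm (h.nQU (h.ICU (h.sI hi)))]
  refine sup_le le_sup_left (cj_le_iff.2 (gen_le.2 fun k hk => mem_cj_inv.2 ?_))
  obtain ⟨c1, c2, c3⟩ := NT_ok i hi k hk _ List.mem_cons_self
  exact ((h.ev_cj (nth_lt SI_ok.1 i) _).symm.trans (h.eqw' c1 c3)) ▸ h.memL c1 c2 _)
theorem I_triv {B : Subgroup G} (hB : PG 2 B) (hn : φ.range ≤ N(B)) : B ⊓ φ.range = ⊥ := by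
  have : (B.comap φ).Normal := ⟨fun a ha b => by
    rw [mem_comap, map_mul, map_mul, map_inv]; exact conj_mem_of_norm (hn ⟨b, rfl⟩) ha⟩
  have k : B.comap φ = ⊥ := s5_norm fun e => by
    obtain ⟨k, e1⟩ := hB.exists_card
    have := orderOf_dvd_card' (mem_comap.1 e)
    rw [orderOf_injective φ h.finj, e1, orderOf_eq_prime (p := 3) (by decide) (by decide)] at this
    exact absurd (Nat.prime_three.dvd_of_dvd_pow this) (by decide)
  refine le_bot_iff.1 ?_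
  rintro _ ⟨h1, σ, rfl⟩
  rw [k.le h1, map_one]; exact one_mem _
theorem CU_eq : L ⊔ φ.range = C(U) := by
  refine eq_of_le_of_card_ge (sup_le h.LCU h.ICU) ?_
  have c := cl_card (C[z] ⊓ C[cq 1]) (cq 2049)
  have : 4 ≤ (cl (C[z] ⊓ C[cq 1]) (cq 2049)).ncard := by
    refine le_of_eq_of_le ?_ (Set.ncard_le_ncard (?_ : vc g cq '' ({4, 5, 6, 7} : Finset ℕ) ⊆ _))
    · rw [Set.InjOn.ncard_image fun a ha b hb => h.vinj a (by simp at ha; omega) b (by simp at hb; omega),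
        Set.ncard_coe_finset]; rfl
    rintro _ ⟨a, ha, rfl⟩
    obtain ⟨W, -, c0, c1, c2, c3⟩ := (by decide +kernel : ∀ a ∈ ({4, 5, 6, 7} : Finset ℕ), ∃ W ∈ [[], nth [] TX 2,
      nth [] TX 5, nth [] TX 2 ++ nth [] TX 5], ltAll 11 W = 0 ∧ apW PX W 1 = 1 ∧ apW PX W 2 = 2 ∧ apW PX W 4 = a) a ha
    exact ⟨_, ⟨h.v1 ▸ h.kfix (ltAll_zero c0) (by decide) c1, h.v2 ▸ h.kfix (ltAll_zero c0) (by decide) c2⟩, by
      rw [← h.v4, (h.kact h.kp (ltAll_zero c0) (by decide)).2, c3]⟩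
  rw [← h.CU, h.card_cs] at c
  rw [card_sup_of_disjoint h.IL (h.I_triv h.pgL h.IL), h.cL, h.cI]
  nlinarith
theorem cCU : #C(U) = 2 ^ 15 * 120 := by
  rw [← h.CU_eq, card_sup_of_disjoint h.IL (h.I_triv h.pgL h.IL), h.cL, h.cI]
theorem ZL : L ⊓ C(L) = U := by
  refine le_antisymm (fun x hx => ?_) (le_inf h.UL (cents_symm h.LCU))
  obtain ⟨a, ha, b, hb', rfl⟩ := (mem_sup_of_norm (h.yCU.trans h.nQU)).1 hx.1
  obtain ⟨b, hb, rfl⟩ := h.mem_Y.1 hb'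
  have k : ∀ c ∈ QUb, a * evA (hl g cq) (lw b) ∈ C[cq c] := fun c hc =>
    cent_le_cent1 (mem_sup_left ((h.mem_QU (LZ_ok.1 c hc).1).2 (LZ_ok.1 c hc).2)) hx.2
  obtain rfl : b = 0 := by_contra fun hn => by
    obtain ⟨c, hc, e⟩ := LZ_ok.2.2 b hb hn
    obtain ⟨l, e1⟩ := h.cjW (pflat_lt LY_ok.1 (bw b 4)) (LZ_ok.1 c hc).1
    refine e ((h.div_zp l (LZ_ok.1 c hc).1).1 ?_)
    rw [← e1, show evA (hl g cq) (lw b) * cq c = a⁻¹ * cq c * a * evA (hl g cq) (lw b) by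
      rw [mul_assoc, mul_assoc, ← mem_cent1.1 (k c hc)]; group]
    rcases h.es.comm _ (inv_mem ha.1) _ (h.qc.mem c) with e | e <;> rw [commutatorElement_def, inv_inv] at e <;>
      simp [e]
  obtain ⟨a, l, rfl⟩ := h.qc.surj a ha.1
  rw [show evA (hl g cq) (lw 0) = 1 from rfl, mul_one] at k ⊢
  obtain ⟨u, hu, rfl⟩ := LZ_Q a l fun c hc => (h.qfix l (LZ_ok.1 c hc).1).1 (k c hc)
  exact h.qU hu
theorem NL : N(L) = N(U) := by
  have hC : C(U) ≤ N(L) := h.CU_eq ▸ sup_le le_normalizer h.IL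
  refine le_antisymm (h.ZL ▸ norms_inf le_rfl (norm_le_norm_cent _)) fun n hn => mem_norm_of_cj_le ?_
  have e := cj_of_mem_norm (norm_le_norm_cent _ hn)
  have h1 : C(U) ≤ N(cj n L) := by rw [← cj_norm, ← e]; exact cj_mono n hC
  have h2 : cj n L ≤ C(U) := e ▸ cj_mono n h.LCU
  have := sup_inf_modl (H := L ⊔ cj n L) h.IL le_sup_left
  rw [h.CU_eq, inf_comm φ.range, h.I_triv (h.pgL.sup (h.pgL.J n) (h2.trans hC)) (h.ICU.trans (norms_sup hC h1)),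
    sup_bot_eq] at this
  exact (le_inf h2 le_sup_right).trans this.le
theorem special : Cfsg.IsSpecial 2 L := by
  have hi := map_injective (G := L) (L).subtype_injective
  obtain ⟨c1, c2, c3, c4, c5, c6, c7, -⟩ := LC_ok
  have m : ∀ {a}, a < 8192 → inQU a = 0 → cq a ∈ L := fun ha e => mem_sup_left ((h.mem_QU ha).2 e)
  have k : ∀ {x a u}, x ∈ L → a < 8192 → inQU a = 0 → u < 8192 → x * cq a * x⁻¹ = cq (qf u a) → cq u ∈ ⁅L, L⁆ :=
    fun hx ha e hu e1 => by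
      have := commutator_mem_commutator hx (m ha e)
      rwa [commutatorElement_def, e1, ← h.qmul hu ha, mul_inv_cancel_right] at this
  have d : ⁅L, L⁆ = U := le_antisymm (commutator_le.2 fun _ ha _ hb => h.cmL ha hb) (gen_le.2 fun i hi => by
    rw [← h.vb (hi.trans (by decide)), h.vq' (by interval_cases i <;> decide)]
    have y0 : y 0 ∈ L := mem_sup_right (mem_gen _ (by decide))
    interval_cases i
    · exact k (m (by decide) c4) (by decide) c3 (by decide +kernel) (by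
        rw [show vq (2 ^ 0) = 4096 by decide +kernel, ← c7, ← hl_hi (g := g) (cq := cq) 18]
        exact (h.cjD (by decide) (by decide)).2)
    · exact k y0 (by decide) c1 (by decide +kernel) (c5 ▸ (h.cjW (nth_lt LY_ok.1 0) (by decide)).2)
    · exact k y0 (by decide) c2 (by decide +kernel) (c6 ▸ (h.cjW (nth_lt LY_ok.1 0) (by decide)).2))
  refine ⟨h.pgL.isPGroup, hi ?_, hi ?_⟩
  · rw [center_map_eq, h.ZL]
    refine le_antisymm (H4.map_frattini_le (p := 2) (fun _ hx _ hy => h.cmL hx hy)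
      fun x hx => by rw [pow_two]; exact h.sqL hx) ?_
    rw [← d]
    exact commutator_le.2 fun _ hx _ hy => H4.commutator_mem_map_frattini h.pgL.isPGroup hx hy
  · rw [center_map_eq, h.ZL, _root_.commutator_def, map_commutator, ← MonoidHom.range_eq_map, range_subtype, d]
theorem KI {k : G} (hk : k ∈ K2 κ) : φ.range ≤ cmS L k := by
  have n : K2 κ ≤ N(L) := h.NL ▸ h.K2N
  refine h.I_le fun i hi => cmS_symm ((gen_le.2 fun k hk => ?_ : K2 κ ≤ cmS L (s i)) hk) (h.IL (h.sI hi))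
  obtain ⟨c1, c2, -, c3⟩ := TX_ok.2 k hk
  obtain ⟨c3, c4, c5⟩ := c3 _ List.mem_cons_self
  have k0 : ∀ {x}, x ∈ C[wds κ TX k] → wds κ TX k * x * (wds κ TX k)⁻¹ * x⁻¹ ∈ L := fun hx => by
    rw [← mem_cent1.1 hx]; simp
  have k1 : ∀ i < 2, s i ∈ C[wds κ TX k] := fun i hi => h.s01 hi ▸ h.kcomm (c1 i hi)
  refine ⟨n (mem_gen _ hk), ?_⟩
  interval_cases i
  · exact k0 (k1 0 (by decide))
  · exact k0 (k1 1 (by decide))
  · rw [h.s_2, ← conj_mul, ← mem_cent1.1 (k1 0 (by decide)), mul_inv_cancel_right, _root_.mul_inv_rev, mul_assoc,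
      mul_inv_cancel_left, inv_eq_of_mul_eq_one_right (h.vv _), wds, (h.kact h.kp (nth_lt TX_ok.1 k) (by decide)).2, ← h.vx,
      vc, h.eqw' c3 c5]
    exact h.memL c3 c4 _
  · exact k0 (mem_cent1_symm.1 (h.Nr (cent1_le_norm_zpowers _ (mem_cent1_symm.1 (h.kcomm c2)))))
theorem quot : Nonempty (N(L) ⧸ (L).subgroupOf N(L) ≃* Perm (Fin 5) × SL3) := by
  obtain ⟨ε⟩ := h.isoK2
  have n : K2 κ ≤ N(L) := h.NL ▸ h.K2N
  let m := QuotientGroup.mk' ((L).subgroupOf N(L))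
  let f1 := m.comp (φ.codRestrict _ fun σ => h.IL ⟨σ, rfl⟩)
  let f2 := m.comp ((inclusion n).comp ε.symm.toMonoidHom)
  have c : ∀ a b, Commute (f1 a) (f2 b) := fun a b => commutatorElement_eq_one_iff_commute.1 (by
    simp only [f1, f2, MonoidHom.comp_apply]
    rw [← map_commutatorElement]
    exact (QuotientGroup.eq_one_iff _).2 (h.KI (ε.symm b).2 ⟨a, rfl⟩).2)
  refine ⟨(MulEquiv.ofBijective (f1.noncommCoprod f2 c) ((Nat.bijective_iff_surjective_and_card _).2 ⟨fun x => ?_, ?_⟩)).symm⟩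
  · obtain ⟨x, rfl⟩ := QuotientGroup.mk'_surjective _ x
    obtain ⟨b, hb, e⟩ := h.K2s (h.NL.le x.2)
    obtain ⟨_, ⟨σ, rfl⟩, l, hl, e1⟩ := (mem_sup_of_norm' h.IL).1 (by rwa [← h.CU_eq, sup_comm] at e)
    refine ⟨(σ, ε ⟨b, hb⟩), ?_⟩
    rw [MonoidHom.noncommCoprod_apply, (c _ _).eq]
    simp only [f1, f2, MonoidHom.comp_apply]
    rw [← map_mul]
    refine QuotientGroup.eq.2 (mem_subgroupOf.2 ?_)
    simpa [mul_assoc, show x.1 = b * (φ σ * l) by rw [← e1]; group] using hl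
  · have c1 := (h.rho le_rfl fun n hn => ⟨n, hn, by simp⟩).2
    have c2 := card_mul_relIndex (le_normalizer (H := L))
    rw [inf_of_le_left (cent_le_norm _), h.cCU, ← h.NL, ← c2, h.cL] at c1
    rw [Nat.card_prod, card_SL3, Nat.card_perm, Nat.card_fin, ← index_eq_card, ← relIndex]
    change 120 * 168 = _
    omega
end S6
end H20.J4
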