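import Cfsg.Agent.H20.J4.LD

/-! The centralizer of an element of order `5`. -/

set_option autoImplicit false
set_option linter.unusedSectionVars false
set_option maxRecDepth 100000
open Subgroup H16 H19 H0 H0.TR Equiv
open scoped commutatorElement
namespace H20.J4
variable {G : Type*} [Group G]

def c5' : Perm (Fin 5) := swap 0 1 * swap 1 2 * swap 2 3 * swap 3 4
def w4 : Perm (Fin 5) := swap 1 2 * swap 2 4 * swap 4 3
theorem fin_J [Finite G] (f : G →* SL3) (hf : Function.Surjective f) (c : Nat.card G = 1344) (h1 : ∀ u ∈ f.ker, u * u = 1)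
    {x : G} (h2 : ∀ u ∈ f.ker, (u * x) ^ 4 ∈ f.ker ∧ (u * x) ^ 4 ≠ 1) : ∃ (E : Subgroup G) (_ : E.Normal),
      Cfsg.IsElementaryAbelian 2 E ∧ Nat.card E = 8 ∧ Nonempty (G ⧸ E ≃* SL3) ∧ ∀ K : Subgroup G, ¬ E.IsComplement' K := by
  refine ⟨f.ker, inferInstance, ea_iff.2 h1, ?_, ⟨QuotientGroup.quotientKerEquivOfSurjective f hf⟩, fun K hK => ?_⟩
  · have := f.ker.card_mul_index
    rw [index_ker, MonoidHom.range_eq_top.2 hf, card_top, card_SL3, c] at this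
    omega
  obtain ⟨⟨u, k⟩, e⟩ := (hK.existsUnique x).exists
  obtain ⟨h3, h4⟩ := h2 _ (inv_mem u.2)
  rw [← e, inv_mul_cancel_left] at h3 h4
  exact h4 (hK.disjoint.le_bot ⟨h3, pow_mem k.2 4⟩)

namespace S6
variable [Finite G] {z p q : G} {Q N Q' : Subgroup G} {π μ : G → GPm} {g cq κ : ℕ → G} {e : ℕ}
  {φ : Perm (Fin 5) →* G} (h : S6 z p Q N π g cq Q' q μ κ e φ)
include h
local notation "τ" => wds κ TV 3
local notation "U" => UU g cq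
local notation "L" => LL Q g cq
local notation "f" => φ c5'
theorem f_eq : evA (hl g cq) F5 = f := by
  rw [h.eq0 cox_ok.2.2, H0.PM.evA_flat, c5', map_mul, map_mul, map_mul, show φ (swap 0 1) = _ from h.sw 0,
    show φ (swap 1 2) = _ from h.sw 1, show φ (swap 2 3) = _ from h.sw 2, show φ (swap 3 4) = _ from h.sw 3]
  simp [evA_cons, evA_nil]
theorem o_f : orderOf (f) = 5 := h.f_eq ▸ h.ordQ (k := 0) (c := 32) (by simp)
theorem c_f : #(zpowers (f)) = 5 := by rw [Nat.card_zpowers, h.o_f]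
theorem fCU : f ∈ C(U) := h.ICU ⟨_, rfl⟩
theorem card_f {A : Subgroup G} (hA : A ≤ C[f]) (h2 : PG 2 A) : #(zpowers (f) ⊔ A : Subgroup G) = 5 * #A := by
  rw [card_sup_of_disjoint (hA.trans (cent1_le_norm_zpowers _)) (by
    rw [inf_comm]; exact h2.inf_eq_bot (PiN.of_card_prime (by norm_num) h.c_f (by simp))), h.c_f]
theorem nf5 {m : G} (hm : m ∈ N(zpowers (f))) : ∃ k, (φ w4 ^ k)⁻¹ * m ∈ C[f] := by
  obtain ⟨j, hj, e⟩ := mem_zp_lt (n := 5) (by decide) (orderOf_dvd_iff_pow_eq_one.1 h.o_f.dvd)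
    (conj_mem_of_norm hm (mem_zpowers _))
  obtain ⟨k, -, e1⟩ := (by decide : ∀ j < 5, j ≠ 0 → ∃ k < 4, w4 ^ k * c5' * (w4 ^ k)⁻¹ = c5' ^ j) j hj (by
    rintro rfl
    have := h.o_f
    rw [show f = 1 by simpa using e, orderOf_one] at this
    exact absurd this (by decide))
  refine ⟨k, mem_cent1.2 ?_⟩
  rw [← map_pow, ← e1, map_mul, map_mul, map_inv, mul_inv_eq_iff_eq_mul] at e
  rw [mul_assoc, e, ← map_pow]; group
theorem Ys {n : G} (hn : n ∈ N(U)) : ∃ b ∈ C[f] ⊓ N(U), b⁻¹ * n ∈ C(U) := by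
  obtain ⟨a, ha, e⟩ := zp_conj (l := 5) (by norm_num) (by rw [h.cCU]; decide)
    (conj_mem_of_norm (norm_le_norm_cent _ hn) h.fCU) h.fCU (((MulAut.conj n).orderOf_eq _).trans h.o_f) h.o_f
  rw [← cj_zpowers, cj_cj] at e
  obtain ⟨k, e1⟩ := h.nf5 (mem_norm_iff_cj.2 e)
  have c := mul_mem (inv_mem (pow_mem (h.ICU ⟨w4, rfl⟩) k)) ha
  exact ⟨_, ⟨e1, mul_assoc _ a n ▸ mul_mem (cent_le_norm _ c) hn⟩, by
    simpa [mul_assoc] using conj_mem_of_norm' (norm_le_norm_cent _ hn) (inv_mem c)⟩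
theorem ffix {a : ℕ} (ha : a < 8192) : cq a ∈ C[f] ↔ fQ 0 a = 0 := by
  rw [mem_cent1_symm, ← h.f_eq, h.fix1 (W := F5) (nth_lt QW_ok.1 0) ha]
  exact ⟨fun e => by rw [h.fQ_eq (by decide) ha, show nth [] QW 0 = F5 from rfl, e, Nat.xor_self], fun e => (F5_ok a ha e).1⟩
theorem Uf : U ≤ C[f] := le_cent1_iff.2 h.fCU
theorem pgU : PG 2 U := h.pgL.of_le h.UL
theorem Y1_le : C[f] ⊓ C[z] ≤ N(U) := fun x hx => mem_norm_of_cj_le fun u hu => by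
  obtain ⟨u, hu', rfl⟩ := mem_cj'.1 hu
  obtain ⟨a, ha, rfl⟩ := h.mem_U.1 hu'
  obtain rfl | a0 := eq_or_ne a 0
  · simp [h.v0]
  obtain ⟨b, hb, e⟩ := h.qc.surj _ (h.cjQ hx.2 (h.UQ hu'))
  have e1 := h.clq_cj hx.2 (vq_ok a (by omega)).1 hb (h.vq' (a := a) (by omega) ▸ e.symm)
  obtain ⟨u, hu, rfl⟩ | e2 := (F5_ok b hb ((h.ffix hb).1 (e ▸ mul_mem (mul_mem hx.1 (h.Uf hu')) (inv_mem hx.1)))).2
  · exact e ▸ h.qU hu
  · have := (by decide +kernel : ∀ a < 8, a ≠ 0 → clq (vq a) = 1 ∨ clq (vq a) = 4) a ha a0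
    omega
theorem cY1 : #(C[f] ⊓ C[z] : Subgroup G) ≤ 960 :=
  inf_comm C[z] C[f] ▸ h.bz (l := 5) (by simp) (IsConj.refl z) (h.CH h.fCU) h.o_f
theorem card_le7 {X : Subgroup G} (hX : X ≤ C[f]) (k : ∀ j ∈ cl X z, j ∈ U) : #X ≤ 6720 := by
  have : (cl X z).ncard ≤ 7 := (Set.ncard_le_ncard (t := (U : Set G) \ {1}) fun j hj => ⟨k j hj, by
    obtain ⟨a, -, rfl⟩ := hj; simpa using h.z1⟩).trans (by
      rw [Set.ncard_sdiff_singleton_of_mem (one_mem _)]; exact (congrArg (· - 1) h.cU).le)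
  have c := (card_le (inf_le_inf_right C[z] hX)).trans h.cY1
  rw [← cl_card X z]
  nlinarith
theorem fU_le : zpowers (f) ⊔ U ≤ C(U) ⊓ (C[f] ⊓ N(U)) :=
  sup_le (zpowers_le.2 ⟨h.fCU, mem_cent1_self _, cent_le_norm _ h.fCU⟩) (le_inf h.UC (le_inf h.Uf le_normalizer))
theorem cY : zpowers (f) ⊔ U = C(U) ⊓ (C[f] ⊓ N(U)) ∧ #(C[f] ⊓ N(U) : Subgroup G) = 6720 := by
  have c1 := (h.rho inf_le_right fun _ => h.Ys).2
  have c2 := h.card_le7 (X := C[f] ⊓ N(U)) inf_le_left fun j ⟨a, ha, e⟩ => e ▸ conj_mem_of_norm ha.2 h.zU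
  have c3 := card_le h.fU_le
  have c4 := h.card_f h.Uf h.pgU
  rw [h.cU] at c4
  exact ⟨eq_of_le_of_card_ge h.fU_le (by omega), by omega⟩
theorem trU {a : ℕ} (ha : a < 8) (a0 : a ≠ 0) : ∃ b ∈ C[f] ⊓ N(U), b * z * b⁻¹ = vc g cq a := by
  obtain ⟨k, -, e⟩ := (tau_ok.2.2.1 a ha).2.2 a0
  have l : ∀ j ∈ rp k (nth [] TV 3), j < 11 := fun j hj => by
    obtain ⟨W, hW, hj⟩ := List.mem_flatten.1 hj
    exact nth_lt TU_ok.1 3 j (List.eq_of_mem_replicate hW ▸ hj)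
  have := (h.kact h.kp l (a := 1) (by decide)).2
  rw [e, h.v1, evA_flat_rep] at this
  exact ⟨_, pow_mem (mem_inf.2 ⟨mem_cent1_symm.1 (h.I_tau ⟨_, rfl⟩), h.tauU⟩) k, this⟩
theorem cQf : #(Q ⊓ C[f] : Subgroup G) = 32 :=
  (h.card_codes inf_le_left fun a ha => by rw [mem_inf, h.ffix ha, and_iff_right (h.qc.mem a)]).trans
    (std_H (0, 5, 32) (by simp)).2
theorem trQ {c : G} (h1 : c ∈ C[f] ⊓ C[z]) (h2 : c * c = 1) (k : ∀ u ∈ U, c * u * c⁻¹ * u⁻¹ ∈ zpowers z) : c ∈ Q := by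
  let A := C[f] ⊓ C[z] ⊓ cmS (zpowers z) (cq 1) ⊓ cmS (zpowers z) (cq 2049)
  have m : ∀ x ∈ C[f] ⊓ C[z], (∀ u ∈ U, x * u * x⁻¹ * u⁻¹ ∈ zpowers z) → x ∈ A := fun x hx k =>
    ⟨⟨hx, cent1_le_norm_zpowers _ hx.2, k _ (h.v2 ▸ h.vU (by decide))⟩, cent1_le_norm_zpowers _ hx.2,
      k _ (h.v4 ▸ h.vU (by decide))⟩
  have c1 := card_le_two (B := A) (u := cq 1) h.zz (fun x hx => by simpa [mul_assoc] using inv_mem hx.1.2.2)
    fun x hx => hx.1.1.2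
  have c2 := card_le_two (B := A ⊓ C[cq 1]) (u := cq 2049) h.zz (fun x hx => by
    simpa [mul_assoc] using inv_mem hx.1.2.2) fun x hx => hx.1.1.1.2
  have c3 : #(A ⊓ C[cq 1] ⊓ C[cq 2049] : Subgroup G) ≤ 5 * 8 := by
    rw [← h.cU, ← h.card_f h.Uf h.pgU, h.cY.1]
    exact card_le fun x hx => ⟨h.CU ▸ ⟨⟨hx.1.1.1.1.2, hx.1.2⟩, hx.2⟩, hx.1.1.1.1.1, h.Y1_le hx.1.1.1.1⟩
  have pg : PG 2 (Q ⊓ C[f] : Subgroup G) := h.le.es.pg.of_le inf_le_left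
  have : zpowers (f) ⊔ Q ⊓ C[f] = A := eq_of_le_of_card_ge (sup_le (zpowers_le.2 (m _ ⟨mem_cent1_self _, h.CH h.fCU⟩
    fun u hu => by rw [← mem_cent1.1 (h.Uf hu)]; simp)) fun x hx => m _ ⟨hx.2, h.QH hx.1⟩ fun u hu =>
      h.es.mem_zp.2 (h.es.comm _ hx.1 _ (h.UQ hu))) (by rw [h.card_f inf_le_right pg, h.cQf]; omega)
  exact (inv_dp inf_le_right (by rw [h.o_f]; decide) (by
    rw [inf_comm]; exact pg.inf_eq_bot (PiN.of_card_prime (by norm_num) h.c_f (by simp))) (this.ge (m c h1 k)) (n := 1)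
      (by rwa [pow_one, pow_two])).1
set_option synthInstance.maxSize 2000 in
theorem outU {c : G} (h1 : c ∈ C[f] ⊓ N(U)) (h2 : c * c = 1) : ∃ b ∈ C[f] ⊓ N(U), b⁻¹ * c * b ∈ Q := by
  have k : ∀ a < 8, ∃ m < 8, vc g cq m = c * vc g cq a * c⁻¹ := fun a ha => h.mem_U.1 (conj_mem_of_norm h1.2 (h.vU ha))
  obtain ⟨m0, l0, e0⟩ := k 1 (by decide)
  obtain ⟨m1, l1, e1⟩ := k 2 (by decide)
  obtain ⟨m2, l2, e2⟩ := k 4 (by decide)
  have k1 : ∀ a < 8, c * vc g cq a * c⁻¹ = vc g cq (linL [m0, m1, m2] a) := xor_ind (n := 3) (by simp [h.v0, linL_zero])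
    (fun i hi => by interval_cases i <;> simp [linL_cons, linL_nil, e0, e1, e2]) fun a _ b _ h1 h2 => by
      rw [linL_xor, h.vx, h.vx, ← h1, ← h2, conj_mul]
  have lt : ∀ a, linL [m0, m1, m2] a < 8 := linL_lt (n := 3) (by simp [l0, l1, l2])
  obtain ⟨u, hu, u0, e3, e4⟩ := (by decide +kernel : ∀ a < 8, ∀ b < 8, ∀ c < 8, (∀ i < 8, linL [a, b, c]
    (linL [a, b, c] i) = i) → ∃ u < 8, u ≠ 0 ∧ linL [a, b, c] u = u ∧ ∀ i < 8, linL [a, b, c] i = i ∨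
      linL [a, b, c] i = u ^^^ i) m0 l0 m1 l1 m2 l2 fun i hi => h.vinj _ ((lt _).trans (by decide)) _ (by omega) (by
        rw [← k1 _ (lt _), ← k1 _ hi, show ∀ x : G, c * (c * x * c⁻¹) * c⁻¹ = c * c * x * (c * c)⁻¹ from
          fun x => by group, h2]; simp)
  obtain ⟨b, hb, e⟩ := h.trU hu u0
  refine ⟨b, hb, h.trQ ⟨conj_mem_of_norm' (le_normalizer hb.1) h1.1, ?_⟩ (by
    rw [show b⁻¹ * c * b * (b⁻¹ * c * b) = b⁻¹ * (c * c) * b by group, h2]; simp) fun x hx => ?_⟩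
  · have := k1 u hu
    rw [e3, ← e] at this
    exact mem_cent1.2 (by rw [← mul_inv_eq_iff_eq_mul, ← (MulAut.conj b).apply_eq_iff_eq, MulAut.conj_apply,
      MulAut.conj_apply, ← this]; group)
  obtain ⟨a, ha, e5⟩ := h.mem_U.1 (conj_mem_of_norm hb.2 hx)
  rw [← conj_mem_cj (g := b), cj_zpowers, e, show b * (b⁻¹ * c * b * x * (b⁻¹ * c * b)⁻¹ * x⁻¹) * b⁻¹ =
    c * (b * x * b⁻¹) * c⁻¹ * (b * x * b⁻¹)⁻¹ by group, ← e5, k1 a ha]
  rcases e4 a ha with e | e <;> simp [e, h.vx]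
theorem tyY {c : G} (h1 : c ∈ C[f] ⊓ N(U)) (h2 : c * c = 1) (c1 : c ≠ 1) :
    C[f] ⊓ C[c] ≤ C[f] ⊓ N(U) ∧ (IsConj z c → c ∈ U) := by
  have k : ∀ {b d : G}, b ∈ C[f] ⊓ N(U) → C[f] ⊓ C[d] ≤ N(U) → C[f] ⊓ C[b * d * b⁻¹] ≤ C[f] ⊓ N(U) :=
    fun {b d} hb e => by
      rw [← cj_cent1, ← cj_of_mem hb.1, ← cj_inf, cj_of_mem hb.1]; exact cj_le_of_mem hb (le_inf inf_le_left e)
  by_cases hU : c ∈ U
  · obtain ⟨a, ha, rfl⟩ := h.mem_U.1 hU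
    obtain ⟨b, hb, e⟩ := h.trU ha fun e => c1 (by rw [e, h.v0])
    exact ⟨e ▸ k hb h.Y1_le, fun _ => hU⟩
  obtain ⟨b, hb, e⟩ := h.outU h1 h2
  obtain ⟨a, ha, e1⟩ := h.qc.surj _ e
  have h3 : cq a ∈ C[f] := e1 ▸ conj_mem_of_norm' (le_normalizer hb.1) h1.1
  obtain rfl : c = b * cq a * b⁻¹ := by rw [e1]; group
  have h4 : IsConj (vc g cq 12) (cq a) := by
    obtain ⟨u, hu, rfl⟩ | e2 := (F5_ok a ha ((h.ffix ha).1 h3)).2
    · exact absurd (conj_mem_of_norm hb.2 (h.qU hu)) hU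
    refine h.clq2 ha (e2.2.2 (h.qc.inj _ (qf_lt ha ha) _ (by decide) ?_))
    rw [← h.qmul ha ha, h.c0]; simpa [conj_mul] using h2
  refine ⟨k hb ?_, fun e => (h.t_ncj (e.trans (h4.trans (isConj_iff.2 ⟨b, rfl⟩)).symm)).elim⟩
  have c2 := card_le_two (B := Q ⊓ C[f]) (u := cq a) h.zz (fun x hx => h.es.mem_zp.2 (h.es.comm _ (h.qc.mem a) _ hx.1))
    (inf_le_left.trans h.QH)
  have c3 := h.bt (l := 5) (by simp) h4 (mem_cent1_symm.1 h3) h.o_f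
  rw [← eq_of_le_of_card_ge (H := zpowers (f) ⊔ Q ⊓ C[f] ⊓ C[cq a]) (sup_le (zpowers_le.2 (mem_inf.2 ⟨mem_cent1_self _,
    mem_cent1_symm.1 h3⟩)) (inf_le_inf_right _ inf_le_right)) (by
      rw [h.card_f (inf_le_left.trans inf_le_right) (h.le.es.pg.of_le (inf_le_left.trans inf_le_left)), inf_comm]
      rw [h.cQf] at c2
      exact c3.trans (by change 80 ≤ _; omega))]
  exact sup_le (zpowers_le.2 (cent_le_norm _ h.fCU)) fun x hx => h.Y1_le ⟨hx.1.2, h.QH hx.1.1⟩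
theorem c5_le : C[f] ≤ N(U) := by
  obtain ⟨c1, c2, c3, -⟩ := X8_ok
  have t := h.clq2 (by decide) c2
  have h1 : cq 424 ∈ C[f] := mem_cent1_symm.1 (h.f_eq ▸ (h.fix1 (nth_lt QW_ok.1 0) (by decide)).2 c1)
  refine inf_eq_left.1 (eq_of_le_of_card_ge inf_le_left (h.cY.2 ▸ h.card_le7 le_rfl fun j hj => ?_))
  have j2 := cl_sq h.zz hj
  have hz := h.Uf h.zU
  obtain ⟨a, ha, rfl⟩ := hj
  exact (h.tyY (semb2 inf_le_left (fun c hc c2 c1 => (h.tyY hc c2 c1).1) ⟨hz, le_normalizer h.zU⟩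
    ⟨h1, h.Y1_le ⟨h1, h.QH (h.qc.mem _)⟩⟩ h.zz (by rw [h.qmul (by decide) (by decide), c3, h.c0]) h.z1
    (fun e => h.vne (a := 12) (b := 0) (by decide) (by decide) (by decide) (by rw [h.v0]; exact isConj_one_left.1 (e ▸ t)))
    (fun ⟨a, _, e⟩ => h.t_ncj ((isConj_iff.2 ⟨a, e⟩).trans t.symm)) (cl_mem hz ⟨a, ha, rfl⟩) j2) j2
      (by simpa using h.z1)).2 (isConj_iff.2 ⟨a, rfl⟩)
theorem card5 : #C[f] = 6720 := by rw [← h.cY.2, inf_of_le_left h.c5_le]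
theorem x8 : evA (hl g cq) X8 ∈ C[f] ∧ ∀ u ∈ U, (u * evA (hl g cq) X8) ^ 4 = z := by
  refine ⟨h.f_eq ▸ h.comm X8_ok.2.2.2.1, fun u hu => ?_⟩
  obtain ⟨a, ha, rfl⟩ := h.mem_U.1 hu
  simpa [evA_flat_rep, evA_append, evA_nil, h.qc.cz, vc] using h.eqw' (by decide) (X8_ok.2.2.2.2 a ha)
theorem exists_J : ∃ J : Subgroup G, J ≤ C[f] ∧ zpowers (f) ⊓ J = ⊥ ∧ zpowers (f) ⊔ J = C[f] ∧
    ∀ a, ∃ (E : Subgroup (cj a J)) (_ : E.Normal), Cfsg.IsElementaryAbelian 2 E ∧ Nat.card E = 8 ∧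
      Nonempty (cj a J ⧸ E ≃* SL3) ∧ ∀ K : Subgroup (cj a J), ¬ E.IsComplement' K := by
  obtain ⟨J, hJ⟩ := (syl_card (p := 5) (k := 1) (m := 1344) (by norm_num) (zpowers_le.2 (mem_cent1_self _)) h.c_f
    h.card5 (by decide)).exists_compl (cent1_le_norm_zpowers _)
  have c := hJ.card
  rw [h.c_f, h.card5] at c
  have m : ∀ {x n}, x ∈ C[f] → x ^ 2 ^ n = 1 → x ∈ J := fun hx e =>
    inv_dp hJ.right_le (by rw [h.o_f]; decide) hJ.inf (hJ.sup.ge hx) e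
  have UJ : U ≤ J := fun u hu => m (n := 1) (h.Uf hu) (by rw [pow_one, pow_two, h.sqV (h.UV hu)])
  obtain ⟨⟨ρ, h1, h2⟩, h3⟩ := h.rho (hJ.right_le.trans h.c5_le) fun n hn => by
    obtain ⟨b, hb, e⟩ := h.Ys hn
    obtain ⟨j, hj, a, ha, rfl⟩ := hJ.mem' hb.1
    exact ⟨j, hj, by simpa [mul_assoc] using mul_mem (zpowers_le.2 h.fCU ha) e⟩
  have h4 : U = C(U) ⊓ J := eq_of_le_of_card_ge (le_inf h.UC UJ) (by rw [h.cU]; omega)
  have h5 : ∀ x : J, ρ x = 1 ↔ x.1 ∈ U := fun x => by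
    rw [← MonoidHom.mem_ker, h2, mem_subgroupOf]; exact ⟨fun e => h4.ge ⟨e, x.2⟩, fun e => h.UC e⟩
  refine ⟨J, hJ.right_le, hJ.inf, hJ.sup, fun a => ?_⟩
  obtain ⟨ε⟩ := cj_iso a J
  have xJ := m (n := 3) h.x8.1 (by
    have := h.x8.2 1 (one_mem _)
    rw [one_mul] at this
    rw [show 2 ^ 3 = 4 * 2 from rfl, pow_mul, this, pow_two, h.zz])
  refine fin_J (ρ.comp ε.toMonoidHom) (h1.comp ε.surjective) (by rw [card_cj]; omega) (fun u hu => ε.injective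
    (Subtype.ext (by simpa using h.sqV (h.UV ((h5 _).1 hu))))) (x := ε.symm ⟨_, xJ⟩) fun u hu => ?_
  have e : (ε ((u * ε.symm ⟨_, xJ⟩) ^ 4)).1 = z := by simpa using h.x8.2 _ ((h5 _).1 hu)
  exact ⟨(h5 _).2 (e.symm ▸ h.zU), fun e1 => h.z1 (by rw [← e, e1]; simp)⟩
theorem w4N : φ w4 ∈ N(zpowers (f)) :=
  norm_zp (j := 2) (by rw [← map_pow, ← map_mul, ← map_mul]; exact congrArg φ (by decide))
theorem n5_le : N(zpowers (f)) ≤ N(U) := fun m hm => by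
  obtain ⟨k, e⟩ := h.nf5 hm
  simpa using mul_mem (pow_mem (cent_le_norm _ (h.ICU ⟨w4, rfl⟩)) k) (h.c5_le e)
theorem n5 [IsSimpleGroup G] : #N(zpowers (f)) = 6720 * 4 := by
  obtain ⟨k, m, h1, h2, h3, h4⟩ := nz_card (by norm_num) h.o_f (by rw [h.card]; decide)
  rw [h.card5] at h2
  rw [← h2, h.card] at h3
  have := Nat.le_of_dvd (by decide) h1
  rw [← h2]
  interval_cases k <;> omega
theorem f20 : #(zpowers (f) ⊔ zpowers (φ w4) : Subgroup G) = 20 ∧ (zpowers (f) ⊔ zpowers (φ w4)) ⊓ C[f] = zpowers (f) := by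
  have o : orderOf (φ w4) = 4 := by
    rw [orderOf_injective φ h.finj]; exact orderOf_eq_prime_pow (p := 2) (n := 1) (by decide) (by decide)
  have d : zpowers (φ w4) ⊓ C[f] = ⊥ := le_bot_iff.1 fun x hx => by
    obtain ⟨j, hj, rfl⟩ := mem_zp_lt (n := 4) (by decide) (o ▸ pow_orderOf_eq_one _) hx.1
    have := mem_cent1.1 hx.2
    rw [← map_pow, ← map_mul, ← map_mul, h.finj.eq_iff] at this
    rw [(by decide : ∀ j < 4, w4 ^ j * c5' = c5' * w4 ^ j → j = 0) j hj this, pow_zero]; rfl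
  have n := zpowers_le.2 h.w4N
  exact ⟨by rw [card_sup_of_disjoint n (disjoint_of_coprime_natCard (by
    rw [h.c_f, Nat.card_zpowers, o]; decide)).eq_bot, h.c_f, Nat.card_zpowers, o], by
      rw [sup_inf_modl n (zpowers_le.2 (mem_cent1_self _)), d, sup_bot_eq]⟩
theorem n7_le [IsSimpleGroup G] : N(zpowers (τ)) ≤ N(U) := by
  have c := card_mul_relIndex (cent1_le_norm_zpowers (τ))
  rw [h.n7, ← h.c7, h.card7, h.c7] at c
  have e : evA κ w3 * τ = τ ^ 2 * evA κ w3 := by simpa [evA_append, wds, pow_two] using h.kp.eq tau_ok.2.2.2.2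
  obtain e1 | e1 := eq_of_prime_index (K := N(zpowers (τ)) ⊓ N(U)) (le_inf (cent1_le_norm_zpowers _) (h.c7 ▸ sup_le
    (zpowers_le.2 h.tauU) (h.ICU.trans (cent_le_norm _)))) inf_le_left (by
      rw [show C[τ].relIndex N(zpowers (τ)) = 3 by omega]; norm_num)
  · have := mem_cent1.1 (e1.le ⟨norm_zp e, h.kNU (ltAll_zero tau_ok.2.2.2.1) fun a ha => (tau_ok.2.2.1 a ha).2.1⟩)
    rw [e, mul_left_inj, pow_two, mul_eq_left] at this
    exact absurd (this ▸ h.o_tau) (by simp)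
  · exact inf_eq_left.1 e1
theorem nonsplit [IsSimpleGroup G] (K : Subgroup N(L)) : ¬ ((L).subgroupOf N(L)).IsComplement' K := fun hK => by
  have s1 := sdprod_of_isComplement' hK
  rw [map_subgroupOf_eq_of_le le_normalizer] at s1
  have c1 := (h.rho le_rfl fun n hn => ⟨n, hn, by simp⟩).2
  rw [inf_of_le_left (cent_le_norm _), h.cCU, ← h.NL, ← s1.card, h.cL] at c1
  obtain ⟨y, hy, o⟩ := exists_orderOf_eq_prime (H := K.map N(L).subtype) (p := 5) (by norm_num) (by omega)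
  have fN : C[f] ≤ N(L) := h.NL ▸ h.c5_le
  obtain ⟨a, ha, e⟩ := zp_conj (l := 5) (by norm_num) (by rw [← s1.card, h.cL]; omega) (s1.right_le hy)
    (fN (mem_cent1_self _)) o h.o_f
  have s2 := s1.J a
  rw [cj_of_mem_norm ha, cj_of_mem ha] at s2
  have fK := cj_mono a (zpowers_le.2 hy) (e.ge (mem_zpowers _))
  obtain ⟨l, hl0, k, hk, e1⟩ := s2.mem (fN h.x8.1)
  have e2 : k = l⁻¹ * evA (hl g cq) X8 := by rw [e1]; group
  have h1 : k ∈ C[f] := mem_cent1.2 (mul_inv_eq_one.1 (by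
    refine s2.inf.le (mem_inf.2 ⟨?_, mul_mem (mul_mem hk fK) (inv_mem (mul_mem fK hk))⟩)
    rw [e2, mul_assoc l⁻¹, mem_cent1.1 h.x8.1]
    simpa [mul_assoc] using mul_mem (inv_mem hl0) (conj_mem_of_norm (fN (mem_cent1_self _)) hl0)))
  have h2 : l ∈ C[f] := by simpa [e1] using mul_mem h.x8.1 (inv_mem h1)
  have h3 : l ∈ U := inv_dp h.Uf (by rw [h.o_f]; decide) (by
    rw [inf_comm]; exact h.pgU.inf_eq_bot (PiN.of_card_prime (by norm_num) h.c_f (by simp)))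
      (h.cY.1.ge ⟨h.LCU hl0, h2, h.c5_le h2⟩) (n := 2) (by
        rw [show 2 ^ 2 = 2 * 2 from rfl, pow_mul, pow_two, pow_two, h.sqV (h.UV (h.sqL hl0))])
  exact h.z1 (s2.inf.le ⟨h.UL h.zU, h.x8.2 _ (inv_mem h3) ▸ e2 ▸ pow_mem hk 4⟩)
end S6
theorem syl_zp [Finite G] {x : G} {l : ℕ} [hl : Fact l.Prime] (o : orderOf x = l) (h2 : ¬ l * l ∣ Nat.card G) :
    ∃ S : Sylow l G, (S : Subgroup G) = zpowers x :=
  ⟨(IsPGroup.of_card (G := zpowers x) (n := 1) (by rw [Nat.card_zpowers, o, pow_one])).toSylow fun d => h2 (by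
    rw [← (zpowers x).card_mul_index, Nat.card_zpowers, o]; exact Nat.mul_dvd_mul_left l d), rfl⟩
end H20.J4
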