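import Cfsg.Agent.H20.J4.KC
import Cfsg.Agent.H16.D.J4d

/-! The rank seven action. -/

set_option autoImplicit false
set_option linter.unusedSectionVars false
set_option maxRecDepth 100000
open Subgroup H16 H19 H0 H0.TR MulAction
namespace H20.J4
variable {G : Type*} [Group G]

theorem orb_card (S : Subgroup G) (w : G) : (orbit S (w : G ⧸ S)).ncard = (H19.cj w S).relIndex S := by
  rw [← index_stabilizer, relIndex]
  refine congrArg _ (Subgroup.ext fun x => ?_)
  rw [mem_stabilizer_iff, mem_subgroupOf, mem_cj, eq_comm]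
  exact QuotientGroup.eq.trans (by simp [mul_assoc])
theorem dco_map {Γ : Type*} [Group Γ] (f : Γ ≃* G) {S : Subgroup G} {R : ℕ} {w : ℕ → Γ} {s : ℕ → ℕ}
    (D : DC.Dco (S.comap f.toMonoidHom) R w s) : DC.Dco S R (fun j => f (w j)) s := ⟨fun x => by
  obtain ⟨j, hj, a, ha, b, hb, e⟩ := D.cov (f.symm x)
  exact ⟨j, hj, f a, ha, f b, hb, by simpa using congrArg f e⟩, fun j hj => by
  rw [← D.siz j hj, orb_card, orb_card, show H19.cj (w j) (S.comap f.toMonoidHom) =
    (H19.cj (f (w j)) S).comap f.toMonoidHom from Subgroup.ext fun x => by simp [mem_cj], relIndex_comap,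
    map_comap_eq_self_of_surjective f.surjective]⟩

theorem S5.dco [Finite G] [IsSimpleGroup G] {z p q : G} {Q N Q' : Subgroup G} {π μ : G → GPm} {g cq κ : ℕ → G} {e : ℕ}
    (h : S5 z p Q N π g cq Q' q μ κ e) (a : G) : (N(H19.cj a (VV g cq))).index = 173067389 ∧
      ∃ w, DC.Dco (N(H19.cj a (VV g cq))) 7 w (nth 0 J4d.sL) ∧ w 0 = 1 := by
  obtain ⟨f, hf⟩ := h.iso
  have em : DC.Emb (DC.sg DJ4.g 14) DJ4.g 14 := ⟨Subgroup.subtype _, Subtype.val_injective, fun k hk => by simp [DC.sg_lt _ hk]⟩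
  have c := (em.card (n := 12) (by decide)).trans DJ4.main.1
  obtain ⟨c1, -, c2, -⟩ := (J4c.fin.two J4d.done).main J4d.par (em.rels DJ4.rels (by decide +kernel)) (DC.top_sg _ _)
    fun q => by rw [q, card_top, DJ4.main.2.1] at c; omega
  have e1 : gen (DC.sg DJ4.g 14) 12 = (N(H19.cj a (VV g cq))).comap (f.trans (MulAut.conj a)).toMonoidHom := by
    have := Finite.of_equiv _ f.symm.toEquiv
    refine eq_of_le_of_card_ge (gen_le.2 fun k hk => ?_) ?_
    · rw [DC.sg_lt _ (by omega), ← cj_norm]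
      refine mem_cj'.2 ⟨f _, ?_, rfl⟩
      rw [hf k (by omega), jl]
      split_ifs with h1 h2
      exacts [h.kp.kN k h1, le_normalizer (h.vmem _), by omega]
    · rw [c, comap_equiv_eq_map_symm', card_map_of_injective (MulEquiv.injective _), ← cj_norm, card_cj, h.cM]; decide
  rw [e1] at c1 c2
  exact ⟨(index_comap_of_surjective _ (MulEquiv.surjective _)).symm.trans c1, _, dco_map _ c2, map_one _⟩

end H20.J4
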