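import Cfsg.Agent.H20.J4.LE
import Cfsg.Agent.H20.J4.LF

/-! Fixed points on the cosets of `2^11:M₂₄`. -/

set_option autoImplicit false
set_option linter.unusedSectionVars false
set_option maxRecDepth 100000
open Subgroup H16 H19 H0 H0.TR MulAction
namespace H20.J4
variable {G : Type*} [Group G]
local notation "cj" => H19.cj

theorem aut_dvd [Finite G] {x : G} {l : ℕ} (hl : l.Prime) (o : orderOf x = l) : C[x].relIndex N(zpowers x) ∣ l - 1 := by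
  have c : #(zpowers x) = l := by rw [Nat.card_zpowers, o]
  rw [relIndex, ← cent_zpowers, ← (zpowers x).normalizerMonoidHom_ker, index_ker, ← Nat.totient_prime hl, ← c,
    ← IsCyclic.card_mulAut]
  exact card_subgroup_dvd_card _
theorem nzS [Finite G] {S : Subgroup G} {x : G} {l : ℕ} (hl : l.Prime) (hx : x ∈ S) (o : orderOf x = l)
    (h2 : ¬ l * l ∣ #S) : ∃ k m, k ∣ l - 1 ∧ #(S ⊓ C[x] : Subgroup G) * k = #(S ⊓ N(zpowers x) : Subgroup G) ∧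
      #(S ⊓ N(zpowers x) : Subgroup G) * m = #S ∧ m % l = 1 % l := by
  obtain ⟨m, e⟩ : l ∣ #S := o ▸ orderOf_dvd_card' hx
  refine ⟨_, _, (relIndex_dvd_of_norm (K := S ⊓ _) (inf_le_right.trans (cent_zpowers x ▸ norm_le_norm_cent _))
    (cent1_le_norm_zpowers x) inf_le_right).trans (aut_dvd hl o), ?_, inf_comm S _ ▸ card_inf_mul_relIndex _ S,
    syl_mod hl (syl_card (k := 1) (m := m) hl (zpowers_le.2 hx) (by rw [Nat.card_zpowers, o, pow_one])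
      (by rw [e, pow_one]) fun d => h2 (e ▸ Nat.mul_dvd_mul_left l d))⟩
  rw [← card_inf_mul_relIndex C[x] (S ⊓ N(zpowers x)), inf_left_comm, inf_eq_left.2 (cent1_le_norm_zpowers x)]
theorem cl_full [Finite G] {S : Subgroup G} {x : G} {l : ℕ} (hl : l.Prime) (o : orderOf x = l)
    (e : #(S ⊓ C[x] : Subgroup G) * (l - 1) = #(S ⊓ N(zpowers x) : Subgroup G)) :
    #C[x] * (l - 1) = #N(zpowers x) ∧ ∀ y ∈ zpowers x, y ≠ 1 → IsConj x y := by
  have k : cl N(zpowers x) x ⊆ (zpowers x : Set G) \ {1} := fun _ ⟨a, ha, e⟩ =>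
    ⟨e ▸ conj_mem_of_norm ha (mem_zpowers x), fun e1 => hl.one_lt.ne' (by
      rw [← o, ← orderOf_conj' a, e, orderOf_eq_one_iff]; exact e1)⟩
  have k1 : cl (S ⊓ N(zpowers x)) x ⊆ cl N(zpowers x) x := fun _ ⟨a, ha, e⟩ => ⟨a, ha.2, e⟩
  have c : ((zpowers x : Set G) \ {1}).ncard = l - 1 := by
    rw [Set.ncard_sdiff_singleton_of_mem (one_mem _), ← Nat.card_coe_set_eq, SetLike.coe_sort_coe, Nat.card_zpowers, o]
  have c1 := cl_card (S ⊓ N(zpowers x)) x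
  rw [← e, inf_assoc, inf_eq_right.2 (cent1_le_norm_zpowers x), mul_comm, Nat.mul_right_inj (card_ne_zero _)] at c1
  have e1 := Set.eq_of_subset_of_ncard_le (k1.trans k) (by rw [c, c1])
  have c2 := cl_card N(zpowers x) x
  rw [k.antisymm (e1.ge.trans k1), c, inf_eq_right.2 (cent1_le_norm_zpowers x), mul_comm] at c2
  exact ⟨c2, fun y hy y1 => have ⟨a, _, e⟩ := e1.ge ⟨hy, y1⟩; isConj_iff.2 ⟨a, e⟩⟩
theorem orb_card' (A S : Subgroup G) (w : G) : (orbit A (w : G ⧸ S)).ncard = (cj w S).relIndex A := by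
  rw [← index_stabilizer, relIndex]
  refine congrArg _ (Subgroup.ext fun x => ?_)
  rw [mem_stabilizer_iff, mem_subgroupOf, mem_cj, eq_comm]
  exact QuotientGroup.eq.trans (by simp [mul_assoc])
theorem cj_dc {M : Subgroup G} {a b : G} (w : G) (ha : a ∈ M) (hb : b ∈ M) :
    cj (a * w * b) M ⊓ M = cj a (cj w M ⊓ M) := by rw [cj_inf, cj_of_mem ha, cj_mul, cj_of_mem hb, cj_mul]
theorem fix2 [Finite G] {M : Subgroup G} {w x : G} {l : ℕ} (hl : l.Prime) (h2 : ¬ l * l ∣ #M) (hx : x ∈ M)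
    (o : orderOf x = l) (hw : w ∉ M) (h1 : l ∣ #(cj w M ⊓ M : Subgroup G))
    (cov : ∀ g, g ∈ M ∨ (∃ a ∈ M, ∃ b ∈ M, g = a * w * b) ∨ ¬ l ∣ #(cj g M ⊓ M : Subgroup G)) :
    ∃ n, #(cj n M ⊓ M : Subgroup G) = #(cj w M ⊓ M : Subgroup G) ∧ x ∈ cj n M ∧
      #(M ⊓ N(zpowers x) : Subgroup G) * ((cj n M).relIndex (M ⊓ N(zpowers x)) + 1) = #N(zpowers x) := by
  obtain ⟨y, hy, oy⟩ := exists_orderOf_eq_prime hl h1
  obtain ⟨a, ha, e⟩ := zp_conj hl h2 hy.2 hx oy o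
  have h3 : (a * w)⁻¹ * x * (a * w) ∈ M := mem_cj.1 (cj_mul a w M ▸ cj_mono a (zpowers_le.2 hy.1) (e.ge (mem_zpowers x)))
  obtain ⟨b, hb, e1⟩ := zp_conj hl h2 hx h3 o (by simpa [o] using orderOf_conj' (a * w)⁻¹ x)
  have hn : a * w * b ∈ N(zpowers x) := mem_norm_iff_cj.2 (by rw [cj_mul, e1, cj_zpowers]; congr 1; group)
  have k : ∀ m ∈ N(zpowers x), x ∈ cj m M := fun m hm =>
    mem_cj.2 (zpowers_le.2 hx (conj_mem_of_norm' hm (mem_zpowers x)))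
  refine ⟨a * w * b, by rw [cj_dc w ha hb, card_cj], k _ hn, ?_⟩
  have k1 : ((1 : G) : G ⧸ M) ∉ orbit (M ⊓ N(zpowers x) : Subgroup G) ((a * w * b : G) : G ⧸ M) := fun ⟨c, hc⟩ => hw (by
    simpa [mul_assoc] using M.mul_mem (M.mul_mem (M.inv_mem (M.mul_mem c.2.1 ha)) (QuotientGroup.eq.1 hc.symm)) (M.inv_mem hb))
  have k2 := orb_card' N(zpowers x) M 1
  rw [cj_one] at k2
  rw [← card_inf_mul_relIndex M N(zpowers x), ← orb_card', ← Set.ncard_insert_of_notMem k1, ← k2]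
  congr 2
  refine Set.ext fun v => ⟨?_, fun ⟨m, hm⟩ => ?_⟩
  · rintro (rfl | ⟨c, rfl⟩)
    exacts [mem_orbit_self _, ⟨⟨c * (a * w * b), mul_mem c.2.2 hn⟩, congrArg _ (mul_one _)⟩]
  obtain rfl : ((m : G) : G ⧸ M) = v := (congrArg _ (mul_one _).symm).trans hm
  rcases cov m with e2 | ⟨c, hc, d, hd, e2⟩ | e2
  · exact .inl (QuotientGroup.eq.2 (by simpa using e2))
  · have h4 : cj (c * a⁻¹) (cj (a * w * b) M ⊓ M) = cj m.1 M ⊓ M := by
      rw [e2, cj_dc w ha hb, cj_dc w hc hd, ← cj_mul, inv_mul_cancel_right]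
    obtain ⟨r, hr, e3⟩ := zp_conj (S := cj m.1 M ⊓ M) hl (fun d => h2 (d.trans (card_dvd inf_le_right)))
      (h4 ▸ conj_mem_cj.2 (mem_inf.2 ⟨k _ hn, hx⟩)) ⟨k _ m.2, hx⟩ ((orderOf_conj' _ _).trans o) o
    refine .inr ⟨⟨r * (c * a⁻¹), M.mul_mem hr.2 (mul_mem hc (inv_mem ha)),
      mem_norm_iff_cj.2 (by rw [cj_mul, cj_zpowers, e3])⟩, QuotientGroup.eq.2 ?_⟩
    have := mul_mem (mul_mem (inv_mem hb) hd) (inv_mem (mem_cj.1 hr.1))
    show (r * (c * a⁻¹) * (a * w * b))⁻¹ * m ∈ M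
    rw [e2] at this ⊢
    convert this using 1; group
  · exact absurd (o ▸ orderOf_dvd_card' ⟨k _ m.2, hx⟩) e2

namespace S6
variable [Finite G] [IsSimpleGroup G] {z p q : G} {Q N Q' : Subgroup G} {π μ : G → GPm} {g cq κ : ℕ → G} {e : ℕ}
  {φ : Equiv.Perm (Fin 5) →* G} (h : S6 z p Q N π g cq Q' q μ κ e φ)
include h
local notation "M" => N(VV g cq)
theorem two : ∃ w, #(cj w M ⊓ M : Subgroup G) = 6072 ∧ ∀ x, x ∈ M ∨ (∃ a ∈ M, ∃ b ∈ M, x = a * w * b) ∨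
    ∀ l ∈ [11, 23], ¬ l ∣ #(cj x M ⊓ M : Subgroup G) := by
  obtain ⟨-, w, D, e⟩ := h.dco 1
  rw [cj_one] at D
  have k : ∀ j < 7, #(cj (w j) M ⊓ M : Subgroup G) * nth 0 J4d.sL j = 2 ^ 11 * 244823040 := fun j hj => by
    rw [← D.siz j hj, orb_card, card_inf_mul_relIndex, h.cM]
  refine ⟨w 6, Nat.eq_of_mul_eq_mul_right (by decide) (k 6 (by decide)), fun x => ?_⟩
  obtain ⟨j, hj, a, ha, b, hb, rfl⟩ := D.cov x
  rcases (by decide : ∀ j < 7, j = 0 ∨ j = 6 ∨ ∀ l ∈ [11, 23], ¬ l * nth 0 J4d.sL j ∣ 2 ^ 11 * 244823040) j hj with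
    rfl | rfl | e1
  · exact .inl (by rw [e, mul_one]; exact mul_mem ha hb)
  · exact .inr (.inl ⟨a, ha, b, hb, rfl⟩)
  · exact .inr (.inr fun l hl d => e1 l hl (by
      rw [cj_dc _ ha hb, card_cj] at d; exact k j hj ▸ Nat.mul_dvd_mul_right d _))
theorem fixM {l : ℕ} (hl : l ∈ [11, 23]) {x : G} (hx : x ∈ M) (o : orderOf x = l) : ∃ f j m,
    #(M ⊓ N(zpowers x) : Subgroup G) * (f + 1) = #N(zpowers x) ∧ j * f = #(M ⊓ N(zpowers x) : Subgroup G) ∧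
      j * m = 6072 ∧ m % l = 1 % l := by
  obtain ⟨w, c, cov⟩ := h.two
  obtain ⟨h1, h2, h3, h4⟩ := (by decide : ∀ l ∈ [11, 23], l.Prime ∧ ¬ l * l ∣ 2 ^ 11 * 244823040 ∧ l ∣ 6072 ∧
    ¬ l * l ∣ 6072) l hl
  obtain ⟨n, c1, c2, c3⟩ := fix2 h1 (h.cM ▸ h2) hx o (fun e => by rw [cj_of_mem e, inf_idem, h.cM] at c; omega) (c ▸ h3)
    fun x => (cov x).imp_right (.imp_right fun e => e l hl)
  obtain ⟨-, m, -, -, c4, c5⟩ := nzS (S := cj n M ⊓ M) h1 ⟨c2, hx⟩ o (c1.trans c ▸ h4)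
  exact ⟨_, _, m, c3, by rw [inf_assoc, card_inf_mul_relIndex], c4.trans (c1.trans c), c5⟩
theorem x11 {x : G} (hx : x ∈ M) (o : orderOf x = 11) : #C[x] = 242 ∧ ∀ y ∈ zpowers x, y ≠ 1 → IsConj x y := by
  have c : #(M ⊓ C[x] : Subgroup G) ≤ 11 * 2 := by
    rw [← h.card_mimg inf_le_left, ← cent11 (h.mmem x hx) (ord_map (by norm_num) (by
      rw [← h.mpow hx, ← o, pow_orderOf_eq_one, h.mone]) (fun e => ?_) o (by decide))]
    refine Nat.mul_le_mul (card_le fun y hy => ?_) ((card_le (le_inf inf_le_right (inf_le_left.trans inf_le_right))).trans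
      (h.centV (W := W11) (by simp) hx o))
    · obtain ⟨y, hy', h1, rfl⟩ := h.mem_mimg.1 hy
      exact ⟨h.mmem y h1, mem_cent1.2 (by rw [← h.mmul _ h1 _ hx, ← h.mmul _ hx _ h1, mem_cent1.1 hy'.2])⟩
    · rw [show 3 * 2 ^ 13 = 2 * (3 * 2 ^ 12) from rfl, pow_mul, pow_two, h.sqV ((h.mker _ hx).1 e), one_pow]
  obtain ⟨k, m, c1, c2, c3, c4⟩ := nzS (by norm_num) hx o (by rw [h.cM]; decide)
  obtain ⟨f, j, n, c5, c6, c7, c8⟩ := h.fixM (by simp) hx o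
  obtain ⟨i, c9⟩ : 11 ∣ #(M ⊓ C[x] : Subgroup G) := o ▸ orderOf_dvd_card' ⟨hx, mem_cent1_self x⟩
  have c0 := card_pos (M ⊓ C[x])
  have d1 := Nat.le_of_dvd (by decide) c1
  rw [h.cM, ← c2, c9] at c3
  obtain ⟨rfl, rfl⟩ : i = 2 ∧ k = 10 := by
    obtain rfl | rfl : i = 1 ∨ i = 2 := by omega
    all_goals interval_cases k <;> omega
  obtain ⟨e1, e2⟩ := cl_full (by norm_num) o c2
  rw [← c2, c9] at c5 c6
  have d2 : j ≤ 44 := Nat.le_of_dvd (by decide) (Nat.dvd_gcd (Dvd.intro _ c6) (Dvd.intro _ c7))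
  exact ⟨by interval_cases j <;> omega, e2⟩
theorem cp {a : G} {r : ℕ} (hr : r ∈ [2, 3, 5, 7]) (o : orderOf a = r) : #C[a] ∣ 2 ^ 21 * 3 ^ 3 * 5 * 7 * 11 := by
  have k : ∀ {x}, IsConj x a → #C[a] = #C[x] := fun e => by
    obtain ⟨b, rfl⟩ := isConj_iff.1 e; rw [← cj_cent1, card_cj]
  have k2 : ∀ {x}, r.Prime → orderOf x = r → ¬ r * r ∣ Nat.card G → #C[a] = #C[x] := fun r1 e n => by
    obtain ⟨b, e1⟩ := prime_cj r1 n ((Nat.card_zpowers a).trans o) e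
    rw [← cent_zpowers, ← e1, ← cj_cent, card_cj, cent_zpowers]
  simp only [List.mem_cons, List.not_mem_nil, or_false] at hr
  rcases hr with rfl | rfl | rfl | rfl
  · rcases h.cls2 (mul_self_of_order o) (ne_one_of_order o) with e | e
    · rw [k e, h.cH]; decide
    · rw [k e, (h.ctV (h.vmem 12) (.refl _)).2]; decide
  · rw [k (h.cls3 (o ▸ pow_orderOf_eq_one a) fun e => by simp [e] at o)]
    exact (card_dvd ((cent1_le_norm_zpowers p).trans h.NP)).trans (by rw [h.cH]; decide)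
  · rw [k2 (by norm_num) h.o_f (by rw [h.card]; decide), h.card5]; decide
  · rw [k2 (by norm_num) h.o_tau (by rw [h.card]; decide), ← h.c7, h.card7]; decide
theorem cnd {x : G} (hn : ¬ orderOf x ∣ 2 ^ 21 * 3 ^ 3 * 5 * 7 * 11) : (#C[x]).Coprime (2 ^ 21 * 3 ^ 3 * 5 * 7) := by
  have k : ∀ r ∈ [2, 3, 5, 7], (#C[x]).Coprime r := fun r hr => by
    have r1 := (by decide : ∀ r ∈ [2, 3, 5, 7], r.Prime) r hr
    refine (r1.coprime_iff_not_dvd.2 fun d => ?_).symm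
    obtain ⟨a, ha, oa⟩ := exists_orderOf_eq_prime r1 d
    exact hn ((orderOf_dvd_card' (mem_cent1_symm.1 ha)).trans (h.cp hr oa))
  exact ((((k 2 (by simp)).pow_right _).mul_right ((k 3 (by simp)).pow_right _)).mul_right (k 5 (by simp))).mul_right
    (k 7 (by simp))
theorem x23 {u : G} (o : orderOf u = 23) : #C[u] = 23 ∧ #N(zpowers u) = 23 * 22 := by
  obtain ⟨x, hx, ox⟩ := exists_orderOf_eq_prime (H := M) (p := 23) (by norm_num) (by rw [h.cM]; decide)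
  have n : ¬ 23 * 23 ∣ Nat.card G := by rw [h.card]; decide
  obtain ⟨b, e1⟩ := prime_cj (by norm_num) n ((Nat.card_zpowers u).trans o) ox
  rw [← cent_zpowers, ← e1, ← cj_cent, ← cj_norm, card_cj, card_cj, cent_zpowers]
  obtain ⟨i, m, c1, c2, c3, c4⟩ := nzS (by norm_num) hx ox (by rw [h.cM]; decide)
  obtain ⟨k, -, d1, d2, -⟩ := nz_card (by norm_num) ox n
  obtain ⟨f, j, n, c5, c6, c7, c8⟩ := h.fixM (by simp) hx ox
  have d3 := h.cnd (x := x) (by rw [ox]; decide)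
  have d4 : #(M ⊓ C[x] : Subgroup G) ∣ 253 := (d3.coprime_dvd_left (card_dvd inf_le_right)).dvd_of_dvd_mul_left
    ((card_dvd inf_le_left).trans (by rw [h.cM]; decide))
  have d5 : #(M ⊓ N(zpowers x) : Subgroup G) = 253 := by
    rw [h.cM, ← c2] at c3
    rw [← c2]
    rcases (by decide : ∀ a ∈ Nat.divisors 253, ∀ b ∈ Nat.divisors 22, a * b = 253 ∨ ¬ a * b ∣ 2 ^ 11 * 244823040 ∨
      2 ^ 11 * 244823040 / (a * b) % 23 ≠ 1) _ (Nat.mem_divisors.2 ⟨d4, by decide⟩) i (by simpa using c1) with e | e | e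
    exacts [e, absurd ⟨_, c3.symm⟩ e, absurd (by
      rwa [← c3, Nat.mul_div_cancel_left _ (Nat.mul_pos (card_pos _) (Nat.pos_of_dvd_of_pos c1 (by decide)))]) e]
  rw [d5] at c5 c6
  obtain rfl : j = 253 := by
    rcases (by decide : ∀ a ∈ Nat.divisors 253, a = 1 ∨ a = 11 ∨ a = 23 ∨ a = 253) j (by
      simpa using Dvd.intro _ c6) with rfl | rfl | rfl | rfl <;> omega
  have d6 : ¬ 11 ∣ #C[x] := fun d => by
    obtain ⟨y, hy, oy⟩ := exists_orderOf_eq_prime (by norm_num) d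
    obtain ⟨y', hy', oy'⟩ := exists_orderOf_eq_prime (H := M ⊓ N(zpowers x)) (p := 11) (by norm_num) (by rw [d5]; decide)
    obtain ⟨a, -, e⟩ := zp_conj (by norm_num) (by rw [← c5]; omega) (cent1_le_norm_zpowers x hy) hy'.2 oy oy'
    have := orderOf_dvd_card' (mem_cent1_symm.1 hy)
    rw [← cent_zpowers, ← card_cj a, cj_cent, e, cent_zpowers, (h.x11 hy'.1 oy').1, ox] at this
    omega
  have d7 : ¬ 2 ∣ #C[x] := fun d => absurd (d3.coprime_dvd_left d) (by decide)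
  have d8 := Nat.le_of_dvd (by decide) d1
  exact ⟨by interval_cases k <;> omega, by omega⟩
end S6
end H20.J4
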