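import Cfsg.Agent.H20.J4.FB

/-! Generated by tools/h0/tr.py. -/

set_option maxRecDepth 100000
set_option maxHeartbeats 0

namespace H20.J4
open H16 H0.TR

def Wp : List ℕ := [9, 8, 1, 2, 6, 1, 7, 8, 1, 4, 9, 8, 2, 10, 9, 8, 2, 5]
def Wn : List ℕ := [0, 1]
def RW : List (List ℕ) := [[9, 9, 9, 9], [6, 5, 6, 3, 5], [0, 8, 5, 7, 6, 7, 8]]
/-- the word of `a^i b^j p^k` -/
def r3 (i j k : ℕ) : List ℕ := List.replicate k 0 ++ List.replicate j 1 ++ List.replicate i 2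
def Wa : List ℕ := [10, 5, 2, 4, 8, 3, 9, 8, 0, 10]
def Wc : List ℕ := [6, 2, 6, 7, 9, 8, 6, 3, 9]
def UW : List (ℕ × ℕ × List ℕ × ℕ × ℕ) := [(0, 1, [8, 3, 7, 8], 2, 0), (0, 2, [7, 0, 8, 7], 1, 0), (1, 0, [], 0, 1), (1, 1, [4, 0, 6, 0, 7, 6, 11], 0, 2), (1, 2, [11, 6, 7, 6, 0, 8, 7, 8, 2], 2, 0), (2, 0, [2], 0, 2), (2, 1, [11, 4, 6, 0, 7, 6, 0, 8, 7], 1, 0), (2, 2, [1, 3, 6, 7, 6, 11], 0, 1)]
def EW : List (List ℕ) := [[0, 8, 5, 7, 6, 7, 8], [6, 5, 6, 3, 5], [2, 7], [7, 2]]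
noncomputable def ea_W : List (List ℕ) := [[nat_lit 0, nat_lit 8, nat_lit 5, nat_lit 7, nat_lit 6, nat_lit 7, nat_lit 8]]
noncomputable def ea_P : ℕ → ℕ → ℕ := wdsP A0.P ea_W
noncomputable def cgx_W : List (List ℕ) := [[nat_lit 0, nat_lit 8, nat_lit 5, nat_lit 7, nat_lit 6, nat_lit 7, nat_lit 8]]
noncomputable def cgx_P : ℕ → ℕ → ℕ := wdsP A0.P cgx_W
noncomputable def cgth_W : List (List ℕ) := [[nat_lit 6, nat_lit 2, nat_lit 7, nat_lit 6],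
  [nat_lit 2, nat_lit 7],
  [nat_lit 6, nat_lit 2, nat_lit 7, nat_lit 6],
  [nat_lit 2, nat_lit 7],
  [nat_lit 6, nat_lit 2, nat_lit 7, nat_lit 6],
  [nat_lit 3, nat_lit 6, nat_lit 5, nat_lit 7, nat_lit 6, nat_lit 3],
  [nat_lit 6, nat_lit 2, nat_lit 7, nat_lit 6],
  [nat_lit 3, nat_lit 6, nat_lit 5, nat_lit 7, nat_lit 6, nat_lit 3],
  [nat_lit 2, nat_lit 7],
  [nat_lit 2, nat_lit 7],
  [nat_lit 6, nat_lit 2, nat_lit 7, nat_lit 6],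
  [nat_lit 2, nat_lit 7],
  [nat_lit 2, nat_lit 7],
  [nat_lit 2, nat_lit 6, nat_lit 2, nat_lit 7, nat_lit 6, nat_lit 2],
  [nat_lit 6, nat_lit 3, nat_lit 4, nat_lit 7, nat_lit 6, nat_lit 3, nat_lit 6],
  [nat_lit 0, nat_lit 1, nat_lit 4, nat_lit 6, nat_lit 7],
  [nat_lit 0],
  [nat_lit 1],
  [nat_lit 2],
  [nat_lit 3],
  [nat_lit 4],
  [nat_lit 5],
  [nat_lit 6],
  [nat_lit 7],
  [nat_lit 8],
  [nat_lit 11],
  [nat_lit 12]]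
noncomputable def cgth_P : ℕ → ℕ → ℕ := wdsP A0.P cgth_W
noncomputable def cgtl0Dd : ℕ := nat_lit 0x320
noncomputable def cgtl0D (u : ℕ) : ℕ := Nat.land (Nat.shiftRight cgtl0Dd (Nat.mul u (nat_lit 5))) (nat_lit 31)
noncomputable def cgtl0Pd : ℕ := nat_lit 0x2e0
noncomputable def cgtl0P (u : ℕ) : ℕ := Nat.land (Nat.shiftRight cgtl0Pd (Nat.mul u (nat_lit 5))) (nat_lit 31)
noncomputable def cgtl0Qd : ℕ := nat_lit 0x800000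
noncomputable def cgtl0Q (u : ℕ) : ℕ := Nat.land (Nat.shiftRight cgtl0Qd (Nat.mul u (nat_lit 1))) (nat_lit 1)
noncomputable def cgtl0 : Lev := ⟨2, 27, cgtl0D, cgtl0P, cgtl0Q⟩
noncomputable def cgtl1Dd : ℕ := nat_lit 0x280db53248e2773ab88b458348fcb650130dc3c320c8683000
noncomputable def cgtl1D (u : ℕ) : ℕ := Nat.land (Nat.shiftRight cgtl1Dd (Nat.mul u (nat_lit 9))) (nat_lit 511)
noncomputable def cgtl1Pd : ℕ := nat_lit 0x1c4954a94195159df064ed468c41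
noncomputable def cgtl1P (u : ℕ) : ℕ := Nat.land (Nat.shiftRight cgtl1Pd (Nat.mul u (nat_lit 5))) (nat_lit 31)
noncomputable def cgtl1Qd : ℕ := nat_lit 0x164434d884d4675b60f53a3410400
noncomputable def cgtl1Q (u : ℕ) : ℕ := Nat.land (Nat.shiftRight cgtl1Qd (Nat.mul u (nat_lit 5))) (nat_lit 31)
noncomputable def cgtl1 : Lev := ⟨22, 25, cgtl1D, cgtl1P, cgtl1Q⟩
noncomputable def cgtl2Dd : ℕ := nat_lit 0xb78690cfa291a87520913c86062160c8542813090442000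
noncomputable def cgtl2D (u : ℕ) : ℕ := Nat.land (Nat.shiftRight cgtl2Dd (Nat.mul u (nat_lit 9))) (nat_lit 511)
noncomputable def cgtl2Pd : ℕ := nat_lit 0xe19054696279bd724b2c654115
noncomputable def cgtl2P (u : ℕ) : ℕ := Nat.land (Nat.shiftRight cgtl2Pd (Nat.mul u (nat_lit 5))) (nat_lit 31)
noncomputable def cgtl2Qd : ℕ := nat_lit 0x14105a1a2551e648ce1611d29c400
noncomputable def cgtl2Q (u : ℕ) : ℕ := Nat.land (Nat.shiftRight cgtl2Qd (Nat.mul u (nat_lit 5))) (nat_lit 31)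
noncomputable def cgtl2 : Lev := ⟨21, 24, cgtl2D, cgtl2P, cgtl2Q⟩
noncomputable def cgtl3Dd : ℕ := nat_lit 0xaf6f5ec04dc13d2f452d1f351d25152010110f00
noncomputable def cgtl3D (u : ℕ) : ℕ := Nat.land (Nat.shiftRight cgtl3Dd (Nat.mul u (nat_lit 8))) (nat_lit 255)
noncomputable def cgtl3Pd : ℕ := nat_lit 0x910439b6d43adcc8162f3212a
noncomputable def cgtl3P (u : ℕ) : ℕ := Nat.land (Nat.shiftRight cgtl3Pd (Nat.mul u (nat_lit 5))) (nat_lit 31)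
noncomputable def cgtl3Qd : ℕ := nat_lit 0x340c7cca7225c85002258cd284400
noncomputable def cgtl3Q (u : ℕ) : ℕ := Nat.land (Nat.shiftRight cgtl3Qd (Nat.mul u (nat_lit 5))) (nat_lit 31)
noncomputable def cgtl3 : Lev := ⟨20, 16, cgtl3D, cgtl3P, cgtl3Q⟩
noncomputable def cgtl4Dd : ℕ := nat_lit 0x75c0
noncomputable def cgtl4D (u : ℕ) : ℕ := Nat.land (Nat.shiftRight cgtl4Dd (Nat.mul u (nat_lit 5))) (nat_lit 31)
noncomputable def cgtl4Pd : ℕ := nat_lit 0x3a44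
noncomputable def cgtl4P (u : ℕ) : ℕ := Nat.land (Nat.shiftRight cgtl4Pd (Nat.mul u (nat_lit 5))) (nat_lit 31)
noncomputable def cgtl4Qd : ℕ := nat_lit 0x1020000000
noncomputable def cgtl4Q (u : ℕ) : ℕ := Nat.land (Nat.shiftRight cgtl4Qd (Nat.mul u (nat_lit 2))) (nat_lit 3)
noncomputable def cgtl4 : Lev := ⟨3, 15, cgtl4D, cgtl4P, cgtl4Q⟩
noncomputable def cgtl5Dd : ℕ := nat_lit 0x8b6f534537292f1b210d13050e000100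
noncomputable def cgtl5D (u : ℕ) : ℕ := Nat.land (Nat.shiftRight cgtl5Dd (Nat.mul u (nat_lit 8))) (nat_lit 255)
noncomputable def cgtl5Pd : ℕ := nat_lit 0xb4e0b10ccd7d12861e25
noncomputable def cgtl5P (u : ℕ) : ℕ := Nat.land (Nat.shiftRight cgtl5Pd (Nat.mul u (nat_lit 5))) (nat_lit 31)
noncomputable def cgtl5Qd : ℕ := nat_lit 0xf06e01d7083c0542900ab00
noncomputable def cgtl5Q (u : ℕ) : ℕ := Nat.land (Nat.shiftRight cgtl5Qd (Nat.mul u (nat_lit 4))) (nat_lit 15)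
noncomputable def cgtl5 : Lev := ⟨16, 14, cgtl5D, cgtl5P, cgtl5Q⟩
noncomputable def cgce_W : List (List ℕ) := [[nat_lit 2, nat_lit 7],
  [nat_lit 2, nat_lit 7],
  [nat_lit 2, nat_lit 7],
  [nat_lit 2, nat_lit 7],
  [nat_lit 2, nat_lit 7],
  [nat_lit 2, nat_lit 7],
  [nat_lit 2, nat_lit 7],
  [nat_lit 2, nat_lit 7],
  [nat_lit 2, nat_lit 7],
  [nat_lit 2, nat_lit 7],
  [nat_lit 2, nat_lit 7],
  [nat_lit 0, nat_lit 5, nat_lit 6, nat_lit 4, nat_lit 2, nat_lit 7, nat_lit 6, nat_lit 5],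
  [nat_lit 0, nat_lit 7, nat_lit 6, nat_lit 5],
  [nat_lit 1, nat_lit 4, nat_lit 6, nat_lit 5, nat_lit 7, nat_lit 8, nat_lit 7, nat_lit 6, nat_lit 2, nat_lit 5],
  [nat_lit 11, nat_lit 6, nat_lit 0, nat_lit 3, nat_lit 7, nat_lit 6, nat_lit 2, nat_lit 7, nat_lit 8, nat_lit 7, nat_lit 6, nat_lit 3, nat_lit 6, nat_lit 5]]
noncomputable def cgce_P : ℕ → ℕ → ℕ := wdsP A0.P cgce_W
noncomputable def cgcc5Dd : ℕ := nat_lit 0xbac00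
noncomputable def cgcc5D (u : ℕ) : ℕ := Nat.land (Nat.shiftRight cgcc5Dd (Nat.mul u (nat_lit 5))) (nat_lit 31)
noncomputable def cgcc5Pd : ℕ := nat_lit 0x79a25
noncomputable def cgcc5P (u : ℕ) : ℕ := Nat.land (Nat.shiftRight cgcc5Pd (Nat.mul u (nat_lit 5))) (nat_lit 31)
noncomputable def cgcc5Qd : ℕ := nat_lit 0x4c0002000
noncomputable def cgcc5Q (u : ℕ) : ℕ := Nat.land (Nat.shiftRight cgcc5Qd (Nat.mul u (nat_lit 2))) (nat_lit 3)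
noncomputable def cgcc5 : Lev := ⟨4, 12, cgcc5D, cgcc5P, cgcc5Q⟩
noncomputable def cgtn0Fd : ℕ := nat_lit 0x5e35e330100c0015e3301000
noncomputable def cgtn0F (u : ℕ) : ℕ := Nat.land (Nat.shiftRight cgtn0Fd (Nat.mul u (nat_lit 6))) (nat_lit 63)
noncomputable def cgtn0 : Nd := ⟨cgtn0F, (nat_lit 12), (nat_lit 12), [[nat_lit 0]], [((nat_lit 0), []), ((nat_lit 1), [nat_lit 0])], []⟩
noncomputable def cgcc4Dd : ℕ := nat_lit 0x6580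
noncomputable def cgcc4D (u : ℕ) : ℕ := Nat.land (Nat.shiftRight cgcc4Dd (Nat.mul u (nat_lit 5))) (nat_lit 31)
noncomputable def cgcc4Pd : ℕ := nat_lit 0x3a44
noncomputable def cgcc4P (u : ℕ) : ℕ := Nat.land (Nat.shiftRight cgcc4Pd (Nat.mul u (nat_lit 5))) (nat_lit 31)
noncomputable def cgcc4Qd : ℕ := nat_lit 0x1020000000
noncomputable def cgcc4Q (u : ℕ) : ℕ := Nat.land (Nat.shiftRight cgcc4Qd (Nat.mul u (nat_lit 2))) (nat_lit 3)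
noncomputable def cgcc4 : Lev := ⟨3, 13, cgcc4D, cgcc4P, cgcc4Q⟩
noncomputable def cgtn1Fd : ℕ := nat_lit 0
noncomputable def cgtn1F (u : ℕ) : ℕ := Nat.land (Nat.shiftRight cgtn1Fd (Nat.mul u (nat_lit 1))) (nat_lit 1)
noncomputable def cgtn1 : Nd := ⟨cgtn1F, (nat_lit 13), (nat_lit 13), [], [((nat_lit 0), [])], []⟩
noncomputable def cgcc1Dd : ℕ := nat_lit 0x6da0
noncomputable def cgcc1D (u : ℕ) : ℕ := Nat.land (Nat.shiftRight cgcc1Dd (Nat.mul u (nat_lit 5))) (nat_lit 31)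
noncomputable def cgcc1Pd : ℕ := nat_lit 0x5541
noncomputable def cgcc1P (u : ℕ) : ℕ := Nat.land (Nat.shiftRight cgcc1Pd (Nat.mul u (nat_lit 5))) (nat_lit 31)
noncomputable def cgcc1Qd : ℕ := nat_lit 0x80000100000
noncomputable def cgcc1Q (u : ℕ) : ℕ := Nat.land (Nat.shiftRight cgcc1Qd (Nat.mul u (nat_lit 2))) (nat_lit 3)
noncomputable def cgcc1 : Lev := ⟨3, 14, cgcc1D, cgcc1P, cgcc1Q⟩
noncomputable def cgtn2y13_W : List (List ℕ) := [[nat_lit 1, nat_lit 2, nat_lit 6, nat_lit 2, nat_lit 7, nat_lit 6, nat_lit 3, nat_lit 6, nat_lit 8, nat_lit 7, nat_lit 6, nat_lit 4, nat_lit 8]]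
noncomputable def cgtn2y13_P : ℕ → ℕ → ℕ := wdsP A0.P cgtn2y13_W
noncomputable def cgtr3k_W : List (List ℕ) := [[nat_lit 0, nat_lit 6, nat_lit 1, nat_lit 5, nat_lit 6, nat_lit 7, nat_lit 6, nat_lit 2],
  [nat_lit 2, nat_lit 6, nat_lit 1, nat_lit 4, nat_lit 7, nat_lit 6, nat_lit 3, nat_lit 6]]
noncomputable def cgtr3k_P : ℕ → ℕ → ℕ := wdsP A0.P cgtr3k_W
noncomputable def cgtn3Fd : ℕ := nat_lit 0x39
noncomputable def cgtn3F (u : ℕ) : ℕ := Nat.land (Nat.shiftRight cgtn3Fd (Nat.mul u (nat_lit 2))) (nat_lit 3)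
noncomputable def cgtn3 : Nd := ⟨cgtn3F, (nat_lit 2), (nat_lit 2), [[nat_lit 0]], [((nat_lit 0), [])], []⟩
noncomputable def cgtn2y18_W : List (List ℕ) := [[nat_lit 1, nat_lit 4, nat_lit 6, nat_lit 5, nat_lit 7, nat_lit 8, nat_lit 7, nat_lit 6, nat_lit 2, nat_lit 5]]
noncomputable def cgtn2y18_P : ℕ → ℕ → ℕ := wdsP A0.P cgtn2y18_W
noncomputable def cgtr4k_W : List (List ℕ) := [[nat_lit 4, nat_lit 3, nat_lit 5, nat_lit 6, nat_lit 5],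
  [nat_lit 5, nat_lit 1, nat_lit 6, nat_lit 7, nat_lit 6, nat_lit 1, nat_lit 4]]
noncomputable def cgtr4k_P : ℕ → ℕ → ℕ := wdsP A0.P cgtr4k_W
noncomputable def cgtn4Fd : ℕ := nat_lit 0x111
noncomputable def cgtn4F (u : ℕ) : ℕ := Nat.land (Nat.shiftRight cgtn4Fd (Nat.mul u (nat_lit 3))) (nat_lit 7)
noncomputable def cgtn4 : Nd := ⟨cgtn4F, (nat_lit 2), (nat_lit 2), [], [((nat_lit 0), []), ((nat_lit 1), [nat_lit 0])], []⟩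
noncomputable def cgtn2Fd : ℕ := nat_lit 0x6a8040daaa2a036a1aa2a7199ce04e040
noncomputable def cgtn2F (u : ℕ) : ℕ := Nat.land (Nat.shiftRight cgtn2Fd (Nat.mul u (nat_lit 6))) (nat_lit 63)
noncomputable def cgtn2 : Nd := ⟨cgtn2F, (nat_lit 14), (nat_lit 14), [[nat_lit 0]], [((nat_lit 0), []), ((nat_lit 0), [nat_lit 0]), ((nat_lit 0), [nat_lit 0, nat_lit 0])], [((nat_lit 13), cgtn2y13_W), ((nat_lit 18), cgtn2y18_W)]⟩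
noncomputable def cgcc0Dd : ℕ := nat_lit 0xe0
noncomputable def cgcc0D (u : ℕ) : ℕ := Nat.land (Nat.shiftRight cgcc0Dd (Nat.mul u (nat_lit 4))) (nat_lit 15)
noncomputable def cgcc0Pd : ℕ := nat_lit 0x2e0
noncomputable def cgcc0P (u : ℕ) : ℕ := Nat.land (Nat.shiftRight cgcc0Pd (Nat.mul u (nat_lit 5))) (nat_lit 31)
noncomputable def cgcc0Qd : ℕ := nat_lit 0x800000
noncomputable def cgcc0Q (u : ℕ) : ℕ := Nat.land (Nat.shiftRight cgcc0Qd (Nat.mul u (nat_lit 1))) (nat_lit 1)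
noncomputable def cgcc0 : Lev := ⟨2, 15, cgcc0D, cgcc0P, cgcc0Q⟩
noncomputable def cgtn5Fd : ℕ := nat_lit 0
noncomputable def cgtn5F (u : ℕ) : ℕ := Nat.land (Nat.shiftRight cgtn5Fd (Nat.mul u (nat_lit 1))) (nat_lit 1)
noncomputable def cgtn5 : Nd := ⟨cgtn5F, (nat_lit 15), (nat_lit 15), [], [((nat_lit 0), [])], []⟩

theorem p_mu : muC [9, 9, 9, 9] Wp := by decide +kernel
theorem p_ok : tyV 129 = 1 ∧ tyV (129 ^^^ 1) = 2 ∧ tyV 128 = 2 ∧ tyV 1024 = 2 ∧ tyV (128 ^^^ 1024) = 2 ∧ (∀ a ∈ [129, 128, 1024, 256], apW PX Wp a = a) ∧ ltAll 11 Wn = 0 ∧ apW PX Wn 129 = 1 ∧ apW PX Wn 256 < 128 ∧ eqH 10 0 [9, 9, 9, 9, 11] [11, 9, 9, 9, 9, 9, 9, 9, 9] = 0 := by decide +kernel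
theorem z_comm : eqH 10 4096 ([1, 5, 6] ++ [0, 1, 6, 2]) ([0, 1, 6, 2] ++ [1, 5, 6]) = 0 := by decide +kernel
theorem RW_lt : allL (ltAll 11) RW = true := by decide +kernel
theorem RW_ok : eqH 10 0 (H0.PM.flat RW [1, 2]) (H0.PM.flat RW [2, 1, 0]) = 0 ∧ ∀ i < 3, ∀ j < 3, ∀ k < 3, eqH 10 0 (H0.PM.flat RW (r3 i j k ++ r3 i j k ++ r3 i j k)) [] = 0 := by decide +kernel
theorem a_mu : muC (nth [] RW 2) Wa ∧ eqL H15.MM24.P 11 H15.MM24.B (Wa ++ Wc) (Wc ++ Wp) = 0 := by decide +kernel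
theorem EW_lt : allL (ltAll 13) EW = true := by decide +kernel
theorem EW_ok : kp (nth [] RW 2) = nth [] EW 0 ∧ kp (nth [] RW 1) = nth [] EW 1 ∧ eqL (wdsP A0.P EW) 4 A0.B [0, 2] [2, 0] = 0 ∧ eqL (wdsP A0.P EW) 4 A0.B [2, 3] [] = 0 ∧ (∃ i < 24, apW (wdsP A0.P EW) [3, 1, 2, 1] i ≠ apW (wdsP A0.P EW) [1, 3, 1, 2] i) ∧ ∀ i < 3, ∀ j < 3, (∀ β < 24, apW (wdsP A0.P EW) (List.replicate j 1 ++ List.replicate i 0) β = β) → i = 0 ∧ j = 0 := by decide +kernel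
theorem UW_ok : ∀ i < 3, ∀ j < 3, (i = 0 ∧ j = 0) ∨ ∃ d ∈ UW, d.1 = i ∧ d.2.1 = j ∧ eqL A0.P 13 A0.B (nth [] EW 0 ++ d.2.2.1) (d.2.2.1 ++ H0.PM.flat EW (List.replicate j 1 ++ List.replicate i 0)) = 0 ∧ eqL A0.P 13 A0.B (nth [] EW 1 ++ d.2.2.1) (d.2.2.1 ++ H0.PM.flat EW (List.replicate d.2.2.2.2 1 ++ List.replicate d.2.2.2.1 0)) = 0 := by decide +kernel
theorem ea_lt : allL (ltAll 13) ea_W = true := by decide +kernel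
theorem cgx_lt : allL (ltAll 13) cgx_W = true := by decide +kernel
theorem cgth_lt : allL (ltAll 13) cgth_W = true := by decide +kernel
theorem cgtl0_e_0 : allZ (dent cgtl0 cgth_P (nat_lit 24)) (nat_lit 0) (nat_lit 1) = true := by decide +kernel
theorem cgtl0_h : 0 < cgtl0.n ∧ 0 < cgtl0.K ∧ cgtl0.Pt 0 < 24 ∧ cgtl0.Q (cgtl0.Pt 0) = 0 := by decide +kernel
theorem cgtl1_e_0 : allZ (dent cgtl1 cgth_P (nat_lit 24)) (nat_lit 0) (nat_lit 21) = true := by decide +kernel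
theorem cgtl1_h : 0 < cgtl1.n ∧ 0 < cgtl1.K ∧ cgtl1.Pt 0 < 24 ∧ cgtl1.Q (cgtl1.Pt 0) = 0 := by decide +kernel
theorem cgtl2_e_0 : allZ (dent cgtl2 cgth_P (nat_lit 24)) (nat_lit 0) (nat_lit 20) = true := by decide +kernel
theorem cgtl2_h : 0 < cgtl2.n ∧ 0 < cgtl2.K ∧ cgtl2.Pt 0 < 24 ∧ cgtl2.Q (cgtl2.Pt 0) = 0 := by decide +kernel
theorem cgtl3_e_0 : allZ (dent cgtl3 cgth_P (nat_lit 24)) (nat_lit 0) (nat_lit 19) = true := by decide +kernel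
theorem cgtl3_h : 0 < cgtl3.n ∧ 0 < cgtl3.K ∧ cgtl3.Pt 0 < 24 ∧ cgtl3.Q (cgtl3.Pt 0) = 0 := by decide +kernel
theorem cgtl4_e_0 : allZ (dent cgtl4 cgth_P (nat_lit 24)) (nat_lit 0) (nat_lit 2) = true := by decide +kernel
theorem cgtl4_h : 0 < cgtl4.n ∧ 0 < cgtl4.K ∧ cgtl4.Pt 0 < 24 ∧ cgtl4.Q (cgtl4.Pt 0) = 0 := by decide +kernel
theorem cgtl5_e_0 : allZ (dent cgtl5 cgth_P (nat_lit 24)) (nat_lit 0) (nat_lit 15) = true := by decide +kernel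
theorem cgtl5_h : 0 < cgtl5.n ∧ 0 < cgtl5.K ∧ cgtl5.Pt 0 < 24 ∧ cgtl5.Q (cgtl5.Pt 0) = 0 := by decide +kernel
theorem cgt_f5 : (Nat.ble cgtl5.K 27 && Nat.ble (topK []) cgtl5.K && fixLetters cgth_P (topK []) (cgtl5.Pt 0)) = true := by decide +kernel
theorem cgt_f4 : (Nat.ble cgtl4.K 27 && Nat.ble (topK [cgtl5]) cgtl4.K && fixLetters cgth_P (topK [cgtl5]) (cgtl4.Pt 0)) = true := by decide +kernel
theorem cgt_f3 : (Nat.ble cgtl3.K 27 && Nat.ble (topK [cgtl4, cgtl5]) cgtl3.K && fixLetters cgth_P (topK [cgtl4, cgtl5]) (cgtl3.Pt 0)) = true := by decide +kernel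
theorem cgt_f2 : (Nat.ble cgtl2.K 27 && Nat.ble (topK [cgtl3, cgtl4, cgtl5]) cgtl2.K && fixLetters cgth_P (topK [cgtl3, cgtl4, cgtl5]) (cgtl2.Pt 0)) = true := by decide +kernel
theorem cgt_f1 : (Nat.ble cgtl1.K 27 && Nat.ble (topK [cgtl2, cgtl3, cgtl4, cgtl5]) cgtl1.K && fixLetters cgth_P (topK [cgtl2, cgtl3, cgtl4, cgtl5]) (cgtl1.Pt 0)) = true := by decide +kernel
theorem cgt_f0 : (Nat.ble cgtl0.K 27 && Nat.ble (topK [cgtl1, cgtl2, cgtl3, cgtl4, cgtl5]) cgtl0.K && fixLetters cgth_P (topK [cgtl1, cgtl2, cgtl3, cgtl4, cgtl5]) (cgtl0.Pt 0)) = true := by decide +kernel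
theorem cgt_c : chainCard [cgtl0, cgtl1, cgtl2, cgtl3, cgtl4, cgtl5] = 887040 := by decide +kernel
theorem cgce_lt : allL (ltAll 13) cgce_W = true := by decide +kernel
theorem cgcc5_e_0 : allZ (dent cgcc5 cgce_P (nat_lit 24)) (nat_lit 0) (nat_lit 3) = true := by decide +kernel
theorem cgcc5_h : 0 < cgcc5.n ∧ 0 < cgcc5.K ∧ cgcc5.Pt 0 < 24 ∧ cgcc5.Q (cgcc5.Pt 0) = 0 := by decide +kernel
theorem cgtn0_0 : (Nat.ble cgtl5.K 27 && Nat.beq (ltAll 24 [cgtl4.Pt 0, cgtl3.Pt 0, cgtl2.Pt 0, cgtl1.Pt 0, cgtl0.Pt 0]) 0 && kChk cgce_P cgx_P cgtn0.Kn 1 A0.B [cgtl4.Pt 0, cgtl3.Pt 0, cgtl2.Pt 0, cgtl1.Pt 0, cgtl0.Pt 0] && allL (ltAll 1) cgtn0.pre && planOK cgth_P cgx_P 1 (cgtl5.Pt 0) cgtn0.plan [cgtl5]) = true := by decide +kernel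
theorem cgtn0_1_0 : allZ (cgtn0.ent A0.P cgth_P cgx_P cgx_P cgce_P (nat_lit 13) (nat_lit 1) A0.B cgtl5 [] (memO cgcc5)) (nat_lit 0) (nat_lit 16) = true := by decide +kernel
theorem cgc_f5 : (Nat.ble cgcc5.K 15 && Nat.ble (topK []) cgcc5.K && Nat.beq (cgcc5.Pt 0) (cgtl5.Pt 0) && Nat.beq (ltAll 24 [cgtl4.Pt 0, cgtl3.Pt 0, cgtl2.Pt 0, cgtl1.Pt 0, cgtl0.Pt 0]) 0 && kChk cgce_P cgx_P cgcc5.K 1 A0.B [cgtl4.Pt 0, cgtl3.Pt 0, cgtl2.Pt 0, cgtl1.Pt 0, cgtl0.Pt 0]) = true := by decide +kernel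
theorem cgcc4_e_0 : allZ (dent cgcc4 cgce_P (nat_lit 24)) (nat_lit 0) (nat_lit 2) = true := by decide +kernel
theorem cgcc4_h : 0 < cgcc4.n ∧ 0 < cgcc4.K ∧ cgcc4.Pt 0 < 24 ∧ cgcc4.Q (cgcc4.Pt 0) = 0 := by decide +kernel
theorem cgtn1_0 : (Nat.ble cgtl4.K 27 && Nat.beq (ltAll 24 [cgtl3.Pt 0, cgtl2.Pt 0, cgtl1.Pt 0, cgtl0.Pt 0]) 0 && kChk cgce_P cgx_P cgtn1.Kn 1 A0.B [cgtl3.Pt 0, cgtl2.Pt 0, cgtl1.Pt 0, cgtl0.Pt 0] && allL (ltAll 1) cgtn1.pre && planOK cgth_P cgx_P 1 (cgtl4.Pt 0) cgtn1.plan [cgtl4, cgtl5]) = true := by decide +kernel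
theorem cgtn1_1_0 : allZ (cgtn1.ent A0.P cgth_P cgx_P cgx_P cgce_P (nat_lit 13) (nat_lit 1) A0.B cgtl4 [cgtl5] (memO cgcc4)) (nat_lit 0) (nat_lit 3) = true := by decide +kernel
theorem cgc_f4 : (Nat.ble cgcc4.K 15 && Nat.ble (topK [cgcc5]) cgcc4.K && Nat.beq (cgcc4.Pt 0) (cgtl4.Pt 0) && Nat.beq (ltAll 24 [cgtl3.Pt 0, cgtl2.Pt 0, cgtl1.Pt 0, cgtl0.Pt 0]) 0 && kChk cgce_P cgx_P cgcc4.K 1 A0.B [cgtl3.Pt 0, cgtl2.Pt 0, cgtl1.Pt 0, cgtl0.Pt 0]) = true := by decide +kernel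
theorem cgc_f3 : (Nat.ble cgtl3.K 27 && Nat.blt (nat_lit 1) 24 && fixLetters cgth_P cgtl3.K (nat_lit 1) && Nat.beq (ltAll 1 [nat_lit 0, nat_lit 0]) 0 && Nat.beq (apW cgx_P [nat_lit 0, nat_lit 0] (nat_lit 1)) (cgtl3.Pt 0)) = true := by decide +kernel
theorem cgc_f2 : (Nat.ble cgtl2.K 27 && Nat.blt (nat_lit 1) 24 && fixLetters cgth_P cgtl2.K (nat_lit 1) && Nat.beq (ltAll 1 [nat_lit 0]) 0 && Nat.beq (apW cgx_P [nat_lit 0] (nat_lit 1)) (cgtl2.Pt 0)) = true := by decide +kernel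
theorem cgcc1_e_0 : allZ (dent cgcc1 cgce_P (nat_lit 24)) (nat_lit 0) (nat_lit 2) = true := by decide +kernel
theorem cgcc1_h : 0 < cgcc1.n ∧ 0 < cgcc1.K ∧ cgcc1.Pt 0 < 24 ∧ cgcc1.Q (cgcc1.Pt 0) = 0 := by decide +kernel
theorem cgtn2y13_lt : allL (ltAll 13) cgtn2y13_W = true := by decide +kernel
theorem cgtr3k_lt : allL (ltAll 13) cgtr3k_W = true := by decide +kernel
theorem cgtn3_0 : (Nat.ble cgtl4.K 27 && Nat.beq (ltAll 24 [cgtl3.Pt 0, cgtl2.Pt 0, cgtl1.Pt 0, cgtl0.Pt 0]) 0 && kChk cgtr3k_P cgtn2y13_P cgtn3.Kn 1 A0.B [cgtl3.Pt 0, cgtl2.Pt 0, cgtl1.Pt 0, cgtl0.Pt 0] && allL (ltAll 1) cgtn3.pre && planOK cgth_P cgx_P 1 (cgtl4.Pt 0) cgtn3.plan [cgtl4, cgtl5]) = true := by decide +kernel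
theorem cgtn3_1_0 : allZ (cgtn3.ent A0.P cgth_P cgx_P cgtn2y13_P cgtr3k_P (nat_lit 13) (nat_lit 1) A0.B cgtl4 [cgtl5] (fun _ => nat_lit 1)) (nat_lit 0) (nat_lit 3) = true := by decide +kernel
theorem cgtn2y18_lt : allL (ltAll 13) cgtn2y18_W = true := by decide +kernel
theorem cgtr4k_lt : allL (ltAll 13) cgtr4k_W = true := by decide +kernel
theorem cgtn4_0 : (Nat.ble cgtl4.K 27 && Nat.beq (ltAll 24 [cgtl3.Pt 0, cgtl2.Pt 0, cgtl1.Pt 0, cgtl0.Pt 0]) 0 && kChk cgtr4k_P cgtn2y18_P cgtn4.Kn 1 A0.B [cgtl3.Pt 0, cgtl2.Pt 0, cgtl1.Pt 0, cgtl0.Pt 0] && allL (ltAll 1) cgtn4.pre && planOK cgth_P cgx_P 1 (cgtl4.Pt 0) cgtn4.plan [cgtl4, cgtl5]) = true := by decide +kernel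
theorem cgtn4_1_0 : allZ (cgtn4.ent A0.P cgth_P cgx_P cgtn2y18_P cgtr4k_P (nat_lit 13) (nat_lit 1) A0.B cgtl4 [cgtl5] (fun _ => nat_lit 1)) (nat_lit 0) (nat_lit 3) = true := by decide +kernel
theorem cgtn2_0 : (Nat.ble cgtl1.K 27 && Nat.beq (ltAll 24 [cgtl0.Pt 0]) 0 && kChk cgce_P cgx_P cgtn2.Kn 1 A0.B [cgtl0.Pt 0] && allL (ltAll 1) cgtn2.pre && planOK cgth_P cgx_P 1 (cgtl1.Pt 0) cgtn2.plan [cgtl1, cgtl2, cgtl3, cgtl4, cgtl5]) = true := by decide +kernel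
theorem cgtn2_1_0 : allZ (cgtn2.ent A0.P cgth_P cgx_P cgx_P cgce_P (nat_lit 13) (nat_lit 1) A0.B cgtl1 [cgtl2, cgtl3, cgtl4, cgtl5] (memO cgcc1)) (nat_lit 0) (nat_lit 22) = true := by decide +kernel
theorem cgc_f1 : (Nat.ble cgcc1.K 15 && Nat.ble (topK [cgcc4, cgcc5]) cgcc1.K && Nat.beq (cgcc1.Pt 0) (cgtl1.Pt 0) && Nat.beq (ltAll 24 [cgtl0.Pt 0]) 0 && kChk cgce_P cgx_P cgcc1.K 1 A0.B [cgtl0.Pt 0]) = true := by decide +kernel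
theorem cgcc0_e_0 : allZ (dent cgcc0 cgce_P (nat_lit 24)) (nat_lit 0) (nat_lit 1) = true := by decide +kernel
theorem cgcc0_h : 0 < cgcc0.n ∧ 0 < cgcc0.K ∧ cgcc0.Pt 0 < 24 ∧ cgcc0.Q (cgcc0.Pt 0) = 0 := by decide +kernel
theorem cgtn5_0 : (Nat.ble cgtl0.K 27 && Nat.beq (ltAll 24 []) 0 && kChk cgce_P cgx_P cgtn5.Kn 1 A0.B [] && allL (ltAll 1) cgtn5.pre && planOK cgth_P cgx_P 1 (cgtl0.Pt 0) cgtn5.plan [cgtl0, cgtl1, cgtl2, cgtl3, cgtl4, cgtl5]) = true := by decide +kernel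
theorem cgtn5_1_0 : allZ (cgtn5.ent A0.P cgth_P cgx_P cgx_P cgce_P (nat_lit 13) (nat_lit 1) A0.B cgtl0 [cgtl1, cgtl2, cgtl3, cgtl4, cgtl5] (memO cgcc0)) (nat_lit 0) (nat_lit 2) = true := by decide +kernel
theorem cgc_f0 : (Nat.ble cgcc0.K 15 && Nat.ble (topK [cgcc1, cgcc4, cgcc5]) cgcc0.K && Nat.beq (cgcc0.Pt 0) (cgtl0.Pt 0) && Nat.beq (ltAll 24 []) 0 && kChk cgce_P cgx_P cgcc0.K 1 A0.B []) = true := by decide +kernel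
theorem cgc_c : chainCard [cgcc0, cgcc1, cgcc4, cgcc5] = 72 ∧ topK [cgcc0, cgcc1, cgcc4, cgcc5] = 15 := by decide +kernel

theorem ea_act {G Ω : Type*} [Group G] [MulAction G Ω] {g : ℕ → G} {pt : ℕ → Ω}
    (M : Md g pt A0.P 24 13 A0.B 887040) : Act (wds g ea_W) pt ea_P 24 1 :=
  M.wact ea_lt
theorem cgx_act {G Ω : Type*} [Group G] [MulAction G Ω] {g : ℕ → G} {pt : ℕ → Ω}
    (M : Md g pt A0.P 24 13 A0.B 887040) : Act (wds g cgx_W) pt cgx_P 24 1 :=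
  M.wact cgx_lt
theorem cgth_act {G Ω : Type*} [Group G] [MulAction G Ω] {g : ℕ → G} {pt : ℕ → Ω}
    (M : Md g pt A0.P 24 13 A0.B 887040) : Act (wds g cgth_W) pt cgth_P 24 27 :=
  M.wact cgth_lt
theorem cgtl0_e : ∀ i < 1, (dent cgtl0 cgth_P (nat_lit 24)) i = 0 := allZ_sound0 cgtl0_e_0
theorem cgtl0_ok : DOK cgtl0 cgth_P 24 := ⟨cgtl0_h, cgtl0_e⟩
theorem cgtl1_e : ∀ i < 21, (dent cgtl1 cgth_P (nat_lit 24)) i = 0 := allZ_sound0 cgtl1_e_0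
theorem cgtl1_ok : DOK cgtl1 cgth_P 24 := ⟨cgtl1_h, cgtl1_e⟩
theorem cgtl2_e : ∀ i < 20, (dent cgtl2 cgth_P (nat_lit 24)) i = 0 := allZ_sound0 cgtl2_e_0
theorem cgtl2_ok : DOK cgtl2 cgth_P 24 := ⟨cgtl2_h, cgtl2_e⟩
theorem cgtl3_e : ∀ i < 19, (dent cgtl3 cgth_P (nat_lit 24)) i = 0 := allZ_sound0 cgtl3_e_0
theorem cgtl3_ok : DOK cgtl3 cgth_P 24 := ⟨cgtl3_h, cgtl3_e⟩
theorem cgtl4_e : ∀ i < 2, (dent cgtl4 cgth_P (nat_lit 24)) i = 0 := allZ_sound0 cgtl4_e_0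
theorem cgtl4_ok : DOK cgtl4 cgth_P 24 := ⟨cgtl4_h, cgtl4_e⟩
theorem cgtl5_e : ∀ i < 15, (dent cgtl5 cgth_P (nat_lit 24)) i = 0 := allZ_sound0 cgtl5_e_0
theorem cgtl5_ok : DOK cgtl5 cgth_P 24 := ⟨cgtl5_h, cgtl5_e⟩
theorem cgt_low {G Ω : Type*} [Group G] [MulAction G Ω] {g : ℕ → G} {pt : ℕ → Ω}
    (M : Md g pt A0.P 24 13 A0.B 887040) : SLow (gi (wds g cgth_W)) pt 24 [cgtl0, cgtl1, cgtl2, cgtl3, cgtl4, cgtl5] :=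
  ((((((SLow.nil).cons cgtl5_ok (cgth_act M) cgt_f5).cons cgtl4_ok (cgth_act M) cgt_f4).cons cgtl3_ok (cgth_act M) cgt_f3).cons cgtl2_ok (cgth_act M) cgt_f2).cons cgtl1_ok (cgth_act M) cgt_f1).cons cgtl0_ok (cgth_act M) cgt_f0
theorem cgt_S0 {G Ω : Type*} [Group G] [MulAction G Ω] {g : ℕ → G} {pt : ℕ → Ω}
    (M : Md g pt A0.P 24 13 A0.B 887040) : Stage ⊤ (wds g cgth_W) pt 24 [cgtl0, cgtl1, cgtl2, cgtl3, cgtl4, cgtl5] [] :=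
  M.stage (cgt_low M) cgt_c
theorem cgt_S1 {G Ω : Type*} [Group G] [MulAction G Ω] {g : ℕ → G} {pt : ℕ → Ω}
    (M : Md g pt A0.P 24 13 A0.B 887040) : Stage ⊤ (wds g cgth_W) pt 24 [cgtl1, cgtl2, cgtl3, cgtl4, cgtl5] [cgtl0.Pt 0] :=
  (cgt_S0 M).next
theorem cgt_S2 {G Ω : Type*} [Group G] [MulAction G Ω] {g : ℕ → G} {pt : ℕ → Ω}
    (M : Md g pt A0.P 24 13 A0.B 887040) : Stage ⊤ (wds g cgth_W) pt 24 [cgtl2, cgtl3, cgtl4, cgtl5] [cgtl1.Pt 0, cgtl0.Pt 0] :=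
  (cgt_S1 M).next
theorem cgt_S3 {G Ω : Type*} [Group G] [MulAction G Ω] {g : ℕ → G} {pt : ℕ → Ω}
    (M : Md g pt A0.P 24 13 A0.B 887040) : Stage ⊤ (wds g cgth_W) pt 24 [cgtl3, cgtl4, cgtl5] [cgtl2.Pt 0, cgtl1.Pt 0, cgtl0.Pt 0] :=
  (cgt_S2 M).next
theorem cgt_S4 {G Ω : Type*} [Group G] [MulAction G Ω] {g : ℕ → G} {pt : ℕ → Ω}
    (M : Md g pt A0.P 24 13 A0.B 887040) : Stage ⊤ (wds g cgth_W) pt 24 [cgtl4, cgtl5] [cgtl3.Pt 0, cgtl2.Pt 0, cgtl1.Pt 0, cgtl0.Pt 0] :=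
  (cgt_S3 M).next
theorem cgt_S5 {G Ω : Type*} [Group G] [MulAction G Ω] {g : ℕ → G} {pt : ℕ → Ω}
    (M : Md g pt A0.P 24 13 A0.B 887040) : Stage ⊤ (wds g cgth_W) pt 24 [cgtl5] [cgtl4.Pt 0, cgtl3.Pt 0, cgtl2.Pt 0, cgtl1.Pt 0, cgtl0.Pt 0] :=
  (cgt_S4 M).next
theorem cgt_S6 {G Ω : Type*} [Group G] [MulAction G Ω] {g : ℕ → G} {pt : ℕ → Ω}
    (M : Md g pt A0.P 24 13 A0.B 887040) : Stage ⊤ (wds g cgth_W) pt 24 [] [cgtl5.Pt 0, cgtl4.Pt 0, cgtl3.Pt 0, cgtl2.Pt 0, cgtl1.Pt 0, cgtl0.Pt 0] :=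
  (cgt_S5 M).next
theorem cgce_act {G Ω : Type*} [Group G] [MulAction G Ω] {g : ℕ → G} {pt : ℕ → Ω}
    (M : Md g pt A0.P 24 13 A0.B 887040) : Act (wds g cgce_W) pt cgce_P 24 15 :=
  M.wact cgce_lt
theorem cgcc5_e : ∀ i < 3, (dent cgcc5 cgce_P (nat_lit 24)) i = 0 := allZ_sound0 cgcc5_e_0
theorem cgcc5_ok : DOK cgcc5 cgce_P 24 := ⟨cgcc5_h, cgcc5_e⟩
theorem cgtn0_1 : ∀ i < 16, (cgtn0.ent A0.P cgth_P cgx_P cgx_P cgce_P (nat_lit 13) (nat_lit 1) A0.B cgtl5 [] (memO cgcc5)) i = 0 := allZ_sound0 cgtn0_1_0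
theorem cgtn0_t {G Ω : Type*} [Group G] [MulAction G Ω] {g : ℕ → G} {pt : ℕ → Ω}
    (M : Md g pt A0.P 24 13 A0.B 887040) : TrO (gen (wds g cgth_W) cgtl5.K) (wds g cgx_W) (wds g cgx_W) 1 pt 24 (cgtl5.Pt 0) (memO cgcc5) :=
  node M (cgt_S5 M) (cgth_act M) (cgx_act M) (cgx_act M) cgtn0 ((cgce_act M).mono (by decide)) (fun _ _ => trivial) cgtn0_0 cgtn0_1 (List.forall_mem_nil _)
theorem cgcc4_e : ∀ i < 2, (dent cgcc4 cgce_P (nat_lit 24)) i = 0 := allZ_sound0 cgcc4_e_0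
theorem cgcc4_ok : DOK cgcc4 cgce_P 24 := ⟨cgcc4_h, cgcc4_e⟩
theorem cgtn1_1 : ∀ i < 3, (cgtn1.ent A0.P cgth_P cgx_P cgx_P cgce_P (nat_lit 13) (nat_lit 1) A0.B cgtl4 [cgtl5] (memO cgcc4)) i = 0 := allZ_sound0 cgtn1_1_0
theorem cgtn1_t {G Ω : Type*} [Group G] [MulAction G Ω] {g : ℕ → G} {pt : ℕ → Ω}
    (M : Md g pt A0.P 24 13 A0.B 887040) : TrO (gen (wds g cgth_W) cgtl4.K) (wds g cgx_W) (wds g cgx_W) 1 pt 24 (cgtl4.Pt 0) (memO cgcc4) :=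
  node M (cgt_S4 M) (cgth_act M) (cgx_act M) (cgx_act M) cgtn1 ((cgce_act M).mono (by decide)) (fun _ _ => trivial) cgtn1_0 cgtn1_1 (List.forall_mem_nil _)
theorem cgcc1_e : ∀ i < 2, (dent cgcc1 cgce_P (nat_lit 24)) i = 0 := allZ_sound0 cgcc1_e_0
theorem cgcc1_ok : DOK cgcc1 cgce_P 24 := ⟨cgcc1_h, cgcc1_e⟩
theorem cgtn2y13_act {G Ω : Type*} [Group G] [MulAction G Ω] {g : ℕ → G} {pt : ℕ → Ω}
    (M : Md g pt A0.P 24 13 A0.B 887040) : Act (wds g cgtn2y13_W) pt cgtn2y13_P 24 1 :=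
  M.wact cgtn2y13_lt
theorem cgtr3k_act {G Ω : Type*} [Group G] [MulAction G Ω] {g : ℕ → G} {pt : ℕ → Ω}
    (M : Md g pt A0.P 24 13 A0.B 887040) : Act (wds g cgtr3k_W) pt cgtr3k_P 24 2 :=
  M.wact cgtr3k_lt
theorem cgtn3_1 : ∀ i < 3, (cgtn3.ent A0.P cgth_P cgx_P cgtn2y13_P cgtr3k_P (nat_lit 13) (nat_lit 1) A0.B cgtl4 [cgtl5] (fun _ => nat_lit 1)) i = 0 := allZ_sound0 cgtn3_1_0
theorem cgtn3_t {G Ω : Type*} [Group G] [MulAction G Ω] {g : ℕ → G} {pt : ℕ → Ω}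
    (M : Md g pt A0.P 24 13 A0.B 887040) : TrO (gen (wds g cgth_W) cgtl4.K) (wds g cgx_W) (wds g cgtn2y13_W) 1 pt 24 (cgtl4.Pt 0) (fun _ => nat_lit 1) :=
  node M (cgt_S4 M) (cgth_act M) (cgx_act M) (cgtn2y13_act M) cgtn3 ((cgtr3k_act M).mono (by decide)) (fun _ _ => trivial) cgtn3_0 cgtn3_1 (List.forall_mem_nil _)
theorem cgtr3 {G Ω : Type*} [Group G] [MulAction G Ω] {g : ℕ → G} {pt : ℕ → Ω}
    (M : Md g pt A0.P 24 13 A0.B 887040) : Ref (gen (wds g cgth_W) (topK [cgtl4, cgtl5])) (wds g cgx_W) (wds g cgtn2y13_W) 1 :=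
  (cgtn3_t M).ref
theorem cgtn2y18_act {G Ω : Type*} [Group G] [MulAction G Ω] {g : ℕ → G} {pt : ℕ → Ω}
    (M : Md g pt A0.P 24 13 A0.B 887040) : Act (wds g cgtn2y18_W) pt cgtn2y18_P 24 1 :=
  M.wact cgtn2y18_lt
theorem cgtr4k_act {G Ω : Type*} [Group G] [MulAction G Ω] {g : ℕ → G} {pt : ℕ → Ω}
    (M : Md g pt A0.P 24 13 A0.B 887040) : Act (wds g cgtr4k_W) pt cgtr4k_P 24 2 :=
  M.wact cgtr4k_lt
theorem cgtn4_1 : ∀ i < 3, (cgtn4.ent A0.P cgth_P cgx_P cgtn2y18_P cgtr4k_P (nat_lit 13) (nat_lit 1) A0.B cgtl4 [cgtl5] (fun _ => nat_lit 1)) i = 0 := allZ_sound0 cgtn4_1_0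
theorem cgtn4_t {G Ω : Type*} [Group G] [MulAction G Ω] {g : ℕ → G} {pt : ℕ → Ω}
    (M : Md g pt A0.P 24 13 A0.B 887040) : TrO (gen (wds g cgth_W) cgtl4.K) (wds g cgx_W) (wds g cgtn2y18_W) 1 pt 24 (cgtl4.Pt 0) (fun _ => nat_lit 1) :=
  node M (cgt_S4 M) (cgth_act M) (cgx_act M) (cgtn2y18_act M) cgtn4 ((cgtr4k_act M).mono (by decide)) (fun _ _ => trivial) cgtn4_0 cgtn4_1 (List.forall_mem_nil _)
theorem cgtr4 {G Ω : Type*} [Group G] [MulAction G Ω] {g : ℕ → G} {pt : ℕ → Ω}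
    (M : Md g pt A0.P 24 13 A0.B 887040) : Ref (gen (wds g cgth_W) (topK [cgtl4, cgtl5])) (wds g cgx_W) (wds g cgtn2y18_W) 1 :=
  (cgtn4_t M).ref
theorem cgtn2_1 : ∀ i < 22, (cgtn2.ent A0.P cgth_P cgx_P cgx_P cgce_P (nat_lit 13) (nat_lit 1) A0.B cgtl1 [cgtl2, cgtl3, cgtl4, cgtl5] (memO cgcc1)) i = 0 := allZ_sound0 cgtn2_1_0
theorem cgtn2_t {G Ω : Type*} [Group G] [MulAction G Ω] {g : ℕ → G} {pt : ℕ → Ω}
    (M : Md g pt A0.P 24 13 A0.B 887040) : TrO (gen (wds g cgth_W) cgtl1.K) (wds g cgx_W) (wds g cgx_W) 1 pt 24 (cgtl1.Pt 0) (memO cgcc1) :=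
  node M (cgt_S1 M) (cgth_act M) (cgx_act M) (cgx_act M) cgtn2 ((cgce_act M).mono (by decide)) (fun _ _ => trivial) cgtn2_0 cgtn2_1 (List.forall_mem_cons.2 ⟨cgtr3 M, List.forall_mem_cons.2 ⟨cgtr4 M, List.forall_mem_nil _⟩⟩)
theorem cgcc0_e : ∀ i < 1, (dent cgcc0 cgce_P (nat_lit 24)) i = 0 := allZ_sound0 cgcc0_e_0
theorem cgcc0_ok : DOK cgcc0 cgce_P 24 := ⟨cgcc0_h, cgcc0_e⟩
theorem cgtn5_1 : ∀ i < 2, (cgtn5.ent A0.P cgth_P cgx_P cgx_P cgce_P (nat_lit 13) (nat_lit 1) A0.B cgtl0 [cgtl1, cgtl2, cgtl3, cgtl4, cgtl5] (memO cgcc0)) i = 0 := allZ_sound0 cgtn5_1_0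
theorem cgtn5_t {G Ω : Type*} [Group G] [MulAction G Ω] {g : ℕ → G} {pt : ℕ → Ω}
    (M : Md g pt A0.P 24 13 A0.B 887040) : TrO (gen (wds g cgth_W) cgtl0.K) (wds g cgx_W) (wds g cgx_W) 1 pt 24 (cgtl0.Pt 0) (memO cgcc0) :=
  node M (cgt_S0 M) (cgth_act M) (cgx_act M) (cgx_act M) cgtn5 ((cgce_act M).mono (by decide)) (fun _ _ => trivial) cgtn5_0 cgtn5_1 (List.forall_mem_nil _)
theorem cgc {G Ω : Type*} [Group G] [MulAction G Ω] {g : ℕ → G} {pt : ℕ → Ω}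
    (M : Md g pt A0.P 24 13 A0.B 887040) : Cen ⊤ (wds g cgx_W) 1 (wds g cgce_W) pt 24 [cgcc0, cgcc1, cgcc4, cgcc5] :=
  (cgt_S0 M).top ▸ Cen.lev M (cgt_S0 M) (Cen.lev M (cgt_S1 M) (Cen.triv (cgt_S2 M) (Cen.triv (cgt_S3 M) (Cen.lev M (cgt_S4 M) (Cen.lev M (cgt_S5 M) (Cen.bot) (cgtn0_t M) (cgx_act M) (cgce_act M) (fun _ _ => trivial) cgcc5_ok cgc_f5) (cgtn1_t M) (cgx_act M) (cgce_act M) (fun _ _ => trivial) cgcc4_ok cgc_f4) (forced (cgt_S3 M) (cgth_act M) (cgx_act M) _ _ cgc_f3)) (forced (cgt_S2 M) (cgth_act M) (cgx_act M) _ _ cgc_f2)) (cgtn2_t M) (cgx_act M) (cgce_act M) (fun _ _ => trivial) cgcc1_ok cgc_f1) (cgtn5_t M) (cgx_act M) (cgce_act M) (fun _ _ => trivial) cgcc0_ok cgc_f0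
theorem cgc_card {G Ω : Type*} [Group G] [MulAction G Ω] {g : ℕ → G} {pt : ℕ → Ω}
    (M : Md g pt A0.P 24 13 A0.B 887040) : Nat.card (Subgroup.centralizer {(wds g cgx_W) 0}) = 72 :=
  (cgc M).card_cent1 M.inj cgc_c.1
theorem cgc_eq {G Ω : Type*} [Group G] [MulAction G Ω] {g : ℕ → G} {pt : ℕ → Ω}
    (M : Md g pt A0.P 24 13 A0.B 887040) : Subgroup.centralizer (gen (wds g cgx_W) 1) = gen (wds g cgce_W) 15 ∧ Nat.card (gen (wds g cgce_W) 15) = 72 :=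
  cgc_c.1 ▸ cgc_c.2 ▸ ⟨(cgc M).cent, (cgc M).card M.inj⟩
theorem cg {G Ω : Type*} [Group G] [MulAction G Ω] {g : ℕ → G} {pt : ℕ → Ω}
    (M : Md g pt A0.P 24 13 A0.B 887040) : Nat.card (Subgroup.centralizer {(wds g ea_W) 0}) = 72 :=
  cgc_card M

end H20.J4
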