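import Cfsg.Agent.H20.J4.VB

/-! Generated by tools/h0/tr.py. -/

set_option maxRecDepth 100000
set_option maxHeartbeats 0

namespace H20.J4
open H16 H0.TR

noncomputable def TW (b j : ℕ) : List ℕ := H0.PM.flat tat_W (bw b 8) ++ List.replicate j 9
def IL : List (ℕ × ℕ) := [(0, 0), (1, 1), (2, 0), (3, 1), (4, 0), (5, 1), (6, 0), (7, 1), (8, 1), (9, 2), (10, 1), (11, 2), (12, 1), (13, 2), (14, 1), (15, 2), (32, 0), (33, 1), (34, 0), (35, 1), (64, 0), (65, 1), (66, 0), (67, 1), (96, 0), (97, 1), (98, 0), (99, 1), (128, 0), (129, 1), (132, 0), (133, 1), (160, 0), (161, 1), (166, 0), (167, 1)]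
def OL : List (ℕ × ℕ × List ℕ) := [(16, 0, [178, 316]), (16, 1, [87, 315]), (16, 2, [144, 96]), (17, 0, [67, 314]), (17, 1, [131, 97]), (17, 2, [158, 74]), (18, 0, [2, 316]), (18, 1, [27, 289]), (18, 2, [31, 97]), (19, 0, [15, 308]), (19, 1, [13, 96]), (19, 2, [46, 74]), (20, 0, [1048, 74]), (20, 1, [37, 286]), (20, 2, [150, 96]), (21, 0, [49, 267]), (21, 1, [132, 97]), (21, 2, [138, 1076]), (22, 0, [2070, 74]), (22, 1, [105, 314]), (22, 2, [24, 97]), (23, 0, [125, 315]), (23, 1, [11, 96]), (23, 2, [58, 1230]), (24, 0, [54, 157]), (24, 1, [32, 64]), (24, 2, [210, 374]), (25, 0, [51, 82]), (25, 1, [536, 74]), (25, 2, [34, 157]), (26, 0, [123, 157]), (26, 1, [175, 97]), (26, 2, [40, 350]), (27, 0, [189, 96]), (27, 1, [4, 74]), (27, 2, [111, 157]), (28, 0, [69, 314]), (28, 1, [38, 70]), (28, 2, [140, 74]), (29, 0, [52, 85]), (29, 1, [234, 316]), (29, 2, [81, 315]), (30, 0, [8, 307]),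 (30, 1, [168, 97]), (30, 2, [256, 74]), (31, 0, [187, 96]), (31, 1, [16, 300]), (31, 2, [28, 294]), (60, 0, [69, 8]), (60, 1, [446, 115]), (60, 2, [140, 102]), (61, 0, [38, 85]), (61, 1, [1294, 102]), (61, 2, [554, 20]), (62, 0, [362, 21]), (62, 1, [428, 114]), (62, 2, [1108, 176]), (63, 0, [52, 70]), (63, 1, [198, 16]), (63, 2, [773, 21]), (80, 0, [46, 212]), (80, 1, [27, 303]), (80, 2, [109, 19]), (81, 0, [87, 302]), (81, 1, [360, 18]), (81, 2, [100, 158]), (82, 0, [2, 396]), (82, 1, [67, 303]), (82, 2, [264, 19]), (83, 0, [15, 289]), (83, 1, [13, 18]), (83, 2, [178, 318]), (116, 0, [2240, 44]), (116, 1, [125, 286]), (116, 2, [107, 142]), (117, 0, [37, 326]), (117, 1, [11, 132]), (117, 2, [58, 1106]), (118, 0, [138, 1092]), (118, 1, [105, 267]), (118, 2, [24, 142]), (119, 0, [49, 339]), (119, 1, [121, 143]), (119, 2, [1048, 44]), (154, 0, [320, 8]), (154, 1, [221, 6]), (154, 2,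 [370, 56]), (155, 0, [175, 7]), (155, 1, [4, 296]), (155, 2, [341, 28]), (158, 0, [123, 137]), (158, 1, [189, 6]), (158, 2, [78, 272]), (159, 0, [206, 7]), (159, 1, [40, 16]), (159, 2, [111, 137]), (184, 0, [171, 20]), (184, 1, [678, 115]), (184, 2, [536, 102]), (185, 0, [51, 64]), (185, 1, [776, 102]), (185, 2, [34, 8]), (190, 0, [268, 21]), (190, 1, [32, 82]), (190, 2, [420, 164]), (191, 0, [693, 114]), (191, 1, [210, 16]), (191, 2, [388, 21])]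
def EC : List ℕ := [0, 1, 2, 3, 32, 33, 34, 35, 64, 65, 66, 67, 96, 97, 98, 99]
set_option synthInstance.maxSize 2000
theorem u5 : ∀ β < 8192, (∀ e ∈ [(1, 1), (2, 0), (32, 0), (64, 0)], apW PD (TW e.1 e.2) β % 4096 = β % 4096) → ∃ a < 128, vq a = β := az_of (by decide +kernel)

theorem u1 : ∀ b < 256, ∀ j < 3, (∀ c ∈ BQ, apW PD (TW b j ++ TW b j) c % 4096 = c % 4096) → if apW tat_P (bw b 8) 0 = 0 then (b, j) ∈ IL else ∃ d ∈ OL, d.1 = b ∧ d.2.1 = j := by decide +kernel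
theorem u2 : ∀ d ∈ OL, (∀ β ∈ d.2.2, β < 8192 ∧ apW PD (TW d.1 d.2.1) β % 4096 = β % 4096) ∧ ∀ e ∈ IL, e.1 = 0 ∨ ∃ β ∈ d.2.2, apW PD (TW e.1 e.2) β % 4096 ≠ β % 4096 := by decide +kernel
theorem u3 : ∀ e ∈ IL, e.1 ∈ EC ∨ (e.1 < 16 ∧ ∀ f ∈ IL, (∀ i ∈ A0.B, apW tat_P (bw e.1 8 ++ bw f.1 8) i = apW tat_P (bw f.1 8 ++ bw e.1 8) i) → f.1 < 16 ∨ 128 ≤ f.1) ∨ (128 ≤ e.1 ∧ (IL.filter fun f => ∀ i ∈ A0.B, apW tat_P (bw e.1 8 ++ bw f.1 8) i = apW tat_P (bw f.1 8 ++ bw e.1 8) i).length < 16) := by decide +kernel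
theorem u6 : ∀ b ∈ EC, ∃ c < 16, eqL A0.P 13 (List.range 24) (kp (vw (128 * c))) (H0.PM.flat tat_W (bw b 8)) = 0 := by decide +kernel


end H20.J4
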