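import Cfsg.Agent.H20.J4.CC
import Cfsg.Agent.H20.J4.HG
import Cfsg.Agent.H0.LiftAmb

/-! Facts on `M₂₂` and a fixed point formula. -/

set_option autoImplicit false
set_option linter.unusedSectionVars false
set_option maxRecDepth 100000
open Subgroup H16 H19 H0 H0.TR
namespace H20.J4
variable {G : Type*} [Group G]
local notation "cj" => H19.cj

theorem sum_zp3 {u : G} (h : orderOf u = 3) [Fintype (zpowers u)] (F : G → ℂ) :
    ∑ r : zpowers u, F r = F 1 + F u + F (u * u) := by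
  have hu : IsOfFinOrder u := orderOf_pos_iff.1 (by omega)
  rw [← (finEquivZPowers hu).sum_comp, ← (finCongr h).symm.sum_comp, Fin.sum_univ_three]
  simp [finEquivZPowers_apply, sq]
/-- Wielandt's formula for `3²` -/
theorem wiel9 [Finite G] {x a : G} (hx : orderOf x = 3) (ha : orderOf a = 3) (c : a ∈ C[x]) (n : a ∉ zpowers x)
    {V : Subgroup G} (hV : PG 2 V) (h1 : x ∈ N(V)) (h2 : a ∈ N(V)) : #V * #(V ⊓ (C[x] ⊓ C[a]) : Subgroup G) ^ 3 =
      #(V ⊓ C[x] : Subgroup G) * #(V ⊓ C[a] : Subgroup G) * #(V ⊓ C[x * a] : Subgroup G) * #(V ⊓ C[x * x * a] : Subgroup G) := by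
  classical
  have := Fintype.ofFinite G
  have c' : Commute x a := (mem_cent1.1 c).symm
  have x3 : x ^ 3 = 1 := hx ▸ pow_orderOf_eq_one x
  have a3 : a ^ 3 = 1 := ha ▸ pow_orderOf_eq_one a
  have : Fact (Nat.Prime 3) := ⟨by norm_num⟩
  have o : ∀ y ∈ zpowers x, Commute y a → y ^ 3 = 1 → orderOf (y * a) = 3 := fun y hy c e => orderOf_eq_prime
    (by rw [c.mul_pow, e, a3, one_mul]) fun e => n (eq_inv_of_mul_eq_one_right e ▸ inv_mem hy)
  have o1 := o x (mem_zpowers x) c' x3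
  have o2 := o (x * x) (mul_mem (mem_zpowers x) (mem_zpowers x)) (c'.mul_left c') (by rw [← sq, pow_right_comm, x3, one_pow])
  have sd : Sdprod (zpowers x) (zpowers a) (zpowers x ⊔ zpowers a) := ⟨zpowers_le.2 (cent1_le_norm_zpowers x c), rfl,
    eq_bot_iff.2 fun y hy => by_contra fun y1 => n ((zp_prime (by norm_num) ha hy.2 y1).2.ge.trans (zpowers_le.2 hy.1)
      (mem_zpowers a))⟩
  have cM : #(zpowers x ⊔ zpowers a : Subgroup G) = 9 := by rw [← sd.card, Nat.card_zpowers, Nat.card_zpowers, hx, ha]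
  have m1 : x ∈ zpowers x ⊔ zpowers a := mem_sup_left (mem_zpowers x)
  have m2 : a ∈ zpowers x ⊔ zpowers a := mem_sup_right (mem_zpowers a)
  have hn : zpowers x ⊔ zpowers a ≤ N(V) := sup_le (zpowers_le.2 h1) (zpowers_le.2 h2)
  clear h1 h2
  induction hV' : #V using Nat.strong_induction_on generalizing V with | _ n ih =>
  by_cases h1 : V = ⊥
  · subst h1; simp [← hV']
  obtain ⟨p, W, hp, hpV, hlt, hN, hab, hpow⟩ := exists_elementary_section hV.sol h1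
  obtain rfl : p = 2 := hV p hp hpV
  have IH := ih _ (hV' ▸ card_lt hlt) (hV.of_le hlt.le) (hn.trans hN) rfl
  obtain ⟨χ, -, hd⟩ := exists_lift_section hp hlt.le hn (hn.trans hN) hab hpow (by rw [cM]; decide)
    (by rw [cM]; exact (hV.of_le hlt.le).coprime (PiN.of_coprime (by decide))) (.inr (hV.of_le hlt.le).sol)
  obtain ⟨d0, a0, b0⟩ := hd ⊥ bot_le
  obtain ⟨d, a1, b⟩ := hd _ le_rfl
  obtain ⟨d1, a2, b1⟩ := hd _ (zpowers_le.2 m1)
  obtain ⟨d2, a3', b2⟩ := hd _ (zpowers_le.2 m2)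
  obtain ⟨d3, a4, b3⟩ := hd _ (zpowers_le.2 (mul_mem m1 m2))
  obtain ⟨d4, a5, b4⟩ := hd _ (zpowers_le.2 (mul_mem (mul_mem m1 m1) m2))
  have k : ∀ {u : G} {d : ℕ}, orderOf u = 3 → mult1 (zpowers u) χ = d → χ 1 + χ u + χ (u * u) = 3 * d := fun o e => by
    rw [← sum_zp3 o, ← card_mul_mult1, Nat.card_zpowers, o, e]; simp
  have e := card_mul_mult1 (zpowers x ⊔ zpowers a) χ
  rw [sum_sdprod sd, sum_zp3 ha (fun r => ∑ k : zpowers x, χ (k * r)), sum_zp3 hx (fun k => χ (k * 1)),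
    sum_zp3 hx (fun k => χ (k * a)), sum_zp3 hx (fun k => χ (k * (a * a))), cM, b] at e
  have e1 := k hx b1
  have e2 := k ha b2
  have e3 := k o1 b3
  have e4 := k o2 b4
  rw [c'.symm.mul_mul_mul_comm] at e3
  rw [(c'.mul_left c').symm.mul_mul_mul_comm, show x * x * (x * x) = x by
    simpa [pow_succ, mul_assoc] using x3] at e4
  rw [mult1_bot] at b0
  simp only [mul_one, one_mul] at e
  have e' : d0 + 3 * d = d1 + d2 + d3 + d4 := by
    have : (d0 : ℂ) + 3 * d = d1 + d2 + d3 + d4 := by push_cast at e; linear_combination (e + e1 + e2 + e3 + e4 - 3 * b0) / 3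
    exact_mod_cast this
  have hb : C((⊥ : Subgroup G)) = ⊤ := by ext x; simp
  rw [hb, inf_top_eq, inf_top_eq] at a0
  rw [cent_sup] at a1
  simp only [cent_zpowers] at a1 a2 a3' a4 a5
  rw [← hV', a0, a1, a2, a3', a4, a5]
  calc _ = 2 ^ (d0 + 3 * d) * (#W * #(W ⊓ (C[x] ⊓ C[a]) : Subgroup G) ^ 3) := by ring
    _ = _ := by rw [e', IH]; ring

theorem cjM {c a : GPm} (hc : c ∈ AA) (ha : a ∈ M22) : c * a * c⁻¹ ∈ M22 := conj_mem_of_norm (AA_norm hc) ha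
theorem real3 {a : GPm} (ha : a ∈ M22) (h : orderOf a = 3) : ∃ b ∈ M22, b * a * b⁻¹ = a⁻¹ := by
  obtain ⟨c, hc, e⟩ := (syl_card (k := 2) (m := 98560) (by norm_num) E9_le card_E9 card_AA (by decide)).scj_le
    (zpowers_le.2 (M22_le ha)) (PiN.of_card (by norm_num) ((Nat.card_zpowers _).trans h))
  obtain ⟨i, -, j, -, e⟩ := mem_E9.1 (e (conj_mem_cj.2 (mem_zpowers a)))
  have k : ∀ k < 2, a0 2 * ew k * (a0 2)⁻¹ = (ew k)⁻¹ := fun k hk => by
    have := a0_eq' ((by decide +kernel : ∀ k < 2, eqL A0.P 13 A0.B (nth [] EW k ++ [2] ++ nth [] EW k) [2] = 0) k hk)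
    simp only [evA_append, evA_cons, evA_nil, one_mul] at this
    rw [mul_inv_eq_iff_eq_mul, eq_inv_mul_iff_mul_eq]; exact this
  refine ⟨c⁻¹ * a0 2 * c⁻¹⁻¹, cjM (inv_mem hc) (gen_a11 ▸ mem_gen _ (by decide)), ?_⟩
  have : a0 2 * (c * a * c⁻¹) * (a0 2)⁻¹ = (c * a * c⁻¹)⁻¹ := by
    rw [e, ← conj_mul, ← conj_pow, ← conj_pow, k 0 (by decide), k 1 (by decide), mul_inv_rev, inv_pow, inv_pow]
    exact ((show Commute _ _ from ew_c).pow_pow i j).inv_inv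
  rw [show c⁻¹ * a0 2 * c⁻¹⁻¹ * a * (c⁻¹ * a0 2 * c⁻¹⁻¹)⁻¹ = c⁻¹ * (a0 2 * (c * a * c⁻¹) * (a0 2)⁻¹) * c by group, this]
  group
def TL : List ℕ := (List.range 256).filter fun b => b / 16 % 2 = 0
theorem TL_ok : (∀ b < 256, apW tat_P (bw b 8) 0 = 0 → b ∈ TL) ∧
    ∀ b ∈ TL, b ∈ [0, 1, 2, 3, 4, 5, 6, 7, 32, 33, 34, 35, 36, 37, 38, 39] ∨ (TL.filter fun c => ∀ i ∈ A0.B,
      apW tat_P (bw b 8 ++ bw c 8) i = apW tat_P (bw c 8 ++ bw b 8) i).length < 32 := by decide +kernel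
theorem no_ab32 {A : Subgroup GPm} (hA : A ≤ M22) (h2 : PG 2 A) (h : A ≤ C(A)) : #A < 32 := by
  obtain ⟨c, hc, e⟩ := syl_T0.scj_le (hA.trans M22_le) h2
  rw [← card_cj c]
  have hA' : cj c A ≤ M22 := (cj_mono c hA).trans (mem_norm_iff_cj.1 (AA_norm hc)).le
  have h' := cj_cent c A ▸ cj_mono c h
  generalize cj c A = A at *
  have ap : ∀ {U V : List ℕ}, (∀ k ∈ U, k < 8) → (∀ k ∈ V, k < 8) → evA ta U = evA ta V → ∀ i < 24,
      apW tat_P U i = apW tat_P V i := fun hU hV e i hi => H15.pt_inj (ta_act.apW hU hi).1 (ta_act.apW hV hi).1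
    (by rw [← (ta_act.apW hU hi).2, e, (ta_act.apW hV hi).2])
  have B : ∀ i ∈ A0.B, i < 24 := by decide +kernel
  have l : ∀ b c, ∀ k ∈ bw b 8 ++ bw c 8, k < 8 := fun b c k hk => (List.mem_append.1 hk).elim (bw_lt _ _ k) (bw_lt _ _ k)
  have k : ∀ x ∈ A, ∃ b ∈ TL, evA ta (bw b 8) = x := fun x hx => by
    obtain ⟨b, hb, rfl⟩ := ta_nf le_rfl (e hx)
    obtain ⟨l1, e1⟩ := ta_act.apW (bw_lt b 8) (i := 0) (by decide)
    exact ⟨b, TL_ok.1 b hb (H15.pt_inj l1 (by decide) (e1.symm.trans (mem_M22.1 (hA' hx)).2)), rfl⟩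
  by_contra! c32
  refine absurd (c32.trans (card_cover (L := [0, 1, 2, 3, 4, 5, 6, 7, 32, 33, 34, 35, 36, 37, 38, 39])
    (f := fun b => evA ta (bw b 8)) fun x hx => ?_).1) (by decide)
  obtain ⟨b, hb, rfl⟩ := k x hx
  refine ⟨b, (TL_ok.2 b hb).resolve_right (not_lt.2 (c32.trans (card_cover (f := fun b => evA ta (bw b 8)) fun y hy => ?_).1)), rfl⟩
  obtain ⟨c, hc, rfl⟩ := k y hy
  exact ⟨c, List.mem_filter.2 ⟨hc, decide_eq_true fun i hi => ap (l b c) (l c b)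
    (by rw [evA_append, evA_append, mem_cent.1 (h' hx) _ hy]) i (B i hi)⟩, rfl⟩
theorem no128 {w u : GPm} {B : Subgroup GPm} (hw : w ∈ M22) (h2 : w * w = 1) (h1 : w ≠ 1) (hB : B ≤ M22 ⊓ C[w])
    (c : #B = 128) (hu : u ∈ M22 ⊓ C[w]) (o : orderOf u = 3) (n : u ∈ N(B)) : False := by
  obtain ⟨a, ha, e⟩ := cls0 hw h2 h1
  have e1 : cj a (M22 ⊓ C[w]) = M22 ⊓ C[evA a0 [0]] := by rw [cj_inf, mem_norm_iff_cj.1 (AA_norm ha), cj_cent1, e]; rfl
  have c1 := cent2A (e ▸ cjM ha hw) (by rw [← e, conj_mul, h2]; simp) (by rw [← e]; simpa using h1)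
  replace hB := (cj_mono a hB).trans e1.le
  replace hu := e1.le (conj_mem_cj.2 hu)
  replace o : orderOf (a * u * a⁻¹) = 3 := ((MulAut.conj a).orderOf_eq u).trans o
  replace n : a * u * a⁻¹ ∈ N(cj a B) := cj_norm a B ▸ conj_mem_cj.2 n
  rw [← card_cj a] at c
  generalize cj a B = B at *
  generalize a * u * a⁻¹ = u at *
  have pB : PG 2 B := PiN.of_card_pow (k := 7) Nat.prime_two c
  have k : ∀ W : List ℕ, eqL A0.P 13 A0.B (W ++ [0]) ([0] ++ W) = 0 → evA a0 W ∈ C[evA a0 [0]] := fun W e =>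
    mem_cent1.2 (by simpa only [evA_append] using (a0_eq' e).symm)
  have c2 : #(B ⊔ zpowers u : Subgroup GPm) = 384 := by
    rw [card_sup_of_disjoint (zpowers_le.2 n) (pB.inf_eq_bot (PiN.of_card_prime (by norm_num)
      ((Nat.card_zpowers u).trans o) (by simp))), c, Nat.card_zpowers, o]
  have e2 : B ⊔ zpowers u = M22 ⊓ C[evA a0 [0]] := eq_of_card_lt (sup_le hB (zpowers_le.2 hu)) (by
    rw [c2]
    refine (lt_of_le_of_ne (card_le_of_le (inf_le_inf_right _ M22_le)) fun e => ?_).trans_eq c1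
    exact absurd ((apA (W := [6, 0, 7, 2, 11, 0, 6]) (by decide) (by decide)).1 (mem_M22.1 ((eq_of_le_of_card_ge
      (inf_le_inf_right _ M22_le) e.ge).ge ⟨evA_mem_gen _ (by decide), k _ (by decide +kernel)⟩).1).2) (by decide +kernel))
  have m : ∀ W ∈ [[6, 5, 8, 6], [0, 8, 7, 6, 3, 6, 7, 8]], evA a0 W ∈ B := fun W hW => by
    obtain ⟨l1, l2, l3⟩ := (by decide +kernel : ∀ W ∈ [[6, 5, 8, 6], [0, 8, 7, 6, 3, 6, 7, 8]], (∀ k ∈ W, k < 11) ∧
      eqL A0.P 13 A0.B (W ++ [0]) ([0] ++ W) = 0 ∧ eqL A0.P 13 A0.B (W ++ W) [] = 0) W hW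
    exact (syl_card (k := 7) (m := 3) (by norm_num) hB c (e2 ▸ c2) (by decide)).mem_of_normal
      (e2 ▸ sup_le le_normalizer (zpowers_le.2 n)) ⟨gen_a11 ▸ evA_mem_gen _ l1, k W l2⟩
      (piG_zpowers.1 (pg_zpowers (by simpa only [evA_append, evA_nil] using a0_eq' l3)))
  have := orderOf_dvd_card' (mul_mem (m _ List.mem_cons_self) (m _ (List.mem_cons_of_mem _ List.mem_cons_self)))
  rw [← evA_append, ord_rp (l := 3) (by norm_num) (a0_eq' (by decide +kernel)) fun e => absurd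
    ((apA (i := 1) (W := [0, 8, 7, 6, 3, 6, 7, 8] ++ [6, 5, 8, 6]) (by decide) (by decide)).1 (by rw [e, one_smul])) (by decide +kernel), c] at this
  exact absurd this (by decide)
theorem simp22 {D : Subgroup GPm} (h1 : D ≤ M22) (h2 : M22 ≤ N(D)) : D = ⊥ ∨ D = M22 := by
  have hs : IsSimpleGroup M22 := M22_eq ▸ H15.simple_M22
  exact (hs.eq_bot_or_eq_top_of_normal _ ((normal_subgroupOf_iff_le_normalizer h1).2 h2)).imp
    (fun e => by rwa [subgroupOf_eq_bot, disjoint_iff, inf_eq_left.2 h1] at e) fun e => le_antisymm h1 (subgroupOf_eq_top.1 e)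
end H20.J4
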