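import Cfsg.Agent.H20.J4.XA

/-! An element of order `3` with centralizer `6.M₂₂`. -/

set_option autoImplicit false
set_option linter.unusedSectionVars false
set_option maxRecDepth 100000
open Subgroup H16 H19 H0 H0.TR
open scoped commutatorElement
namespace H20.J4
variable {G : Type*} [Group G]
local notation "cj" => H19.cj

theorem fix_sub [Finite G] {A : Subgroup G} {x : G} {p : ℕ} (hp : p.Prime) (h : x ^ p = 1) (hx : x ∈ N(A)) :
    #A ≡ #(A ⊓ C[x] : Subgroup G) [MOD p] :=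
  haveI := Fact.mk hp
  fix_mod (S := (A : Set G)) h fun _ hy => conj_mem_of_norm hx hy

structure K6 (x z : G) (ξ : G → GPm) : Prop where
  x3 : orderOf x = 3
  zz : z * z = 1
  z1 : z ≠ 1
  zx : z ∈ C[x]
  zC : C[x] ≤ C[z]
  mul : ∀ a ∈ C[x], ∀ b ∈ C[x], ξ (a * b) = ξ a * ξ b
  ker : ∀ a ∈ C[x], ξ a = 1 ↔ a ∈ zpowers (z * x)
  mem : ∀ a ∈ C[x], ξ a ∈ M22
  surj : ∀ m ∈ M22, ∃ a ∈ C[x], ξ a = m
  perf : C[x] ≤ ⁅C[x], C[x]⁆

namespace K6
variable [Finite G] {x z : G} {ξ : G → GPm} (h : K6 x z ξ)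
include h
local notation "Z6" => zpowers (z * x)
def hom : C[x] →* GPm := MonoidHom.mk' (fun a => ξ a) fun a b => h.mul _ a.2 _ b.2
theorem one : ξ 1 = 1 := map_one h.hom
theorem inv {a : G} (ha : a ∈ C[x]) : ξ a⁻¹ = (ξ a)⁻¹ := map_inv h.hom ⟨a, ha⟩
theorem pow {a : G} (ha : a ∈ C[x]) (n : ℕ) : ξ (a ^ n) = ξ a ^ n := map_pow h.hom ⟨a, ha⟩ n
theorem conj {a b : G} (ha : a ∈ C[x]) (hb : b ∈ C[x]) : ξ (a * b * a⁻¹) = ξ a * ξ b * (ξ a)⁻¹ := by
  rw [h.mul _ (mul_mem ha hb) _ (inv_mem ha), h.mul _ ha _ hb, h.inv ha]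
theorem div {a b : G} (ha : a ∈ C[x]) (hb : b ∈ C[x]) (e : ξ a = ξ b) : a * b⁻¹ ∈ Z6 :=
  (h.ker _ (mul_mem ha (inv_mem hb))).1 (by rw [h.mul _ ha _ (inv_mem hb), h.inv hb, e, mul_inv_cancel])
theorem x3' : x ^ 3 = 1 := h.x3 ▸ pow_orderOf_eq_one x
theorem cm : Commute z x := mem_cent1.1 h.zx
theorem cP : #(zpowers x) = 3 := (Nat.card_zpowers x).trans h.x3
theorem cz : #(zpowers z) = 2 := (Nat.card_zpowers z).trans (ord_lev (m := 0) (pow_one z) h.zz h.z1)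
theorem Zle : Z6 ≤ C[x] := zpowers_le.2 (mul_mem h.zx (mem_cent1_self x))
theorem Zc {c a : G} (hc : c ∈ Z6) (ha : a ∈ C[x]) : a * c = c * a := mem_cent1.1 (cent1_le_cent1_of_mem_zpowers hc
  (mem_cent1_symm.1 (mul_mem (mem_cent1_symm.1 (h.zC ha)) (mem_cent1_symm.1 ha))))
theorem c6 : #Z6 = 6 := by
  rw [Nat.card_zpowers, h.cm.orderOf_mul_eq_mul_orderOf_of_coprime, ← Nat.card_zpowers, h.cz, h.x3]
  rw [← Nat.card_zpowers, h.cz, h.x3]; decide
theorem xZ : x ∈ Z6 := by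
  have := pow_mem (mem_zpowers (z * x)) 4
  rwa [h.cm.mul_pow, show 4 = 2 * 2 from rfl, pow_mul z, sq z, h.zz, one_pow, one_mul, pow_succ, h.x3', one_mul] at this
theorem zZ : z ∈ Z6 := (Subgroup.mul_mem_cancel_right _ h.xZ).1 (mem_zpowers _)
theorem memZ {c : G} (hc : c ∈ Z6) : ∃ j, c = z ^ j * x ^ j :=
  (mem_powers_iff_mem_zpowers.2 hc).imp fun j e => e.symm.trans (h.cm.mul_pow j)
theorem z2 {c : G} (hc : c ∈ Z6) (h2 : T2 c) : c ∈ zpowers z := by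
  obtain ⟨j, rfl⟩ := h.memZ hc
  rw [two_z (m := 3) (h.cm.pow_pow j j) ⟨1, by rw [pow_right_comm, pow_one, sq, h.zz, one_pow]⟩
    (by rw [pow_right_comm, h.x3', one_pow]) (by decide) h2, mul_one]
  exact pow_mem (mem_zpowers z) j
theorem z3 {c : G} (hc : c ∈ Z6) (h3 : c ^ 3 = 1) : c ∈ zpowers x := by
  obtain ⟨j, rfl⟩ := h.memZ hc
  rw [(h.cm.pow_pow j j).mul_pow, pow_right_comm x, h.x3', one_pow, mul_one] at h3
  rw [odd_two h3 (by decide) ⟨1, by rw [pow_right_comm, pow_one, sq, h.zz, one_pow]⟩, one_mul]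
  exact pow_mem (mem_zpowers x) j
def img (A : Subgroup G) : Subgroup GPm := (A.subgroupOf C[x]).map h.hom
theorem mem_img {A : Subgroup G} {y : GPm} : y ∈ h.img A ↔ ∃ a ∈ A, a ∈ C[x] ∧ ξ a = y :=
  ⟨fun ⟨x, h1, h2⟩ => ⟨x, h1, x.2, h2⟩, fun ⟨x, h1, h2, h3⟩ => ⟨⟨x, h2⟩, h1, h3⟩⟩
theorem img_le (A : Subgroup G) : h.img A ≤ M22 := fun _ hy => by
  obtain ⟨x, -, h2, rfl⟩ := h.mem_img.1 hy; exact h.mem x h2
theorem card_img {A : Subgroup G} (hA : A ≤ C[x]) : #(h.img A) * #(A ⊓ Z6) = #A := by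
  let f := h.hom.comp (inclusion hA)
  have e := card_eq_card_quotient_mul_card_subgroup f.ker
  have e1 : f.range = h.img A := by
    ext y; rw [h.mem_img]
    exact ⟨fun ⟨x, e⟩ => ⟨x, x.2, hA x.2, e⟩, fun ⟨x, h1, _, e⟩ => ⟨⟨x, h1⟩, e⟩⟩
  have e2 : f.ker = (Z6).subgroupOf A := by ext x; exact h.ker _ (hA x.2)
  rw [Nat.card_congr (QuotientGroup.quotientKerEquivRange _).toEquiv, e1, e2, card_subgroupOf] at e
  rw [e, inf_comm]
theorem img_norm {A : Subgroup G} {a : G} (ha : a ∈ C[x]) (hn : a ∈ N(A)) : ξ a ∈ N(h.img A) :=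
  mem_norm_of_cj_le fun y hy => by
    obtain ⟨_, h0, rfl⟩ := mem_cj'.1 hy
    obtain ⟨b, h1, h2, rfl⟩ := h.mem_img.1 h0
    exact h.mem_img.2 ⟨_, conj_mem_of_norm hn h1, mul_mem (mul_mem ha h2) (inv_mem ha), h.conj ha h2⟩
theorem cC : #C[x] = 6 * 443520 := by
  rw [← h.card_img le_rfl, inf_eq_right.2 h.Zle, h.c6, le_antisymm (h.img_le _) fun m hm => by
    obtain ⟨a, ha, e⟩ := h.surj m hm; exact h.mem_img.2 ⟨a, ha, ha, e⟩, H15.MM22.card]
theorem nrm {K : Subgroup G} (h1 : K ≤ C[x]) (h2 : C[x] ≤ N(K)) : K ≤ Z6 ∨ C[x] ≤ K := by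
  refine (simp22 (h.img_le K) fun m hm => by obtain ⟨a, ha, rfl⟩ := h.surj m hm; exact h.img_norm ha (h2 ha)).imp
    (fun e a ha => (h.ker a (h1 ha)).1 (e.le (h.mem_img.2 ⟨a, ha, h1 ha, rfl⟩))) fun e => h.perf.trans
      (commutator_le.2 fun a ha b hb => ?_)
  obtain ⟨c, hc, hc', e1⟩ := h.mem_img.1 (e.ge (h.mem a ha))
  rw [show ⁅a, b⁆ = a * c⁻¹ * (c * b * c⁻¹) * (a * c⁻¹)⁻¹ * b⁻¹ by simp [commutatorElement_def, mul_assoc],
    ← h.Zc (h.div ha hc' e1.symm) (mul_mem (mul_mem hc' hb) (inv_mem hc')), mul_inv_cancel_right, mul_assoc, mul_assoc,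
    ← mul_assoc b]
  exact mul_mem hc (conj_mem_of_norm (h2 hb) (inv_mem hc))
theorem ctr {c : G} (hc : c ∈ C[x]) (e : c ∈ C(C[x])) : c ∈ Z6 := (h.ker c hc).1 (cent_M22 (M22_le (h.mem c hc))
  (mem_cent.2 fun m hm => by obtain ⟨a, ha, rfl⟩ := h.surj m hm; rw [← h.mul _ ha _ hc, ← h.mul _ hc _ ha, mem_cent.1 e a ha]))
theorem NH : N(zpowers x) ≤ C[z] := fun n hn => by
  have := cent_zpowers x ▸ norm_le_norm_cent _ hn
  have e := (mem_zpowers_inv h.zz).1 (h.z2 (h.ctr (conj_mem_of_norm this h.zx) (conj_mem_of_norm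
    (norm_le_norm_cent _ this) (le_cent1_iff.1 h.zC))) ⟨1, by rw [conj_pow, pow_one, sq, h.zz]; simp⟩)
  exact mem_cent1.2 (mul_inv_eq_iff_eq_mul.1 (e.resolve_left (mt conj_eq_one_iff.1 h.z1)))
theorem syl {P : Subgroup G} (hP : Syl 3 P C[x]) : Z(P) = zpowers x ∧ ⁅P, P⁆ = zpowers x ∧ #P = 27 ∧ Syl 3 P ⊤ := by
  have : Fact (Nat.Prime 3) := ⟨by norm_num⟩
  have xP : x ∈ P := hP.mem_of_norm (mem_cent1_self x) (piG_zpowers.1 (PiN.of_card (by norm_num) h.cP))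
    (cent_le_norm _ (le_cent1_iff.1 hP.le))
  have c : #P = 3 ^ 3 := by
    obtain ⟨k, e⟩ := PiN.exists_card hP.pi
    have := hP.not_dvd (by norm_num)
    have e1 := card_mul_relIndex hP.le
    rw [h.cC, e] at e1
    have : k < 4 := not_le.1 fun l => absurd ((pow_dvd_pow 3 l).trans (Dvd.intro _ e1)) (by decide)
    interval_cases k <;> omega
  have es := H9.isExtraspecial_of_card_cube c fun ab => by
    have e := H3.inf_commutator_inf_center_le (H := P.subgroupOf C[x]) (by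
      rw [card_subgroupOf' hP.le]; exact hP.coprime) (x := ⟨x, mem_cent1_self x⟩) ⟨⟨xP, by
        have := h.perf (mem_cent1_self x)
        rw [← map_subtype_commutator] at this
        exact (mem_map_iff_mem (subtype_injective _)).1 this⟩, mem_center_iff.2 fun y => Subtype.ext (mem_cent1.1 y.2)⟩
    have := mem_map_of_mem C[x].subtype e
    rw [map_commutator, subgroupOf_map_subtype, inf_eq_left.2 hP.le, comm_iff_der.1 ab] at this
    exact absurd h.x3 (by rw [show x = 1 from this]; simp)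
  have e : zpowers x = Z(P) := eq_of_le_of_card_ge (zpowers_le.2 ⟨xP, le_cent1_iff.1 hP.le⟩)
    (by rw [h.cP, ← center_map_eq, card_map_of_injective (subtype_injective _), es.2])
  refine ⟨e.symm, by rw [e, ← center_map_eq, ← es.1.2.2, map_subtype_commutator], c, syl_of_subnorm ?_⟩
  refine (hP.of_idx (cent1_le_norm_zpowers x) (PiN.of_not_dvd fun d => absurd (d.trans (aut_dvd (by norm_num) h.x3))
    (by decide))).of_le (le_inf le_top le_normalizer) (inf_le_right.trans (e ▸ norm_le_norm_center P))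
theorem no81 (A : Subgroup G) : ¬ 81 ∣ #A := fun d => by
  obtain ⟨P, hP⟩ := exists_syl 3 C[x]
  obtain ⟨-, -, c, s⟩ := h.syl hP
  have e := card_mul_relIndex s.le
  have := d.trans (card_dvd_of_le (le_top : A ≤ ⊤))
  rw [← e, c] at this
  exact s.not_dvd (by norm_num) (Nat.dvd_of_mul_dvd_mul_left (by decide) (this : 27 * 3 ∣ _))
theorem fus {a : G} (ha : a ∈ C[x]) (o : orderOf a = 3) (n : a ∉ zpowers x) :
    x * a ∈ cl C[x] a ∧ x * x * a ∈ cl C[x] a := by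
  obtain ⟨P, hP, l⟩ := (PiN.of_card (by norm_num) ((Nat.card_zpowers a).trans o)).exists_syl (zpowers_le.2 ha)
  obtain ⟨e1, e2, -⟩ := h.syl hP
  have aP := l (mem_zpowers a)
  obtain ⟨b, hb, e⟩ : ∃ b ∈ P, ⁅b, a⁆ ≠ 1 := by
    by_contra! k
    exact n (e1.le ⟨aP, mem_cent.2 fun b hb => commutatorElement_eq_one_iff_mul_comm.1 (k b hb)⟩)
  have m := e2.le (commutator_mem_commutator hb aP)
  have k1 : ⁅b, a⁆ * a ∈ cl C[x] a := ⟨b, hP.le hb, by simp [commutatorElement_def]⟩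
  have k2 : ⁅b, a⁆ * ⁅b, a⁆ * a ∈ cl C[x] a := by
    have := cl_cj (hP.le hb) k1
    rwa [← conj_mul, mem_cent1.1 (cent1_le_cent1_of_mem_zpowers m (hP.le hb)), mul_inv_cancel_right,
      show b * a * b⁻¹ = ⁅b, a⁆ * a by simp [commutatorElement_def], ← mul_assoc] at this
  obtain ⟨i, hi, e3⟩ := mem_zp_lt (by decide) h.x3' m
  rw [e3] at k1 k2 e
  interval_cases i
  · exact absurd (pow_zero x) e
  · simpa only [pow_one] using And.intro k1 k2
  · rw [← pow_add, pow_succ, h.x3', one_mul] at k2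
    exact ⟨k2, sq x ▸ k1⟩
theorem real {a : G} (ha : a ∈ C[x]) (o : orderOf a = 3) (n : a ∉ zpowers x) : a⁻¹ ∈ cl C[x] a := by
  have a3 : a ^ 3 = 1 := o ▸ pow_orderOf_eq_one a
  have : Fact (Nat.Prime 3) := ⟨by norm_num⟩
  obtain ⟨m, hm, e⟩ := real3 (h.mem a ha) (orderOf_eq_prime (by rw [← h.pow ha, a3, h.one]) fun e =>
    n (h.z3 ((h.ker a ha).1 e) a3))
  obtain ⟨b, hb, rfl⟩ := h.surj m hm
  rw [← h.conj hb ha, ← h.inv ha] at e
  have hc := mul_mem (mul_mem hb ha) (inv_mem hb)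
  have m := h.div hc (inv_mem ha) e
  have m3 := h.z3 m (by
    have := congrArg (· ^ 3) (inv_mul_cancel_right (b * a * b⁻¹) a⁻¹)
    rwa [(show Commute _ a⁻¹ from (h.Zc m (inv_mem ha)).symm).mul_pow, conj_pow, inv_pow, a3, inv_one, mul_one, mul_one,
      mul_inv_cancel] at this)
  obtain ⟨k1, k2⟩ := h.fus (inv_mem ha) (by rwa [orderOf_inv]) (mt inv_mem_iff.1 n)
  obtain ⟨i, hi, e3⟩ := mem_zp_lt (by decide) h.x3' m3
  rw [mul_inv_eq_iff_eq_mul] at e3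
  refine cl_trans ⟨b, hb, e3⟩ (cl_symm ?_)
  interval_cases i
  exacts [by simpa using cl_self _ _, (pow_one x).symm ▸ k1, (sq x).symm ▸ k2]
end K6
end H20.J4
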