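import Cfsg.Agent.H20.J4.XB

/-! The group `O₂(C(z))` is extraspecial of order `2¹³`. -/

set_option autoImplicit false
set_option linter.unusedSectionVars false
set_option maxRecDepth 100000
open Subgroup H16 H19 H0 H0.TR
open scoped commutatorElement
namespace H20.J4
variable {G : Type*} [Group G]
local notation "cj" => H19.cj

structure K7 (x z : G) (ξ : G → GPm) (g : G) (Q : Subgroup G) : Prop extends K6 x z ξ where
  ga : g * x * g⁻¹ ∈ C[x]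
  gn : g * x * g⁻¹ ∉ zpowers x
  pg : PG 2 Q
  le : Q ≤ C[z]
  norm : C[z] ≤ N(Q)
  cent : C[z] ⊓ C(Q) ≤ Q

namespace K7
variable [Finite G] {x z g : G} {ξ : G → GPm} {Q : Subgroup G} (h : K7 x z ξ g Q)
include h
local notation "Z6" => zpowers (z * x)
local notation "a" => g * x * g⁻¹
theorem oa : orderOf (a) = 3 := ((MulAut.conj g).orderOf_eq x).trans h.x3
theorem zQ : z ∈ Q := h.cent ⟨mem_cent1_self z, le_cent1_iff.1 h.le⟩
theorem xH : x ∈ C[z] := h.zC (mem_cent1_self x)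
theorem t2 {c : G} (hc : c ∈ Q) : T2 c := by
  obtain ⟨k, e⟩ := PiN.exists_card h.pg
  exact ⟨k, orderOf_dvd_iff_pow_eq_one.1 (e ▸ orderOf_dvd_card' hc)⟩
theorem xQ : x ∉ Q := fun e => absurd h.x3 (by rw [odd_two h.x3' (by decide) (h.t2 e)]; simp)
theorem CQ {A : Subgroup G} (hA : A ≤ Q) (hz : z ∈ A) : A ⊓ C[x] = zpowers z := le_antisymm
  (fun c hc => h.z2 ((h.nrm inf_le_right (norms_inf (h.zC.trans h.norm) le_normalizer)).resolve_right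
    (fun e => h.xQ (e (mem_cent1_self x)).1) ⟨hA hc.1, hc.2⟩) (h.t2 (hA hc.1))) (zpowers_le.2 ⟨hz, h.zx⟩)
theorem form {A : Subgroup G} (hA : A ≤ Q) (hz : z ∈ A) (hn : C[x] ≤ N(A)) : #A * 4 = #(A ⊓ C[a] : Subgroup G) ^ 3 := by
  have := wiel9 h.x3 h.oa h.ga h.gn (h.pg.of_le hA) (hn (mem_cent1_self x)) (hn h.ga)
  obtain ⟨⟨b, hb, e1⟩, ⟨c, hc, e2⟩⟩ := h.fus h.ga h.oa h.gn
  rw [← inf_assoc, h.CQ hA hz, inf_eq_left.2 (zpowers_le.2 (mem_cent1_symm.1 (h.zC h.ga))), h.cz,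
    ← cent_conj (hn hb) ((cj_zpowers ..).trans (congrArg _ e1)), ← cent_conj (hn hc) ((cj_zpowers ..).trans (congrArg _ e2))] at this
  linarith [pow_three' #(A ⊓ C[a] : Subgroup G)]
theorem Qne : Q ≠ zpowers z := fun e => h.xQ (h.cent ⟨h.xH, by rw [e, cent_zpowers]; exact h.xH⟩)
theorem gz : g * z * g⁻¹ ∉ Q := fun e => by
  have e1 := (mem_zpowers_inv h.zz).1 ((h.CQ le_rfl h.zQ).le ⟨e, mem_cent1_symm.1 (cj_cent1 g z ▸ cj_mono g h.zC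
    (cj_cent1 g x ▸ mem_cent1_symm.1 h.ga))⟩)
  have := h.form le_rfl h.zQ (h.zC.trans h.norm)
  rw [← cent_conj (h.norm (mem_cent1.2 (mul_inv_eq_iff_eq_mul.1 (e1.resolve_left (mt conj_eq_one_iff.1 h.z1)))))
    (cj_zpowers g x), h.CQ le_rfl h.zQ, h.cz] at this
  exact h.Qne (eq_of_le_of_card_ge (zpowers_le.2 h.zQ) (by rw [h.cz]; omega)).symm
theorem imB {A : Subgroup G} (hA : A ≤ Q) : cj g⁻¹ (A ⊓ C[a]) ≤ C[x] ∧ cj g⁻¹ (A ⊓ C[a]) ⊓ Z6 = ⊥ ∧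
    #(h.img (cj g⁻¹ (A ⊓ C[a]))) = #(A ⊓ C[a] : Subgroup G) := by
  have h1 : cj g⁻¹ (A ⊓ C[a]) ≤ C[x] := (cj_mono _ inf_le_right).trans (by rw [cj_cent1]; simp [mul_assoc])
  have h2 : cj g⁻¹ (A ⊓ C[a]) ⊓ Z6 = ⊥ := eq_bot_iff.2 fun c hc => by
    have h3 := hA (mem_cj.1 hc.1).1
    rw [inv_inv] at h3
    exact ((mem_zpowers_inv h.zz).1 (h.z2 hc.2 (by simpa [mul_assoc] using (h.t2 h3).cj g⁻¹))).resolve_right
      fun e => h.gz (e ▸ h3)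
  exact ⟨h1, h2, by simpa [h2, card_cj] using h.card_img h1⟩
theorem irr {A : Subgroup G} (hA : A ≤ Q) (hz : z ∈ A) (hn : C[x] ≤ N(A)) :
    A = zpowers z ∨ #A = 2 ^ 13 ∧ #(A ⊓ C[a] : Subgroup G) = 32 := by
  refine or_iff_not_imp_left.2 fun n => ?_
  have e := h.form hA hz hn
  obtain ⟨h1, h2, h3⟩ := h.imB hA
  obtain ⟨k, c⟩ := PiN.exists_card ((h.pg.of_le hA).of_le (inf_le_left (b := C[a])))
  have k8 : k < 8 := not_le.1 fun l => absurd ((pow_dvd_pow 2 l).trans (c ▸ h3 ▸ H15.MM22.card ▸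
    card_dvd_of_le (h.img_le _))) (by decide)
  have m3 := fix_sub (by norm_num) h.x3' (hn (mem_cent1_self x))
  rw [h.CQ hA hz, h.cz] at m3
  obtain ⟨y, hy, o⟩ := exists_orderOf_eq_prime (H := C[x]) (p := 11) (by norm_num) (by rw [h.cC]; decide)
  have m11 := fix_sub (by norm_num) (o ▸ pow_orderOf_eq_one y) (hn hy)
  obtain ⟨j, c1⟩ := PiN.exists_card ((h.pg.of_le hA).of_le (inf_le_left (b := C[y])))
  have l : #(A ⊓ C[y] : Subgroup G) < #A := card_lt (lt_of_le_of_ne inf_le_left fun e => by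
    rcases h.nrm (K := C[x] ⊓ C(A)) inf_le_left (norms_inf le_normalizer (hn.trans (norm_le_norm_cent A))) with l | l
    · exact absurd (o ▸ h.c6 ▸ orderOf_dvd_card' (l ⟨hy, le_cent1_iff.1 (e.ge.trans inf_le_right)⟩)) (by decide)
    · exact n ((inf_eq_left.2 (le_cent1_iff.2 (l (mem_cent1_self x)).2)).symm.trans (h.CQ hA hz)))
  have k7 : k ≠ 7 := by
    rintro rfl
    have z' : g⁻¹ * z * g⁻¹⁻¹ ∈ cj g⁻¹ (A ⊓ C[a]) := conj_mem_cj.2 ⟨hz, mem_cent1_symm.1 (h.zC h.ga)⟩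
    have x' : g⁻¹ * x * g⁻¹⁻¹ ∈ C[x] := mem_cent1_symm.1 (cj_cent1 g⁻¹ x ▸ mem_cj.2 (by simpa using h.ga))
    have x3 : (g⁻¹ * x * g⁻¹⁻¹) ^ 3 = 1 := by rw [conj_pow, h.x3']; simp
    have : Fact (Nat.Prime 3) := ⟨by norm_num⟩
    have cc : ∀ {u v}, u ∈ C[x] → v ∈ C[z] → g⁻¹ * v * g⁻¹⁻¹ ∈ C[x] → ξ (g⁻¹ * v * g⁻¹⁻¹) ∈ C[ξ (g⁻¹ * z * g⁻¹⁻¹)] :=
      fun _ hv h4 => mem_cent1.2 (by rw [← h.mul _ h4 _ (h1 z'), ← h.mul _ (h1 z') _ h4, conj_mul, conj_mul, mem_cent1.1 hv])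
    refine no128 (h.mem _ (h1 z')) (by rw [← h.mul _ (h1 z') _ (h1 z'), conj_mul, h.zz]; simp [h.one])
      (fun e => h.z1 (conj_eq_one_iff.1 (h2.le ⟨z', (h.ker _ (h1 z')).1 e⟩))) (le_inf (h.img_le _) fun m hm => ?_)
      (h3.trans c) ⟨h.mem _ x', cc x' h.xH x'⟩ (orderOf_eq_prime (by rw [← h.pow x', x3, h.one]) fun e => h.gn ?_)
      (h.img_norm x' (cj_norm g⁻¹ _ ▸ conj_mem_cj.2 (norms_inf (zpowers_le.2 (hn (mem_cent1_self x)))
        (zpowers_le.2 (le_normalizer (mem_cent1_symm.1 h.ga))) (mem_zpowers x))))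
    · obtain ⟨u, hu, hu', rfl⟩ := h.mem_img.1 hm
      obtain ⟨v, hv, rfl⟩ := mem_cj'.1 hu
      exact cc x' (h.le (hA hv.1)) hu'
    · have := (zp_prime (by norm_num) h.x3 (h.z3 ((h.ker _ x').1 e) x3) fun e => by
        simpa [conj_eq_one_iff.1 e] using h.x3).2
      rw [← cj_zpowers] at this
      exact conj_mem_of_norm (inv_mem_iff.1 (mem_norm_iff_cj.2 this)) (mem_zpowers x)
  rw [c] at e ⊢
  rw [c1] at l m11
  have j19 : j < 19 := (Nat.pow_lt_pow_iff_right (by decide : 1 < 2)).1 (by interval_cases k <;> omega)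
  unfold Nat.ModEq at m3 m11
  interval_cases k <;> first | omega | (interval_cases j <;> omega)
theorem cQ : #Q = 2 ^ 13 ∧ #(Q ⊓ C[a] : Subgroup G) = 32 := (h.irr le_rfl h.zQ (h.zC.trans h.norm)).resolve_left h.Qne
theorem irr' {A : Subgroup G} (hA : A ≤ Q) (hz : z ∈ A) (hn : C[z] ≤ N(A)) : A = zpowers z ∨ A = Q :=
  (h.irr hA hz (h.zC.trans hn)).imp_right fun e => eq_of_le_of_card_ge hA (by rw [e.1, h.cQ.1])
theorem ctrQ : Q ⊓ C(Q) = zpowers z := (h.irr' inf_le_left ⟨h.zQ, le_cent1_iff.1 h.le⟩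
    (norms_inf h.norm (h.norm.trans (norm_le_norm_cent Q)))).resolve_right fun e => by
  obtain ⟨h1, -, h3⟩ := h.imB le_rfl
  refine absurd (no_ab32 (h.img_le _) (PiN.of_card_pow (k := 5) Nat.prime_two (h3.trans h.cQ.2)) fun u hu =>
    mem_cent.2 fun v hv => ?_) (by rw [h3, h.cQ.2]; decide)
  obtain ⟨u, u1, hu', rfl⟩ := h.mem_img.1 hu
  obtain ⟨v, v1, hv', rfl⟩ := h.mem_img.1 hv
  obtain ⟨u, u2, rfl⟩ := mem_cj'.1 u1
  obtain ⟨v, v2, rfl⟩ := mem_cj'.1 v1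
  rw [← h.mul _ hu' _ hv', ← h.mul _ hv' _ hu', conj_mul, conj_mul, mem_cent.1 (e.ge u2.1).2 _ v2.1]
theorem der : ⁅Q, Q⁆ ≤ zpowers z := by
  have n : C[z] ≤ N(⁅Q, Q⁆) := norms_der h.norm
  refine le_sup_left.trans ((h.irr' (sup_le (commutator_le_self Q) (zpowers_le.2 h.zQ)) (mem_sup_right (mem_zpowers z))
    (norms_sup n (cent1_le_norm_zpowers z))).resolve_right fun e => ?_).le
  by_cases h1 : ⁅Q, Q⁆ = ⊥
  · exact h.Qne (by rw [← e, h1, bot_sup_eq])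
  refine (nil_commg_lt h.pg.nil (commutator_le_self Q) le_rfl (h.le.trans n) h1).not_ge (commutator_le.2 fun u hu v hv => ?_)
  obtain ⟨u, u1, c, hc, rfl⟩ := (mem_sup_of_norm (zpowers_le.2 (n (mem_cent1_self z)))).1 (e.ge hu)
  rw [show ⁅u * c, v⁆ = u * (c * v * c⁻¹) * u⁻¹ * v⁻¹ by simp [commutatorElement_def, mul_assoc],
    ← mem_cent1.1 (cent1_le_cent1_of_mem_zpowers hc (h.le hv)), mul_inv_cancel_right]
  exact commutator_mem_commutator u1 hv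
theorem lE : LE Q z := by
  have c : ∀ u ∈ Q, ∀ v ∈ Q, ⁅u, v⁆ = 1 ∨ ⁅u, v⁆ = z := fun u hu v hv =>
    (mem_zpowers_inv h.zz).1 (h.der (commutator_mem_commutator hu hv))
  have k : ∀ u ∈ Q, (∀ v ∈ Q, u * v = v * u) → u = 1 ∨ u = z := fun u hu e =>
    (mem_zpowers_inv h.zz).1 (h.ctrQ.le ⟨hu, mem_cent.2 fun v hv => (e v hv).symm⟩)
  refine ⟨⟨h.zQ, h.z1, h.zz, c, fun u hu => k _ (mul_mem hu hu) fun v hv => ?_, fun u hu => mem_cent1.1 (h.le hu), k, ?_⟩,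
    fun u hu => h.cent ⟨cent_le_cent1 h.zQ hu, hu⟩, h.norm⟩
  · have e : u * v = ⁅u, v⁆ * v * u := by simp [commutatorElement_def]
    rcases c u hu v hv with e1 | e1 <;> rw [e1] at e
    · rw [mul_assoc, e, one_mul, ← mul_assoc, e, one_mul, mul_assoc]
    · rw [mul_assoc, e, ← mul_assoc, ← mul_assoc, mem_cent1.1 (h.le hu), mul_assoc z, e, ← mul_assoc, ← mul_assoc,
        h.zz, one_mul, mul_assoc]
  · by_contra! e
    exact h.Qne (h.ctrQ ▸ (inf_eq_left.2 fun u hu => mem_cent.2 fun v hv => e v hv u hu).symm)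
end K7
end H20.J4
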