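import Cfsg.Agent.H20.J4.XC

/-! The subgroup `2¹⁺¹².3` is normal in every overgroup with the same Sylow `3`-subgroup. -/

set_option autoImplicit false
set_option linter.unusedSectionVars false
set_option maxRecDepth 100000
open Subgroup H16 H19 H0 H0.TR
open scoped commutatorElement
namespace H20.J4
variable {G : Type*} [Group G]
local notation "cj" => H19.cj

def U8 : List ℕ := [0, 4096, 1, 2049, 2048, 4097, 6145, 6144]
def LU : List ℕ := [74, 75, 164, 194, 296, 316, 328, 592, 1038, 2048]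
theorem U8_a : ∀ a < 8192, (qf a a = 0 → a = 0 ∨ a = 4096 ∨ clq a = 1 ∨ clq a = 2) ∧
    ((∀ u ∈ LU, qf u a = qf a u) → a ∈ U8) ∧ (clq a = 1 → clq (qf a 1) = 1 → ∀ b ∈ U8, qf a b = qf b a) :=
  az_of (by decide +kernel)
theorem U8_b : (∀ u ∈ LU, u < 8192 ∧ clq u = 1 ∧ clq (qf u 1) = 1) ∧ (∀ b ∈ U8, b < 8192 ∧ apW PD [9, 9, 9, 9] b ∈ U8 ∧
    (b = 0 ∨ b = 4096 ∨ ∃ j : Fin 3, b = nth 0 U8 (j + 2) ∨ b = nth 0 U8 (j + 2) ^^^ 4096)) ∧
    (∀ i j : Fin 3, (nth 0 U8 (i + 2) = nth 0 U8 (j + 2) ∨ nth 0 U8 (i + 2) = nth 0 U8 (j + 2) ^^^ 4096) → i = j) ∧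
    PD 0 1 ∉ U8 ∧ ∀ b ∈ BQ, ∃ d ∈ [(74, 75), (121, 123), (75, 79), (67, 75), (105, 121), (79, 111), (41, 105), (37, 165),
      (37, 293), (41, 553), (82, 1106), (1, 2049)], d.1 < 8192 ∧ d.2 < 8192 ∧ clq d.1 = 1 ∧ clq d.2 = 1 ∧ qf d.1 d.2 = b := by
  decide +kernel
theorem three_comm {Ω : Type*} {σ τ : Ω → Ω} {d : Fin 3 → Ω} (inj : Function.Injective d) (hσ : ∀ i, ∃ j, σ (d i) = d j)
    (hτ : ∀ i, ∃ j, τ (d i) = d j) (s3 : ∀ w, σ (σ (σ w)) = w) (t3 : ∀ w, τ (τ (τ w)) = w) : σ (τ (d 0)) = τ (σ (d 0)) := by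
  choose f hf using hσ
  choose g hg using hτ
  rw [hf, hg, hf, hg, (by decide +kernel : ∀ f g : Fin 3 → Fin 3, (∀ i, f (f (f i)) = i) → (∀ i, g (g (g i)) = i) →
    f (g 0) = g (f 0)) f g (fun i => inj (by rw [← hf, ← hf, ← hf, s3])) fun i => inj (by rw [← hg, ← hg, ← hg, t3])]
/-- the elements of `Q` commuting with the neighbours of `s` -/
def TQs (Q H : Subgroup G) (s : G) : Subgroup G := Q ⊓ centralizer {u | u ∈ cl H s ∧ u * s ∈ cl H s}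
theorem TQs_norm [Finite G] {Q H : Subgroup G} {s b : G} (hb : b ∈ H) (h1 : b ∈ N(Q)) (h2 : b ∈ C[s]) : b ∈ N(TQs Q H s) :=
  mem_norm_of_cj_le fun w hw' => by
    obtain ⟨w, hw, rfl⟩ := mem_cj'.1 hw'
    refine ⟨conj_mem_of_norm h1 hw.1, fun u hu => ?_⟩
    have := hw.2 (b⁻¹ * u * b⁻¹⁻¹) ⟨cl_cj (inv_mem hb) hu.1, by
      have := cl_cj (inv_mem hb) hu.2
      rwa [← conj_mul, mem_cent1.1 (inv_mem h2), mul_inv_cancel_right] at this⟩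
    simpa [mul_assoc] using congrArg (b * · * b⁻¹) this

namespace SQ
variable [Finite G] {X : Type*} [Group X] [Finite X] {z p : X} {Q N : Subgroup X} {π : X → GPm} {g cq : ℕ → X}
  (h : SQ z p Q N π g cq) {f : X →* G} (inj : Function.Injective f) (hz : ∀ y : X, y ∈ C[z]) (le : LE (Q.map f) (f z))
  (h81 : ¬ 81 ∣ #C[f z])
include h inj hz le h81
local notation "H" => C[f z]
local notation "s" => f (cq 1)
local notation "T" => TQs (Q.map f) C[f z] (f (cq 1))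
theorem fH (y : X) : f y ∈ H := mem_cent1.2 (by rw [← map_mul, ← map_mul, mem_cent1.1 (hz y)])
theorem clH {u : G} : u ∈ cl H s ↔ u ∈ f '' cl C[z] (cq 1) := by
  have k : ∀ {a b}, b ∈ cl C[z] a → f b ∈ cl H (f a) := fun ⟨y, _, e⟩ => ⟨f y, h.fH inj hz le h81 y, by simp [← e]⟩
  refine ⟨fun hu => ?_, by rintro ⟨b, hb, rfl⟩; exact k hb⟩
  have k1 : cl H s ⊆ f '' (cl C[z] (cq 1) ∪ cl C[z] (cq 2423)) := by
    rintro _ ⟨b, hb, rfl⟩
    obtain ⟨_, h1, e⟩ := conj_mem_of_norm (le.norm hb) (mem_map_of_mem f (h.qc.mem 1))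
    obtain ⟨a, ha, rfl⟩ := h.qc.surj _ h1
    have s2 : cq 1 * cq 1 = 1 := by rw [h.qmul (by decide) (by decide), show qf 1 1 = 0 by decide +kernel, h.c0]
    rcases (U8_a a ha).1 (h.qc.inj _ (qf_lt ha ha) _ (by decide) (inj (by
      rw [← h.qmul ha ha, map_mul, e, conj_mul, ← map_mul, s2, h.c0]; simp))) with rfl | rfl | e1 | e1
    · rw [h.c0, map_one, eq_comm, conj_eq_one_iff, map_eq_one_iff f inj, ← h.c0] at e
      exact absurd (h.qc.inj _ (by decide) _ (by decide) e) (by decide)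
    · rw [h.qc.cz, eq_mul_inv_iff_mul_eq, ← mem_cent1.1 hb, mul_right_inj, ← h.qc.cz] at e
      exact absurd (h.qc.inj _ (by decide) _ (by decide) (inj e)) (by decide)
    · exact ⟨_, .inl (((h.clQ (by simp)).1 a ha).2 (e1.trans clq_c.2.2.2.2.1.symm)), e⟩
    · exact ⟨_, .inr (((h.clQ (by simp)).1 a ha).2 (e1.trans clq_c.2.2.2.2.2.1.symm)), e⟩
  obtain ⟨v, hv | hv, rfl⟩ := k1 hu
  · exact ⟨v, hv, rfl⟩
  have e := cl_card H s
  rw [Set.Subset.antisymm k1 (by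
      rintro _ ⟨w, hw | hw, rfl⟩
      exacts [k hw, cl_trans hu (k (cl_trans (cl_symm hv) hw))]), Set.ncard_image_of_injective _ inj,
    Set.ncard_union_eq (Set.disjoint_left.2 fun w h1 h2 => absurd (((h.clQ (by simp)).1 _ (by decide)).1
      (cl_trans h1 (cl_symm h2))) (by decide +kernel)), (h.clQ (by simp)).2, (h.clQ (by simp)).2, clq_c.2.2.2.2.1,
    clq_c.2.2.2.2.2.1, clq_c.1, clq_c.2.1] at e
  obtain ⟨m, c⟩ := card_dvd_of_le (show (C[z] ⊓ C[cq 1]).map f ≤ H ⊓ C[s] by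
    rintro _ ⟨y, hy, rfl⟩
    exact ⟨h.fH inj hz le h81 y, mem_cent1.2 (by rw [← map_mul, ← map_mul, mem_cent1.1 hy.2])⟩)
  rw [card_map_of_injective inj, h.card_cs] at c
  exact absurd (by rw [← e, c, ← mul_assoc]; exact Dvd.dvd.mul_right (by decide) m) h81
theorem clH' {u : G} : u ∈ cl H s ↔ ∃ a < 8192, clq a = 1 ∧ f (cq a) = u := by
  rw [h.clH inj hz le h81]
  refine ⟨?_, fun ⟨a, ha, e, e1⟩ => ⟨_, ((h.clQ (by simp)).1 a ha).2 (e.trans clq_c.2.2.2.2.1.symm), e1⟩⟩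
  rintro ⟨_, ⟨y, hy, rfl⟩, rfl⟩
  obtain ⟨a, ha, e⟩ := h.qc.surj _ (h.cjQ hy (h.qc.mem 1))
  exact ⟨a, ha, (h.clq_cj hy (by decide) ha e.symm).trans clq_c.2.2.2.2.1, congrArg f e⟩
theorem memT {w : G} : w ∈ T ↔ ∃ b ∈ U8, f (cq b) = w := by
  have cl := fun {u} => h.clH' inj hz le h81 (u := u)
  refine ⟨?_, ?_⟩
  · rintro ⟨⟨_, h1, rfl⟩, h2⟩
    obtain ⟨b, hb, rfl⟩ := h.qc.surj _ h1
    refine ⟨b, (U8_a b hb).2.1 fun u hu => ?_, rfl⟩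
    obtain ⟨l, e1, e2⟩ := U8_b.1 u hu
    have := h2 _ ⟨cl.2 ⟨u, l, e1, rfl⟩, cl.2 ⟨_, qf_lt (by decide) l, e2, by rw [← map_mul, h.qmul l (by decide)]⟩⟩
    rw [← map_mul, ← map_mul, h.qmul l hb, h.qmul hb l] at this
    exact h.qc.inj _ (qf_lt hb l) _ (qf_lt l hb) (inj this)
  · rintro ⟨b, hb, rfl⟩
    refine ⟨mem_map_of_mem f (h.qc.mem b), fun u hu => ?_⟩
    obtain ⟨a, ha, e1, rfl⟩ := cl.1 hu.1
    obtain ⟨c, hc, e2, e3⟩ := cl.1 hu.2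
    rw [← map_mul, h.qmul ha (by decide)] at e3
    have l := (U8_b.2.1 b hb).1
    rw [← map_mul, ← map_mul, h.qmul ha l, h.qmul l ha,
      (U8_a a ha).2.2 e1 (h.qc.inj _ hc _ (qf_lt (by decide) ha) (inj e3) ▸ e2) b hb]
theorem NT : N.map f ≤ N(T) := by
  rw [← h.N_eq, Subgroup.map_sup, MonoidHom.map_zpowers]
  refine sup_le (le.es.norms_of_le ((h.memT inj hz le h81).2 ⟨4096, by decide, by rw [h.qc.cz]⟩) inf_le_left)
    (zpowers_le.2 (mem_norm_of_cj_le fun w hw' => ?_))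
  obtain ⟨w, hw, rfl⟩ := mem_cj'.1 hw'
  obtain ⟨b, hb, rfl⟩ := (h.memT inj hz le h81).1 hw
  refine (h.memT inj hz le h81).2 ⟨_, (U8_b.2.1 b hb).2.1, ?_⟩
  rw [← (h.cjW (by decide) (U8_b.2.1 b hb).1).2]
  simp [evA_cons, evA_nil, hl_lo, ← h.p4, pow_succ]
theorem core {a : G} (ha : a ∈ H) : a * f p * a⁻¹ ∈ N(T) := by
  obtain ⟨_, ⟨k, hk, rfl⟩, e⟩ := (h.clH inj hz le h81).1 ⟨a⁻¹, inv_mem ha, rfl⟩
  have h1 := mul_mem ha (h.fH inj hz le h81 k)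
  have h2 := TQs_norm h1 (le.norm h1) (mem_cent1.2 (by
    rw [← mul_inv_eq_iff_eq_mul, show a * f k * s * (a * f k)⁻¹ = a * f (k * cq 1 * k⁻¹) * a⁻¹ by simp [mul_assoc], e]; group))
  simpa [mul_assoc] using mul_mem (mul_mem h2 (h.NT inj hz le h81 (mem_map_of_mem f
    (conj_mem_of_norm (h.normN.norm (inv_mem hk)) h.pN)))) (inv_mem h2)
theorem cm3 {u v : G} (hu : u ∈ H ⊓ N(T)) (hv : v ∈ H ⊓ N(T)) (u3 : u ^ 3 = 1) (v3 : v ^ 3 = 1) :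
    ⁅(v * u)⁻¹ * (u * v), s⁆ ∈ zpowers (f z) := by
  let pr : G → Set G := fun x => {x, x * f z}
  have zz := le.es.zz
  have k1 : ∀ u ∈ H, ∀ x, (u * · * u⁻¹) '' pr x = pr (u * x * u⁻¹) := fun u hu x => by
    rw [Set.image_pair, ← conj_mul, mem_cent1.1 hu, mul_inv_cancel_right]
  have l : ∀ i : Fin 3, nth 0 U8 (i + 2) ∈ U8 ∧ nth 0 U8 (i + 2) < 8192 ∧ nth 0 U8 (i + 2) ^^^ 4096 < 8192 ∧
    nth 0 U8 (i + 2) ≠ 0 ∧ nth 0 U8 (i + 2) ≠ 4096 := by decide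
  have k2 : ∀ u ∈ H ⊓ N(T), ∀ i : Fin 3, ∃ j : Fin 3, (u * · * u⁻¹) '' pr (f (cq (nth 0 U8 (i + 2)))) =
      pr (f (cq (nth 0 U8 (j + 2)))) := fun u hu i => by
    obtain ⟨b, hb, e⟩ := (h.memT inj hz le h81).1 (conj_mem_of_norm hu.2 ((h.memT inj hz le h81).2 ⟨_, (l i).1, rfl⟩))
    rw [k1 u hu.1, ← e]
    rcases (U8_b.2.1 b hb).2.2 with rfl | rfl | ⟨j, rfl | rfl⟩
    · rw [h.c0, map_one, eq_comm, conj_eq_one_iff, map_eq_one_iff f inj, ← h.c0] at e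
      exact absurd (h.qc.inj _ (l i).2.1 _ (by decide) e) (l i).2.2.2.1
    · rw [h.qc.cz, eq_mul_inv_iff_mul_eq, ← mem_cent1.1 hu.1, mul_right_inj, ← h.qc.cz] at e
      exact absurd (h.qc.inj _ (l i).2.1 _ (by decide) (inj e).symm) (l i).2.2.2.2
    · exact ⟨j, rfl⟩
    · exact ⟨j, by simp only [pr, h.cqz1 (l j).2.1, map_mul, mul_assoc, zz, mul_one, Set.pair_comm]⟩
  have k3 : ∀ u : G, u ^ 3 = 1 → ∀ w : Set G, (u * · * u⁻¹) '' ((u * · * u⁻¹) '' ((u * · * u⁻¹) '' w)) = w := fun u e w => by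
    rw [Set.image_image, Set.image_image, show (fun x => u * (u * (u * x * u⁻¹) * u⁻¹) * u⁻¹) = fun x => u ^ 3 * x * (u ^ 3)⁻¹
      by funext x; simp [pow_succ, mul_assoc], e]; simp
  have := three_comm (d := fun i : Fin 3 => pr (f (cq (nth 0 U8 (i + 2))))) (fun i j e => U8_b.2.2.1 i j (by
    rcases (e.le (Set.mem_insert _ _) : _ ∈ pr _) with e | e
    · exact .inl (h.qc.inj _ (l i).2.1 _ (l j).2.1 (inj e))
    · exact .inr (h.qc.inj _ (l i).2.1 _ (l j).2.2.1 (inj (by rw [h.cqz1 (l j).2.1, map_mul]; exact e)))))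
    (k2 u hu) (k2 v hv) (k3 u u3) (k3 v v3)
  rw [k1 v hv.1, k1 u hu.1, k1 u hu.1, k1 v hv.1] at this
  have e : ⁅(v * u)⁻¹ * (u * v), s⁆ = (v * u)⁻¹ * (u * (v * s * v⁻¹) * u⁻¹) * (v * u) * s⁻¹ := by
    simp [commutatorElement_def, mul_assoc]
  rcases (this.le (Set.mem_insert _ _) : _ ∈ pr _) with e1 | e1
  · rw [e, show u * (v * s * v⁻¹) * u⁻¹ = v * (u * s * u⁻¹) * v⁻¹ from e1]; simp [mul_assoc]
  · rw [e, show u * (v * s * v⁻¹) * u⁻¹ = v * (u * s * u⁻¹) * v⁻¹ * f z from e1, mul_assoc _ _ (v * u), mul_assoc _ (f z),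
      ← mem_cent1.1 (mul_mem hv.1 hu.1), show (v * u)⁻¹ * (v * (u * s * u⁻¹) * v⁻¹ * (v * u * f z)) * s⁻¹ = s * f z * s⁻¹ by group,
      mem_cent1.1 (h.fH inj hz le h81 _), mul_inv_cancel_right]
    exact mem_zpowers _
theorem inQ {a : G} (ha : a ∈ H) : (a * f p * a⁻¹ * f p)⁻¹ * (f p * (a * f p * a⁻¹)) ∈ Q.map f := by
  have fH := h.fH inj hz le h81
  have p3 : ∀ a : G, (a * f p * a⁻¹) ^ 3 = 1 := fun a => by rw [conj_pow, ← map_pow, h.p3']; simp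
  have cH : ∀ a ∈ H, a * f p * a⁻¹ ∈ H ⊓ N(T) := fun a ha =>
    mem_inf.2 ⟨mul_mem (mul_mem ha (fH p)) (inv_mem ha), h.core inj hz le h81 ha⟩
  have hv : a * f p * a⁻¹ ∈ H := (cH a ha).1
  have hc := mul_mem (inv_mem (mul_mem hv (fH p))) (mul_mem (fH p) hv)
  obtain ⟨c, ec⟩ : ∃ c, c = (a * f p * a⁻¹ * f p)⁻¹ * (f p * (a * f p * a⁻¹)) := ⟨_, rfl⟩
  have k : ∀ a < 8192, clq a = 1 → cq a ∈ (Fx le.es c).comap f := fun b hb e => ⟨mem_map_of_mem f (h.qc.mem b), by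
    obtain ⟨d, hd, e⟩ := (h.clH' inj hz le h81).2 ⟨b, hb, e, rfl⟩
    have := h.cm3 inj hz le h81 (cH _ (inv_mem hd)) (cH _ (mul_mem (inv_mem hd) ha)) (p3 _) (p3 _)
    have := conj_mem_of_norm (cent1_le_norm_zpowers _ hd) this
    rw [← e, ec]; simpa [commutatorElement_def, mul_assoc] using this⟩
  rw [← ec] at hc ⊢
  refine le.mem_of_triv hc fun y hy => (map_le_iff_le_comap.2 (h.Q_le (S := (Fx le.es c).comap f)
    ⟨mem_map_of_mem f h.le.es.zQ, by rw [comm_eq_one.2 (mem_cent1.1 hc)]; exact one_mem _⟩ fun b hb => ?_) hy).2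
  obtain ⟨d, -, l1, l2, e1, e2, rfl⟩ := U8_b.2.2.2.2 b hb
  exact h.qmul l1 l2 ▸ mul_mem (k _ l1 e1) (k _ l2 e2)
theorem fin (hN : H ⊓ N(N.map f) ≤ f.range) {a : G} (ha : a ∈ H) : a * f p * a⁻¹ ∈ N.map f := by
  have fH := h.fH inj hz le h81
  have p3 : ∀ a : G, (a * f p * a⁻¹) ^ 3 = 1 := fun a => by rw [conj_pow, ← map_pow, h.p3']; simp
  have hv : a * f p * a⁻¹ ∈ H := mul_mem (mul_mem ha (fH p)) (inv_mem ha)
  have e1 := h.inQ inj hz le h81 ha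
  obtain ⟨y, e⟩ := hN (mem_inf.2 ⟨hv, inv_mem_iff.1 (mem_norm_of_cj_le (by
    rw [← h.N_eq, Subgroup.map_sup, MonoidHom.map_zpowers, cj_sup, cj_of_mem_norm (inv_mem (le.norm hv)), cj_zpowers]
    refine sup_le le_sup_left (zpowers_le.2 ?_)
    simpa [mul_assoc] using mul_mem (mem_sup_right (mem_zpowers (f p))) (mem_sup_left e1)))⟩)
  let Y := (N(T).comap f).normalCore
  have yY : y ∈ Y := fun k => by
    simpa [e, mul_assoc] using h.core inj hz le h81 (mul_mem (fH k) ha)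
  have y3 : π y ^ 3 = 1 := by rw [← h.pow (hz y), inj (show f (y ^ 3) = f 1 by rw [map_pow, e, p3, map_one]), h.one]
  have yM : π y ∈ M22 := by_contra fun n => n (by
    have := out_mul (h.mem y (hz y)) (h.mem y (hz y)) n n
    rwa [show π y * π y = (π y)⁻¹ from eq_inv_of_mul_eq_one_left (pow_three' (π y) ▸ y3), inv_mem_iff] at this)
  rcases simp22 (D := h.img Y ⊓ M22) inf_le_right (norms_inf (fun m hm => by
    obtain ⟨k, hk, rfl⟩ := h.surj m (M22_le hm)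
    rw [mem_norm_iff_cj, ← h.img_cj hk, cj_of_mem_norm (normalizer_eq_top Y ▸ mem_top k)]) le_normalizer) with e2 | e2
  · exact ⟨y, (h.ker y (hz y)).1 (e2.le ⟨h.mem_img.2 ⟨y, yY, hz y, rfl⟩, yM⟩), e⟩
  obtain ⟨w, hw, -, e3⟩ := h.mem_img.1 (e2.ge (gen_a11 ▸ mem_gen a0 (by decide : 0 < 11))).1
  have := mul_mem (h.NT inj hz le h81 (mem_map_of_mem f (h.div_mem (hz (g 0)) (hz w) ((h.gπ 0 (by decide)).trans e3.symm))))
    (normalCore_le (N(T).comap f) hw : f w ∈ N(T))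
  rw [← map_mul, inv_mul_cancel_right] at this
  obtain ⟨b, hb, e4⟩ := (h.memT inj hz le h81).1 (conj_mem_of_norm this ((h.memT inj hz le h81).2 ⟨1, by decide, rfl⟩))
  obtain ⟨l, e5⟩ := h.cjD (k := 0) (a := 1) (by decide) (by decide)
  rw [hl_lo (by decide)] at e5
  rw [← map_inv, ← map_mul, ← map_mul, e5] at e4
  exact absurd (h.qc.inj _ (U8_b.2.1 b hb).1 _ l (inj e4) ▸ hb) U8_b.2.2.2.1
end SQ
end H20.J4
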