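import Cfsg.Agent.H20.J4.XD
import Cfsg.Prelude.Def_CaseTheorems

/-! Janko-four type from the centralizer `6.M₂₂` of an element of order `3`. -/

set_option autoImplicit false
set_option linter.unusedSectionVars false
set_option maxRecDepth 100000
open Subgroup H16 H19 H0 H0.TR
open scoped commutatorElement
namespace H20.J4
variable {G : Type*} [Group G]
local notation "cj" => H19.cj

theorem quot_aut {L : Type*} [Group L] [Finite L] {M : Subgroup L} (N : Subgroup L) [N.Normal] [M.Normal] (hNM : N ≤ M)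
    (hM : M.index = 2) (hout : ∀ c, (∀ m ∈ M, c * m * c⁻¹ * m⁻¹ ∈ N) → c ∈ M) (φ : M ⧸ N.subgroupOf M ≃* M22) :
    Nonempty (L ⧸ N ≃* AA) := by
  let M' := M.map (QuotientGroup.mk' N)
  have : M'.Normal := Normal.map inferInstance _ (QuotientGroup.mk'_surjective N)
  let f : M →* M' := (QuotientGroup.mk' N).subgroupMap M
  have f1 : f.ker = N.subgroupOf M := by
    ext x; rw [MonoidHom.mem_ker, Subtype.ext_iff]; exact QuotientGroup.eq_one_iff _
  let ψ : M' ≃* M22 := (QuotientGroup.quotientKerEquivOfSurjective f (MonoidHom.subgroupMap_surjective _ _)).symm.trans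
    ((QuotientGroup.quotientMulEquivOfEq f1).trans φ)
  have inj : Function.Injective (MulAut.conjNormal (H := M')) := (injective_iff_map_eq_one _).2 fun c hc => by
    obtain ⟨c, rfl⟩ := QuotientGroup.mk'_surjective N c
    have h1 : ∀ m : M', QuotientGroup.mk' N c * m * (QuotientGroup.mk' N c)⁻¹ = m := fun m =>
      congrArg Subtype.val (DFunLike.congr_fun hc m)
    have h2 : c ∈ M := hout c fun m hm => (QuotientGroup.eq_one_iff _).1 (by
      have := h1 ⟨_, mem_map_of_mem _ hm⟩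
      simpa [mul_inv_eq_one] using this)
    have h3 : ψ (f ⟨c, h2⟩) = 1 := Subtype.ext (cent_M22 (M22_le (ψ _).2) (mem_cent.2 fun y hy => by
      obtain ⟨m, e⟩ := ψ.surjective ⟨y, hy⟩
      have : m * f ⟨c, h2⟩ = f ⟨c, h2⟩ * m := Subtype.ext (mul_inv_eq_iff_eq_mul.1 (h1 m)).symm
      have := congrArg ψ this
      rw [map_mul, map_mul, e] at this
      exact congrArg Subtype.val this))
    exact congrArg Subtype.val ((map_eq_one_iff _ ψ.injective).1 h3)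
  have c1 := M'.index_mul_card
  rw [index_map, QuotientGroup.ker_mk', sup_eq_left.2 hNM, QuotientGroup.range_mk', index_top, hM,
    Nat.card_congr ψ.toEquiv, H15.MM22.card] at c1
  let θ := (MulAut.congr (ψ.trans (MulEquiv.subgroupCongr M22_eq))).trans aut_M22.some.symm
  exact ⟨(MulEquiv.ofBijective (MulAut.conjNormal (H := M')) ((Nat.bijective_iff_injective_and_card _).2 ⟨inj, by
    rw [← c1, Nat.card_congr θ.toEquiv, card_AA]⟩)).trans θ⟩
theorem ext_fun {L : Subgroup G} (f : L →* GPm) : ∃ ρ : G → GPm, ∀ a (h : a ∈ L), ρ a = f ⟨a, h⟩ := by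
  classical
  exact ⟨fun x => if hx : x ∈ L then f ⟨x, hx⟩ else 1, fun a h => dif_pos h⟩
theorem ext_hom {Q L : Subgroup G} {ρ : G → GPm} (mul : ∀ a ∈ L, ∀ b ∈ L, ρ (a * b) = ρ a * ρ b)
    (hk : ∀ a ∈ L, a ∈ Q → ρ a = 1) : ∃ π : G → GPm, ∀ q ∈ Q, ∀ a ∈ L, π (q * a) = ρ a := by
  classical
  refine ⟨fun y => if h : ∃ a ∈ L, y * a⁻¹ ∈ Q then ρ h.choose else 1, fun q hq a ha => ?_⟩
  have e : ∃ b ∈ L, q * a * b⁻¹ ∈ Q := ⟨a, ha, by rwa [mul_inv_cancel_right]⟩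
  have h1 := mul_mem ha (inv_mem e.choose_spec.1)
  have := mul _ h1 _ e.choose_spec.1
  rw [hk _ h1 ((Subgroup.mul_mem_cancel_left _ hq).1 (mul_assoc q a _ ▸ e.choose_spec.2)), inv_mul_cancel_right, one_mul] at this
  exact (dif_pos e).trans this.symm
theorem es_of_map {X : Type*} [Group X] {f : X →* G} (inj : Function.Injective f) {Q : Subgroup X} {z : X}
    (h : ES (Q.map f) (f z)) : ES Q z := by
  have m : ∀ {x}, x ∈ Q → f x ∈ Q.map f := mem_map_of_mem f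
  refine ⟨(mem_map_iff_mem inj).1 h.zQ, fun e => h.z1 (by rw [e, map_one]), inj (by rw [map_mul, h.zz, map_one]),
    fun x hx y hy => (h.comm _ (m hx) _ (m hy)).imp (fun e => inj ?_) fun e => inj ?_,
    fun x hx => (h.sq _ (m hx)).imp (fun e => inj ?_) fun e => inj ?_, fun x hx => inj ?_,
    fun x hx e => (h.ctr _ (m hx) ?_).imp (fun e => inj ?_) fun e => inj e, ?_⟩
  · rw [map_commutatorElement, e, map_one]
  · rw [map_commutatorElement, e]
  · rw [map_mul, e, map_one]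
  · rw [map_mul, e]
  · rw [map_mul, map_mul, h.cent _ (m hx)]
  · rintro _ ⟨y, hy, rfl⟩; rw [← map_mul, e y hy, map_mul]
  · rw [e, map_one]
  · obtain ⟨_, ⟨x, hx, rfl⟩, _, ⟨y, hy, rfl⟩, e⟩ := h.nonab
    exact ⟨x, hx, y, hy, fun e1 => e (by rw [← map_mul, e1, map_mul])⟩

namespace K7
variable [Finite G] {x z g : G} {ξ : G → GPm} {Q : Subgroup G} (h : K7 x z ξ g Q)
include h
local notation "Z6" => zpowers (z * x)
local notation "N1" => N(zpowers x)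
theorem xreal : ∃ t ∈ N1, t * x * t⁻¹ = x⁻¹ := by
  obtain ⟨y, -, e⟩ := h.real h.ga h.oa h.gn
  have e1 : g⁻¹ * y * g * x * (g⁻¹ * y * g)⁻¹ = x⁻¹ := by
    simpa [mul_assoc] using congrArg (g⁻¹ * · * g) e
  exact ⟨_, mem_norm_iff_cj.2 (by rw [cj_zpowers, e1, zpowers_inv]), e1⟩
theorem xne : x ≠ x⁻¹ := fun e => absurd (h.x3 ▸ orderOf_dvd_of_pow_eq_one (show x ^ 2 = 1 by
  rw [sq, mul_eq_one_iff_eq_inv, ← e])) (by decide)
theorem idx : (C[x].subgroupOf N1).index = 2 := by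
  classical
  obtain ⟨t, ht, e⟩ := h.xreal
  refine index_eq_two_iff.2 ⟨⟨t, ht⟩, fun b => ?_⟩
  have k : b * x * (b : G)⁻¹ = x ∨ b * x * (b : G)⁻¹ = x⁻¹ := by
    obtain ⟨j, hj, e1⟩ := (mem_powers_iff_mem_range_orderOf (x := x)).1
      (mem_powers_iff_mem_zpowers.2 (conj_mem_of_norm b.2 (mem_zpowers x))) |> Finset.mem_image.1
    rw [h.x3, Finset.mem_range] at hj
    obtain rfl | rfl | rfl : j = 0 ∨ j = 1 ∨ j = 2 := by omega
    · rw [pow_zero, eq_comm, conj_eq_one_iff] at e1; exact absurd h.x3 (by simp [e1])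
    · exact .inl (by rw [← e1, pow_one])
    · exact .inr (by rw [← e1, eq_inv_iff_mul_eq_one, ← pow_succ, h.x3'])
  have k1 : (b * t : G) ∈ C[x] ↔ b * x * (b : G)⁻¹ = x⁻¹ := by
    rw [mem_cent1, ← mul_inv_eq_iff_eq_mul, ← inv_inj, show ((b : G) * t * x * (b * t)⁻¹) = b * (t * x * t⁻¹) * (b : G)⁻¹ by group, e]
    simp [mul_assoc]
  have k2 : (b : G) ∈ C[x] ↔ b * x * (b : G)⁻¹ = x := by rw [mem_cent1, mul_inv_eq_iff_eq_mul]
  show Xor ((b * t : G) ∈ C[x]) ((b : G) ∈ C[x])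
  rw [k1, k2]
  exact k.symm.imp (fun e => ⟨e, fun e1 => h.xne (e1.symm.trans e)⟩) fun e => ⟨e, fun e1 => h.xne (e.symm.trans e1)⟩
theorem nZ : N1 ≤ N(Z6) := fun n hn => mem_norm_of_cj_le (by
  rw [cj_zpowers, zpowers_le, ← conj_mul, mem_cent1.1 (h.NH hn), mul_inv_cancel_right]
  exact mul_mem h.zZ (zpowers_le.2 h.xZ (conj_mem_of_norm hn (mem_zpowers x))))
theorem hout {c : G} (hc : ∀ a ∈ C[x], c * a * c⁻¹ * a⁻¹ ∈ Z6) : c ∈ C[x] :=
  mem_cent1_symm.1 ((commutator_le (H₃ := C[c])).2 (fun a ha b hb => by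
    have h1 := hc a ha
    have h2 := hc b hb
    obtain ⟨u, e1⟩ : ∃ u, u = c * a * c⁻¹ * a⁻¹ := ⟨_, rfl⟩
    obtain ⟨v, e2⟩ : ∃ u, u = c * b * c⁻¹ * b⁻¹ := ⟨_, rfl⟩
    rw [← e1] at h1; rw [← e2] at h2
    rw [mem_cent1_symm, mem_cent1, ← mul_inv_eq_iff_eq_mul, show c * ⁅a, b⁆ * c⁻¹ = u * (a * (v * b) * a⁻¹) * u⁻¹ * (v * b)⁻¹ by
      rw [e1, e2, commutatorElement_def]; group, ← h.Zc h1 (mul_mem (mul_mem ha (mul_mem (h.Zle h2) hb)) (inv_mem ha)),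
      mul_inv_cancel_right, ← h.Zc h2 hb, ← mul_assoc a, mul_assoc _ v, ← h.Zc h2 (inv_mem ha), commutatorElement_def]
    group) (h.perf (mem_cent1_self x)))
theorem rho : ∃ ρ : G → GPm, (∀ a ∈ N1, ∀ b ∈ N1, ρ (a * b) = ρ a * ρ b) ∧ (∀ a ∈ N1, ρ a = 1 ↔ a ∈ Z6) ∧
    (∀ a ∈ N1, ρ a ∈ AA) ∧ ∀ m ∈ AA, ∃ a ∈ N1, ρ a = m := by
  have l := cent1_le_norm_zpowers x
  have := (normal_subgroupOf_iff_le_normalizer (h.Zle.trans l)).2 h.nZ
  have := (normal_subgroupOf_iff_le_normalizer l).2 (cent_zpowers x ▸ norm_le_norm_cent _)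
  let φ := (h.hom.codRestrict M22 fun a => h.mem a a.2).comp (subgroupOfEquivOfLe l).toMonoidHom
  have k1 : ((Z6).subgroupOf N1).subgroupOf (C[x].subgroupOf N1) = φ.ker := by
    ext a; exact (h.ker _ a.2).symm.trans (Subtype.ext_iff (a1 := φ a) (a2 := 1)).symm
  have k2 : Function.Surjective φ := fun m => by
    obtain ⟨a, ha, e⟩ := h.surj m m.2
    exact ⟨⟨⟨a, l ha⟩, ha⟩, Subtype.ext e⟩
  obtain ⟨e⟩ := quot_aut (M := C[x].subgroupOf N1) ((Z6).subgroupOf N1) (comap_mono h.Zle) h.idx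
    (fun c hc => h.hout fun a ha => hc ⟨a, l ha⟩ ha) ((QuotientGroup.quotientMulEquivOfEq k1).trans
      (QuotientGroup.quotientKerEquivOfSurjective φ k2))
  obtain ⟨ρ, e1⟩ := ext_fun (AA.subtype.comp (e.toMonoidHom.comp (QuotientGroup.mk' _)))
  refine ⟨ρ, fun x hx y hy => ?_, fun x hx => ?_, fun x hx => ?_, fun a ha => ?_⟩
  · rw [e1 _ hx, e1 _ hy, e1 _ (mul_mem hx hy), ← map_mul]; rfl
  · rw [e1 _ hx]; simp [mem_subgroupOf]
  · rw [e1 _ hx]; exact SetLike.coe_mem _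
  · obtain ⟨x, hx⟩ := (e.surjective.comp (QuotientGroup.mk'_surjective _)) ⟨a, ha⟩
    exact ⟨x, x.2, by rw [e1 _ x.2]; exact congrArg Subtype.val hx⟩
local notation "N0" => (Q ⊔ zpowers x : Subgroup G)
local notation "HH" => (Q ⊔ N(zpowers x) : Subgroup G)
theorem nQ : N1 ≤ N(Q) := h.NH.trans h.norm
theorem QP : Q ⊓ zpowers x = ⊥ := by
  rw [inf_comm]; exact inf_eq_bot_of_prime (h.cP ▸ Nat.prime_three) fun e => h.xQ (e (mem_zpowers x))
theorem cN : #N0 = 3 * #Q := by rw [card_sup_of_disjoint (le_normalizer.trans h.nQ) h.QP, h.cP, mul_comm]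
theorem QN1 {a : G} (ha : a ∈ N1) (hq : a ∈ Q) : a ∈ zpowers z := (h.CQ le_rfl h.zQ).le ⟨hq, mem_cent1.2 (comm_eq_one.1
  (mem_bot.1 (h.QP.le (mem_inf.2 ⟨by
    simpa [commutatorElement_def, mul_assoc] using mul_mem hq (conj_mem_of_norm (h.norm h.xH) (inv_mem hq)),
    mul_mem (conj_mem_of_norm ha (mem_zpowers x)) (inv_mem (mem_zpowers x))⟩))))⟩
theorem HHle : HH ≤ C[z] := sup_le h.le h.NH
theorem N0le : N0 ≤ HH := sup_le_sup_left le_normalizer _
theorem pi : ∃ π : G → GPm, (∀ a ∈ HH, ∀ b ∈ HH, π (a * b) = π a * π b) ∧ (∀ a ∈ HH, π a = 1 ↔ a ∈ N0) ∧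
    (∀ a ∈ HH, π a ∈ AA) ∧ ∀ m ∈ AA, ∃ a ∈ HH, π a = m := by
  obtain ⟨ρ, h1, h2, h3, h4⟩ := h.rho
  have zl := zpowers_le.2 h.zZ
  obtain ⟨π, e⟩ := ext_hom h1 fun a ha hq => (h2 a ha).2 (zl (h.QN1 ha hq))
  refine ⟨π, fun a ha' b hb' => ?_, fun a ha' => ?_, fun a ha' => ?_, fun m hm => ?_⟩
  · obtain ⟨q, hq, a, ha, rfl⟩ := (mem_sup_of_norm h.nQ).1 ha'
    obtain ⟨r, hr, b, hb, rfl⟩ := (mem_sup_of_norm h.nQ).1 hb'
    rw [show q * a * (r * b) = q * (a * r * a⁻¹) * (a * b) by group,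
      e _ (mul_mem hq (conj_mem_of_norm (h.nQ ha) hr)) _ (mul_mem ha hb), e q hq a ha, e r hr b hb, h1 a ha b hb]
  · obtain ⟨q, hq, a, ha, rfl⟩ := (mem_sup_of_norm h.nQ).1 ha'
    rw [e q hq a ha, h2 a ha, Subgroup.mul_mem_cancel_left _ (mem_sup_left hq)]
    refine ⟨fun e => zpowers_le.2 (mul_mem (mem_sup_left h.zQ) (mem_sup_right (mem_zpowers x))) e, fun e => ?_⟩
    obtain ⟨r, hr, y, hy, rfl⟩ := (mem_sup_of_norm (le_normalizer.trans h.nQ)).1 e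
    exact mul_mem (zl (h.QN1 ((Subgroup.mul_mem_cancel_right _ (le_normalizer hy)).1 ha) hr)) (zpowers_le.2 h.xZ hy)
  · obtain ⟨q, hq, a, ha, rfl⟩ := (mem_sup_of_norm h.nQ).1 ha'
    rw [e q hq a ha]; exact h3 a ha
  · obtain ⟨a, ha, rfl⟩ := h4 m hm
    exact ⟨a, mem_sup_right ha, by simpa using e 1 (one_mem _) a ha⟩
theorem N0n : C[z] ≤ N(N0) ∧ C[z] ≤ HH := by
  obtain ⟨π, h1, h2, h3, h4⟩ := h.pi
  let z' : HH := ⟨z, mem_sup_left h.zQ⟩
  let x' : HH := ⟨x, h.N0le (mem_sup_right (mem_zpowers x))⟩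
  have inj := subtype_injective HH
  have eQ : (Q.subgroupOf HH).map (HH).subtype = Q := map_subgroupOf_eq_of_le le_sup_left
  have eN : ((N0).subgroupOf HH).map (HH).subtype = N0 := map_subgroupOf_eq_of_le h.N0le
  have eC : (C[x].subgroupOf HH).map (HH).subtype = C[x] :=
    map_subgroupOf_eq_of_le ((cent1_le_norm_zpowers x).trans le_sup_right)
  have hz : ∀ y : HH, y ∈ C[z'] := fun y => mem_cent1.2 (Subtype.ext (mem_cent1.1 (h.HHle y.2)))
  have cQ := card_subgroupOf' (le_sup_left : Q ≤ HH)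
  have k0 : Hy0 z' x' (Q.subgroupOf HH) ((N0).subgroupOf HH) fun a => π a :=
    ⟨⟨es_of_map inj (eQ.symm ▸ h.lE.es), fun a ha => h.lE.cent (mem_cent.2 fun b hb =>
        congrArg Subtype.val (mem_cent.1 ha ⟨b, mem_sup_left hb⟩ hb)), fun a _ => mem_norm_of_cj_le fun b hb => by
        obtain ⟨c, hc, rfl⟩ := mem_cj'.1 hb
        exact conj_mem_of_norm (H := Q) (h.norm (h.HHle a.2)) hc⟩, cQ.trans h.cQ.1, comap_mono le_sup_left, fun y _ => hz y,
      by rw [card_subgroupOf' h.N0le, cQ, h.cN], mem_sup_right (mem_zpowers x), (orderOf_injective _ inj x').symm.trans h.x3,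
      fun a _ b _ => h1 a a.2 b b.2, fun a _ => h2 a a.2, fun a _ => h3 a a.2, fun m hm => by
        obtain ⟨a, ha, e⟩ := h4 m hm
        exact ⟨⟨a, ha⟩, hz _, e⟩⟩
  have pf : C[x].subgroupOf HH ≤ ⁅C[x].subgroupOf HH, C[x].subgroupOf HH⁆ := by
    rw [← map_le_map_iff_of_injective inj, map_commutator, eC]; exact h.perf
  obtain ⟨p, g', ep, st⟩ := (show Hy z' x' _ _ _ from ⟨k0, fun q hq e => (mem_map_iff_mem inj).1 (by
      rw [MonoidHom.map_zpowers]; exact (h.CQ le_rfl h.zQ).le ⟨hq, mem_cent1.2 (congrArg Subtype.val e)⟩),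
    C[x].subgroupOf HH, fun y hy => ⟨hz y, mem_cent1.2 (Subtype.ext (mem_cent1.1 hy))⟩, fun y hy => (k0.mem_M0.1 (k0.comm_le
      (commutator_mono (fun y _ => hz y) (fun y _ => hz y) (pf hy)))).2, pf (mem_cent1_self x)⟩).exists_st
  obtain ⟨cq, qc⟩ := st.exists_qc
  have ep' : zpowers (p : G) = zpowers x := by
    have := congrArg (map (HH).subtype) ep
    rwa [MonoidHom.map_zpowers, MonoidHom.map_zpowers] at this
  have fr : C[z] ⊓ N(N0) ≤ HH := by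
    have := card_mul_relIndex (le_sup_right : zpowers x ≤ N0)
    rw [h.cN, h.cP, h.cQ.1, mul_right_inj' (by decide)] at this
    rw [← (syl_mk le_sup_right (PiN.of_card Nat.prime_three h.cP) (by rw [this]; decide)).frattini
      (M := C[z] ⊓ N(N0)) ⟨le_inf (h.N0le.trans h.HHle) le_normalizer, inf_le_right⟩]
    exact sup_le h.N0le (inf_le_right.trans le_sup_right)
  have k : C[z] ≤ N(N0) := fun a ha => mem_norm_of_cj_le (by
    rw [cj_sup, cj_of_mem_norm (h.norm ha), ← ep', cj_zpowers, ep']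
    refine sup_le le_sup_left (zpowers_le.2 ?_)
    have := SQ.fin ⟨st, qc⟩ inj hz (eQ.symm ▸ h.lE) (h.no81 _) (by rw [eN, range_subtype]; exact fr) ha
    rwa [eN] at this)
  exact ⟨k, (le_inf le_rfl k).trans fr⟩
theorem jt (hQ : Cfsg.twoCoreOfCentralizer z = Q) : Cfsg.IsOfJankoFourTypeWith z (zpowers x) := by
  obtain ⟨π, h1, h2, h3, h4⟩ := h.pi
  obtain ⟨k1, k2⟩ := h.N0n
  have l := h.N0le.trans h.HHle
  have := (normal_subgroupOf_iff_le_normalizer l).2 k1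
  let φ : C[z] →* AA := MonoidHom.mk' (fun a => ⟨π a, h3 a (k2 a.2)⟩) fun a b => Subtype.ext (h1 _ (k2 a.2) _ (k2 b.2))
  have e1 : (N0).subgroupOf C[z] = φ.ker := by
    ext a; exact (h2 _ (k2 a.2)).symm.trans (Subtype.ext_iff (a1 := φ a) (a2 := 1)).symm
  have e2 : Function.Surjective φ := fun m => by
    obtain ⟨a, ha, e⟩ := h4 m m.2
    exact ⟨⟨a, h.HHle ha⟩, Subtype.ext e⟩
  obtain ⟨t, ht, e⟩ := h.xreal
  unfold Cfsg.IsOfJankoFourTypeWith
  rw [hQ, cent_zpowers, inf_eq_right.2 h.zC]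
  exact ⟨(Nat.card_zpowers z).symm.trans h.cz, h.lE.es.extraspecial, h.cQ.1, h.cent, ⟨_, le_sup_left, l, k1, h.cN, ⟨this,
    ⟨(QuotientGroup.quotientMulEquivOfEq e1).trans ((QuotientGroup.quotientKerEquivOfSurjective φ e2).trans aut_M22.some)⟩⟩,
    le_sup_right⟩, h.cP, h.CQ le_rfl h.zQ, fun e1 => h.xne ((mul_inv_eq_iff_eq_mul.2 (mem_cent1.1 (e1.le ⟨h.NH ht, ht⟩))).symm.trans e),
    (zpowers_le.2 (mem_cent1_self x)).trans h.perf⟩
end K7
theorem k6_of [Finite G] {x : G} (hx : orderOf x = 3) (hp : ⁅(⊤ : Subgroup C[x]), (⊤ : Subgroup C[x])⁆ = ⊤)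
    (hZ : IsCyclic (center C[x])) (hc : #(center C[x]) = 6) (e : C[x] ⧸ center C[x] ≃* Cfsg.Spor.M22) : ∃ z ξ, K6 x z ξ := by
  obtain ⟨c, o⟩ := IsCyclic.exists_ofOrder_eq_natCard (α := center C[x])
  rw [hc, ← orderOf_coe, ← orderOf_coe] at o
  obtain ⟨z, ez⟩ : ∃ z, z = ((c : C[x]) : G) ^ 3 := ⟨_, rfl⟩
  have zx : z ∈ C[x] := ez ▸ pow_mem c.1.2 3
  have oz : orderOf z = 2 := by rw [ez, orderOf_pow, o]; decide
  have zc : (⟨z, zx⟩ : C[x]) ∈ center C[x] := by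
    have := pow_mem c.2 3
    rwa [show (c : C[x]) ^ 3 = ⟨z, zx⟩ from Subtype.ext ez.symm] at this
  have e1 : zpowers (z * x) = (center C[x]).map C[x].subtype := eq_of_le_of_card_eq (zpowers_le.2 (mul_mem ⟨_, zc, rfl⟩
    ⟨⟨x, mem_cent1_self x⟩, mem_center_iff.2 fun y => Subtype.ext (mem_cent1.1 y.2), rfl⟩)) (by
      rw [card_map_of_injective (subtype_injective _), hc, Nat.card_zpowers,
        (show Commute z x from mem_cent1.1 zx).orderOf_mul_eq_mul_orderOf_of_coprime (by rw [oz, hx]; decide), oz, hx])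
  obtain ⟨ξ, e2⟩ := ext_fun ((Cfsg.Spor.M22).subtype.comp (e.toMonoidHom.comp (QuotientGroup.mk' _)))
  refine ⟨z, ξ, hx, by rw [← sq, ← oz, pow_orderOf_eq_one], ne_one_of_order oz, zx,
    fun y hy => mem_cent1.2 (congrArg Subtype.val (mem_center_iff.1 zc ⟨y, hy⟩)), fun x hx y hy => ?_, fun x hx => ?_,
    fun x hx => ?_, fun a ha => ?_, ?_⟩
  · rw [e2 _ hx, e2 _ hy, e2 _ (mul_mem hx hy), ← map_mul]; rfl
  · rw [e2 _ hx, e1]
    exact .trans (by simp) (mem_map_iff_mem (subtype_injective _) (x := ⟨x, hx⟩)).symm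
  · rw [e2 _ hx, M22_eq]; exact SetLike.coe_mem _
  · obtain ⟨x, hx⟩ := (e.surjective.comp (QuotientGroup.mk'_surjective _)) ⟨a, M22_eq ▸ ha⟩
    exact ⟨x, x.2, by rw [e2 _ x.2]; exact congrArg Subtype.val hx⟩
  · have := congrArg (map C[x].subtype) hp
    rw [map_commutator, ← MonoidHom.range_eq_map, range_subtype] at this
    exact this.ge
theorem jt_of [Finite G] (h2 : Cfsg.IsCharacteristicTwoType G) {x z : G} {ξ : G → GPm} (h : K6 x z ξ) (S : Sylow 3 G) (g : G)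
    (h3 : cj g Z(S) ≤ S) (h4 : cj g Z(S) ≠ Z(S)) : Cfsg.IsOfJankoFourType G := by
  have : Fact (Nat.Prime 3) := ⟨by norm_num⟩
  obtain ⟨P, hP⟩ := exists_syl 3 C[x]
  obtain ⟨e1, -, -, hT⟩ := h.syl hP
  obtain ⟨k, -, e⟩ := hT.sconj (syl_sylow_top S)
  have e2 : Z((S : Subgroup G)) = cj k (zpowers x) := by rw [← e, ← e1, cj_inf, cj_cent]
  rw [e2, ← cj_mul] at h3 h4
  have e3 : N(zpowers z) = C[z] := le_antisymm (fun a ha => mem_cent1.2 (mul_inv_eq_iff_eq_mul.1 (((mem_zpowers_inv h.zz).1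
    (conj_mem_of_norm ha (mem_zpowers z))).resolve_left (mt conj_eq_one_iff.1 h.z1)))) (cent1_le_norm_zpowers z)
  have e4 := pCore_map_eq Nat.prime_two C[z]
  refine ⟨z, _, K7.jt (g := k⁻¹ * g * k) ⟨h, hP.le ?_, fun e5 => h4 ?_, Oc_pi _ _, Oc_le _ _, Oc_norm _ _, fun a ha => ?_⟩ e4⟩
  · have := h3 (mem_cj'.2 ⟨x, mem_zpowers x, rfl⟩)
    rw [← e, mem_cj] at this
    simpa [mul_assoc] using this
  · rw [show g * k = k * (k⁻¹ * g * k) by group, cj_mul, cj_zpowers, eq_of_le_of_card_eq (zpowers_le.2 e5)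
      (by rw [← cj_zpowers, card_cj])]
  · have := h2.2 (zpowers z) (IsPGroup.of_card (n := 1) h.cz) (by simp [h.z1])
    rw [e3] at this
    rw [← e4] at ha ⊢
    exact ⟨⟨a, ha.1⟩, this (mem_cent.2 fun y hy => Subtype.ext (mem_cent.1 ha.2 _ ⟨y, hy, rfl⟩)), rfl⟩
end H20.J4
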